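import Cfsg.Agent.H847.Bs.Defs2
import Cfsg.Agent.ClassicalGeometry.HermWitt
import Cfsg.Agent.H450.Bs.GenU_m3
import Mathlib
import Cfsg.Agent.H743.TvGen
import Cfsg.Agent.H847.Bs.Stmts
import Cfsg.Agent.H24.Bs.GenSp
import Cfsg.Agent.H450.Bs.Herm
import Cfsg.Agent.Lib.Zsigmondy
import Cfsg.Agent.H358.Bs.Amb
import Cfsg.Agent.H177.InvolOrth
import Cfsg.Agent.H182.Torus
import Cfsg.Agent.H932.TypeClass
import Cfsg.Agent.H749.BlockOrth_m3
import Cfsg.Agent.H440.Bs.Rec_m3
import Cfsg.Agent.H765.Bs.Kap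
import Cfsg.Agent.H883.Sub
import Cfsg.Agent.FastGrp
import Cfsg.Agent.Prune
set_option linter.all false

section
prune_inst 0x7ffcebf8abbda9dfdfff7e7fa698cdfc39909fffa4dff943bfe029ffc3df138201c1f38d09e000fc0e23401410a87803f97ec77fe06bd87ffffd1df41ffbee0fe5f7b508519488340fbc0ff603f0778e7f3ffffffffcefffffffffffffffffbeffbfffffffff

-- part: H881/Bs/HermForm
section
prune_inst 0x310000000000000000000000000000000
set_option linter.all false
open scoped Cfsg.Agent.FastGrp

/-!
# S5733: hermitian forms `IsHerm r Φ`: orthonormal bases, isometries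

* `sig` : the automorphism `a ↦ a ^ r` of the field with `r²` elements;
* `exists_onb` : orthonormal bases;
* `exists_isom` : hermitian spaces of the same dimension are isometric.
-/

set_option autoImplicit false
set_option linter.unusedSectionVars false

namespace Cfsg.Agent.H881.Bs

open Cfsg.Agent.H847.Bs Module

section sig

variable {F : Type*} [Field F] {r : ℕ}

theorem exists_prime_pow [Finite F] (hF : Nat.card F = r ^ 2) : ∃ p k : ℕ, p.Prime ∧ CharP F p ∧ 1 ≤ k ∧ r = p ^ k := by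
  have := Fintype.ofFinite F
  obtain ⟨n, hp, hn⟩ := FiniteField.card F (ringChar F)
  have h1 : r ∣ ringChar F ^ (n : ℕ) := by
    rw [← hn, ← Nat.card_eq_fintype_card, hF, pow_two]
    exact Dvd.intro _ rfl
  obtain ⟨k, -, rfl⟩ := (Nat.dvd_prime_pow hp).1 h1
  refine ⟨ringChar F, k, hp, ringChar.charP F, ?_, rfl⟩
  by_contra h0
  have h2 : k = 0 := by omega
  subst h2
  rw [pow_zero, one_pow] at hF
  have h3 : 1 < Nat.card F := Finite.one_lt_card
  omega

theorem two_le_r [Finite F] (hF : Nat.card F = r ^ 2) : 2 ≤ r := by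
  obtain ⟨p, k, hp, -, hk, rfl⟩ := exists_prime_pow hF
  calc 2 ≤ p := hp.two_le
    _ = p ^ 1 := (pow_one p).symm
    _ ≤ p ^ k := Nat.pow_le_pow_right hp.pos hk

theorem add_pow_r {A : Type*} [CommRing A] [Algebra F A] [Finite F] (hF : Nat.card F = r ^ 2) (a b : A) :
    (a + b) ^ r = a ^ r + b ^ r := by
  obtain ⟨p, k, hp, hc, -, rfl⟩ := exists_prime_pow hF
  have := Fact.mk hp
  rcases subsingleton_or_nontrivial A with h | h
  · exact Subsingleton.elim _ _
  · have : CharP A p := charP_of_injective_algebraMap (algebraMap F A).injective p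
    exact add_pow_char_pow _ _ _ _

theorem pow_r_r [Finite F] (hF : Nat.card F = r ^ 2) (a : F) : (a ^ r) ^ r = a := by
  have := Fintype.ofFinite F
  rw [← pow_mul, ← pow_two, ← hF, Nat.card_eq_fintype_card, FiniteField.pow_card]

/-- `a ↦ a ^ r` -/
def sig [Finite F] (hF : Nat.card F = r ^ 2) : F →+* F where
  toFun a := a ^ r
  map_one' := one_pow r
  map_mul' a b := mul_pow a b r
  map_zero' := zero_pow (by have := two_le_r hF; omega)
  map_add' a b := add_pow_r (F := F) hF a b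

theorem sig_apply [Finite F] (hF : Nat.card F = r ^ 2) (a : F) : sig hF a = a ^ r := rfl

theorem sig_sig [Finite F] (hF : Nat.card F = r ^ 2) (a : F) : sig hF (sig hF a) = a := pow_r_r hF a

theorem sig_ne [Finite F] (hF : Nat.card F = r ^ 2) : sig hF ≠ RingHom.id F := by
  intro h
  have hr := two_le_r hF
  have h1 : ∀ a : F, a ^ r = a := fun a => by
    have := congrArg (fun f : F →+* F => f a) h
    exact this
  have h0 : (Polynomial.X ^ r - Polynomial.X : Polynomial F) ≠ 0 := by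
    intro h
    have h1 := congrArg (fun p => Polynomial.coeff p r) h
    simp only [Polynomial.coeff_sub, Polynomial.coeff_X_pow, if_true, Polynomial.coeff_zero] at h1
    rw [Polynomial.coeff_X_of_ne_one (by omega), sub_zero] at h1
    exact one_ne_zero h1
  classical
  have := Fintype.ofFinite F
  have h2 : (Finset.univ : Finset F) ⊆ (Polynomial.X ^ r - Polynomial.X : Polynomial F).roots.toFinset := by
    intro a _
    rw [Multiset.mem_toFinset, Polynomial.mem_roots h0, Polynomial.IsRoot.def, Polynomial.eval_sub,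
      Polynomial.eval_pow, Polynomial.eval_X, h1, sub_self]
  have h3 := (Finset.card_le_card h2).trans ((Multiset.toFinset_card_le _).trans (Polynomial.card_roots' _))
  have h4 := h3.trans (Polynomial.natDegree_sub_le _ _)
  rw [Polynomial.natDegree_X_pow, Polynomial.natDegree_X, Finset.card_univ, ← Nat.card_eq_fintype_card, hF] at h4
  have h5 : r < r ^ 2 := by nlinarith
  have h6 : max r 1 = r := by omega
  omega

end sig

section form

variable {F V : Type*} [Field F] [AddCommGroup V] [Module F V] [Finite F] {r : ℕ} {Φ : Frm F V}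

/-- the sesquilinear form of Mathlib (semilinear in the first variable) -/
def sesq (hΦ : IsHerm r Φ) : V →ₛₗ[sig hΦ.card] V →ₗ[F] F :=
  LinearMap.mk₂'ₛₗ (sig hΦ.card) (RingHom.id F) (fun x y => Φ.B y x)
    (fun x x' y => Φ.add_right y x x')
    (fun a x y => by rw [Φ.smul_right, hΦ.s, smul_eq_mul, sig_apply])
    (fun x y y' => Φ.add_left y y' x)
    (fun a x y => by rw [Φ.smul_left, smul_eq_mul, RingHom.id_apply])

theorem sesq_apply (hΦ : IsHerm r Φ) (x y : V) : sesq hΦ x y = Φ.B y x := rfl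

theorem sesq_symm (hΦ : IsHerm r Φ) : (sesq hΦ).IsSymm := ⟨fun x y => by
  rw [sesq_apply, sesq_apply, sig_apply, hΦ.symm y x]⟩

theorem sesq_sep (hΦ : IsHerm r Φ) : (sesq hΦ).SeparatingLeft := by
  intro x h
  refine hΦ.nd x fun y => ?_
  have h1 : Φ.B y x = 0 := h y
  exact Φ.refl _ _ h1

theorem B_sum_left (Φ : Frm F V) {ι : Type*} (s : Finset ι) (c : ι → F) (f : ι → V) (y : V) :
    Φ.B (∑ i ∈ s, c i • f i) y = ∑ i ∈ s, c i * Φ.B (f i) y := by
  classical
  induction s using Finset.induction_on with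
  | empty =>
    rw [Finset.sum_empty, Finset.sum_empty]
    have := Φ.smul_left 0 0 y
    rwa [zero_smul, zero_mul] at this
  | insert i s hi ih => rw [Finset.sum_insert hi, Finset.sum_insert hi, Φ.add_left, Φ.smul_left, ih]

theorem B_sum_right (Φ : Frm F V) {ι : Type*} (s : Finset ι) (c : ι → F) (f : ι → V) (x : V) :
    Φ.B x (∑ i ∈ s, c i • f i) = ∑ i ∈ s, Φ.s (c i) * Φ.B x (f i) := by
  classical
  induction s using Finset.induction_on with
  | empty =>
    rw [Finset.sum_empty, Finset.sum_empty]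
    have := Φ.add_right x 0 0
    rw [add_zero] at this
    exact left_eq_add.1 this
  | insert i s hi ih => rw [Finset.sum_insert hi, Finset.sum_insert hi, Φ.add_right, Φ.smul_right, ih]

variable [FiniteDimensional F V]

theorem exists_onf (hΦ : IsHerm r Φ) {k : ℕ} (hk : k ≤ finrank F V) :
    ∃ w : Fin k → V, ∀ i l, Φ.B (w i) (w l) = if i = l then 1 else 0 := by
  induction k with
  | zero => exact ⟨fun i => i.elim0, fun i => i.elim0⟩
  | succ k ih =>
    obtain ⟨w, hw⟩ := ih (by omega)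
    have hX : ∀ x ∈ Submodule.span F (Set.range w), (∀ y ∈ Submodule.span F (Set.range w), sesq hΦ x y = 0) →
        x = 0 := by
      intro x hx h
      obtain ⟨c, rfl⟩ := (Submodule.mem_span_range_iff_exists_fun F).1 hx
      refine Finset.sum_eq_zero fun i _ => ?_
      have h1 : Φ.B (w i) (∑ l, c l • w l) = 0 := h (w i) (Submodule.subset_span ⟨i, rfl⟩)
      have h2 := Φ.refl _ _ h1
      rw [B_sum_left] at h2
      simp only [hw, mul_ite, mul_one, mul_zero, Finset.sum_ite_eq', Finset.mem_univ, if_true] at h2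
      rw [h2, zero_smul]
    have hne : Submodule.span F (Set.range w) ≠ ⊤ := by
      intro e
      have h1 : finrank F (Submodule.span F (Set.range w)) ≤ k := by
        have := finrank_range_le_card (R := F) w
        rwa [Fintype.card_fin] at this
      rw [e, finrank_top] at h1
      omega
    obtain ⟨v, -, hv, hvv⟩ := Cfsg.Agent.ClassicalGeometry.HermWitt.exists_unit_perp (sig hΦ.card) (sesq hΦ)
      (sig_ne _) (sig_sig _) (sesq_symm hΦ) (sesq_sep hΦ) _ hX hne
    have hv1 : ∀ i, Φ.B (w i) v = 0 := fun i => hv _ (Submodule.subset_span ⟨i, rfl⟩)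
    have hvv' : Φ.B v v = 1 := hvv
    refine ⟨Fin.snoc w v, fun i l => ?_⟩
    refine Fin.lastCases ?_ (fun i => ?_) i <;> refine Fin.lastCases ?_ (fun l => ?_) l
    · rw [Fin.snoc_last, if_pos rfl]; exact hvv'
    · rw [Fin.snoc_last, Fin.snoc_castSucc, if_neg (Fin.castSucc_lt_last l).ne']; exact Φ.refl _ _ (hv1 l)
    · rw [Fin.snoc_last, Fin.snoc_castSucc, if_neg (Fin.castSucc_lt_last i).ne]; exact hv1 i
    · rw [Fin.snoc_castSucc, Fin.snoc_castSucc, hw]
      simp only [Fin.castSucc_inj]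

/-- **orthonormal bases** -/
theorem exists_onb (hΦ : IsHerm r Φ) : ∃ b : Basis (Fin (finrank F V)) F V,
    ∀ i l, Φ.B (b i) (b l) = if i = l then 1 else 0 := by
  obtain ⟨w, hw⟩ := exists_onf hΦ (k := finrank F V) le_rfl
  have hli : LinearIndependent F w := by
    rw [Fintype.linearIndependent_iff]
    intro c h i
    have h2 : Φ.B (∑ l, c l • w l) (w i) = c i := by
      rw [B_sum_left]
      simp only [hw, mul_ite, mul_one, mul_zero, Finset.sum_ite_eq', Finset.mem_univ, if_true]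
    have h3 : Φ.B 0 (w i) = 0 := by
      have := Φ.smul_left 0 0 (w i)
      rwa [zero_smul, zero_mul] at this
    rw [← h2, h, h3]
  refine ⟨Basis.mk hli (hli.span_eq_top_of_card_eq_finrank' (Fintype.card_fin _)).ge, fun i l => ?_⟩
  rw [Basis.coe_mk]
  exact hw i l

theorem B_eq_sum {n : ℕ} (hΦ : IsHerm r Φ) (b : Basis (Fin n) F V)
    (hb : ∀ i l, Φ.B (b i) (b l) = if i = l then 1 else 0) (x y : V) :
    Φ.B x y = ∑ i, b.repr x i * b.repr y i ^ r := by
  conv_lhs => rw [← b.sum_repr x, ← b.sum_repr y]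
  rw [B_sum_left]
  refine Finset.sum_congr rfl fun i _ => ?_
  rw [B_sum_right]
  simp only [hb, mul_ite, mul_one, mul_zero, Finset.sum_ite_eq, Finset.mem_univ, if_true, hΦ.s]

/-- **hermitian spaces of the same dimension are isometric** -/
theorem exists_isom {V' : Type*} [AddCommGroup V'] [Module F V'] [FiniteDimensional F V'] {Φ' : Frm F V'}
    (hΦ : IsHerm r Φ) (hΦ' : IsHerm r Φ') (h : finrank F V = finrank F V') :
    ∃ e : V ≃ₗ[F] V', ∀ x y, Φ'.B (e x) (e y) = Φ.B x y := by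
  obtain ⟨b, hb⟩ := exists_onb hΦ
  obtain ⟨b', hb'⟩ := exists_onb hΦ'
  refine ⟨b.equiv b' (finCongr h), fun x y => ?_⟩
  rw [B_eq_sum hΦ b hb, B_eq_sum hΦ' b' hb', ← (finCongr h).sum_comp]
  refine Finset.sum_congr rfl fun i _ => ?_
  have h1 : ∀ z : V, b'.repr (b.equiv b' (finCongr h) z) (finCongr h i) = b.repr z i := by
    intro z
    have h2 : (b.equiv b' (finCongr h)) z = ∑ j, b.repr z j • b' (finCongr h j) := by
      conv_lhs => rw [← b.sum_repr z]
      rw [map_sum]
      refine Finset.sum_congr rfl fun j _ => ?_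
      rw [map_smul, Basis.equiv_apply]
    rw [h2, map_sum, Finset.sum_apply']
    simp only [map_smul, Basis.repr_self, Finsupp.smul_single, smul_eq_mul, mul_one]
    rw [Finset.sum_eq_single i]
    · rw [Finsupp.single_eq_same]
    · intro j _ hj
      rw [Finsupp.single_eq_of_ne]
      exact fun h3 => hj ((finCongr h).injective h3.symm)
    · intro h3
      exact absurd (Finset.mem_univ _) h3
  rw [h1, h1]

end form

end Cfsg.Agent.H881.Bs
end

-- part: H881/Bs/HermMinus
section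
prune_inst 0x304045002400020000000584012000245000010000000400042002000a01800040c0080006802004082690800000000811880020024000000e000400000401000080120420400000020018000000000000000000010000000000000000000000000000000
set_option linter.all false
open scoped Cfsg.Agent.FastGrp

-- part: H881/Bs/FieldExt
section
/-!
# S5733: finite field extensions: numbers of non-generators, of roots of unity, of elements of given norm
-/

set_option autoImplicit false

namespace Cfsg.Agent.H881.Bs

open Module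

variable {F L : Type*} [Field F] [Field L] [Algebra F L] [Finite L]

/-- elements which do not generate `L` lie in a proper subfield -/
theorem pow_eq_of_not_gen {t : L} (h : ¬ Gen F t) : ∃ e ∈ (finrank F L).properDivisors, t ^ (Nat.card F ^ e) = t := by
  have hF : Finite F := Finite.of_injective _ (algebraMap F L).injective
  have hfd : FiniteDimensional F L := Module.Finite.of_finite
  have hpos : 0 < finrank F L := finrank_pos
  set K := IntermediateField.adjoin F {t} with hK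
  have h1 : K ≠ ⊤ := by
    intro h1
    apply h
    have h2 : (IntermediateField.adjoin F {t}).toSubalgebra = Algebra.adjoin F {t} :=
      IntermediateField.adjoin_simple_toSubalgebra_of_isAlgebraic (Algebra.IsAlgebraic.isAlgebraic t)
    unfold Gen
    rw [← h2, ← hK, h1, IntermediateField.top_toSubalgebra]
  have h2 : finrank F K * finrank K L = finrank F L := finrank_mul_finrank F K L
  have h3 : finrank K L ≠ 1 := by
    intro h3
    apply h1
    exact IntermediateField.finrank_eq_one_iff_eq_top.1 h3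
  refine ⟨finrank F K, ?_, ?_⟩
  · rw [Nat.mem_properDivisors]
    refine ⟨Dvd.intro _ h2, ?_⟩
    have h4 : 0 < finrank F K := finrank_pos
    have h5 : 0 < finrank K L := finrank_pos
    rw [← h2]
    exact (Nat.lt_mul_iff_one_lt_right h4).2 (by omega)
  · have htK : t ∈ K := IntermediateField.mem_adjoin_simple_self F t
    have h4 : Nat.card K = Nat.card F ^ finrank F K := Module.natCard_eq_pow_finrank
    have : Fintype K := Fintype.ofFinite K
    have h5 : (⟨t, htK⟩ : K) ^ Nat.card K = ⟨t, htK⟩ := by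
      rw [Nat.card_eq_fintype_card]
      exact FiniteField.pow_card _
    rw [h4] at h5
    exact congrArg Subtype.val h5

theorem card_pow_eq_le {n : ℕ} (hn : 1 < n) : Nat.card {t : L // t ^ n = t} ≤ n := by
  classical
  have h0 : (Polynomial.X ^ n - Polynomial.X : Polynomial L) ≠ 0 := by
    intro h
    have h1 := congrArg (fun p => Polynomial.coeff p n) h
    simp only [Polynomial.coeff_sub, Polynomial.coeff_X_pow, if_true, Polynomial.coeff_zero] at h1
    rw [Polynomial.coeff_X_of_ne_one (by omega), sub_zero] at h1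
    exact one_ne_zero h1
  have h1 : Nat.card {t : L // t ^ n = t} ≤ Nat.card ((Polynomial.X ^ n - Polynomial.X : Polynomial L).rootSet L) := by
    refine Nat.card_le_card_of_injective (fun t => ⟨t.1, ?_⟩) fun a b h =>
      Subtype.ext (congrArg (fun x : (Polynomial.X ^ n - Polynomial.X : Polynomial L).rootSet L => (x : L)) h)
    rw [Polynomial.mem_rootSet]
    refine ⟨h0, ?_⟩
    rw [map_sub, map_pow, Polynomial.aeval_X, t.2, sub_self]
  refine h1.trans ((card_rootSet_le _).trans ?_)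
  refine (Polynomial.natDegree_sub_le _ _).trans ?_
  rw [Polynomial.natDegree_X_pow, Polynomial.natDegree_X]
  omega

/-- the number of elements which do not generate `L` -/
theorem card_not_gen_le_sum : Nat.card {t : L // ¬ Gen F t} ≤
    ∑ e ∈ (finrank F L).properDivisors, Nat.card F ^ e := by
  classical
  have hF : Finite F := Finite.of_injective _ (algebraMap F L).injective
  have : Fintype L := Fintype.ofFinite L
  have h1 : Nat.card {t : L // ¬ Gen F t} ≤
      ((finrank F L).properDivisors.biUnion fun e => Finset.univ.filter fun t : L => t ^ (Nat.card F ^ e) = t).card := by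
    rw [Nat.card_eq_fintype_card, Fintype.card_subtype]
    refine Finset.card_le_card fun t ht => ?_
    rw [Finset.mem_filter] at ht
    obtain ⟨e, he, h⟩ := pow_eq_of_not_gen ht.2
    rw [Finset.mem_biUnion]
    exact ⟨e, he, Finset.mem_filter.2 ⟨Finset.mem_univ _, h⟩⟩
  refine h1.trans (Finset.card_biUnion_le.trans (Finset.sum_le_sum fun e he => ?_))
  have h2 : (Finset.univ.filter fun t : L => t ^ (Nat.card F ^ e) = t).card =
      Nat.card {t : L // t ^ (Nat.card F ^ e) = t} := by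
    rw [Nat.card_eq_fintype_card (α := {t : L // t ^ (Nat.card F ^ e) = t}), Fintype.card_subtype]
  rw [h2]
  apply card_pow_eq_le
  have h3 : 1 < Nat.card F := Finite.one_lt_card
  refine Nat.one_lt_pow ?_ h3
  rintro rfl
  rw [Nat.mem_properDivisors] at he
  have h4 : finrank F L = 0 := Nat.eq_zero_of_zero_dvd he.1
  omega

theorem sum_pow_le {q : ℕ} (hq : 2 ≤ q) (m : ℕ) : ∑ e ∈ Finset.range (m + 1), q ^ e ≤ 2 * q ^ m := by
  induction m with
  | zero => simp
  | succ m ih =>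
    rw [Finset.sum_range_succ]
    have h1 : 2 * q ^ m ≤ q ^ (m + 1) := by
      rw [pow_succ, mul_comm]
      exact Nat.mul_le_mul_left _ hq
    omega

/-- all proper divisors at most `m` -/
theorem card_not_gen_le {m : ℕ} (h : ∀ e ∈ (finrank F L).properDivisors, e ≤ m) :
    Nat.card {t : L // ¬ Gen F t} ≤ 2 * Nat.card F ^ m := by
  have hF : Finite F := Finite.of_injective _ (algebraMap F L).injective
  refine card_not_gen_le_sum.trans (le_trans ?_ (sum_pow_le (Finite.one_lt_card (α := F)) m))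
  refine Finset.sum_le_sum_of_subset fun e he => ?_
  rw [Finset.mem_range]
  have := h e he
  omega

theorem card_not_gen_half : Nat.card {t : L // ¬ Gen F t} ≤ 2 * Nat.card F ^ (finrank F L / 2) := by
  refine card_not_gen_le fun e he => ?_
  rw [Nat.mem_properDivisors] at he
  obtain ⟨k, hk⟩ := he.1
  have h1 : 2 ≤ k := by
    by_contra h1
    interval_cases k <;> omega
  rw [Nat.le_div_iff_mul_le (by norm_num), hk]
  exact Nat.mul_le_mul_left _ h1

theorem card_not_gen_third (ho : Odd (finrank F L)) :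
    Nat.card {t : L // ¬ Gen F t} ≤ 2 * Nat.card F ^ (finrank F L / 3) := by
  refine card_not_gen_le fun e he => ?_
  rw [Nat.mem_properDivisors] at he
  obtain ⟨k, hk⟩ := he.1
  have h1 : 3 ≤ k := by
    by_contra h1
    interval_cases k
    · omega
    · omega
    · rw [hk] at ho
      exact absurd ho (by rw [Nat.not_odd_iff_even]; exact ⟨e, by omega⟩)
  rw [Nat.le_div_iff_mul_le (by norm_num), hk]
  exact Nat.mul_le_mul_left _ h1

/-- units instead of elements -/
theorem card_unit_not_gen_le : Nat.card {t : Lˣ // ¬ Gen F (t : L)} ≤ Nat.card {t : L // ¬ Gen F t} :=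
  Nat.card_le_card_of_injective (fun t => ⟨t.1, t.2⟩) fun _ _ h => Subtype.ext (Units.ext (congrArg Subtype.val h))

/-- the number of roots of unity -/
theorem card_pow_eq_one {m : ℕ} (hm : m ∣ Nat.card Lˣ) : Nat.card {t : Lˣ // t ^ m = 1} = m := by
  have h := IsCyclic.card_powMonoidHom_ker (G := Lˣ) m
  rw [Nat.gcd_eq_right hm] at h
  exact h

/-- the number of elements of a subgroup `T` of given image under a homomorphism -/
theorem card_fiber {A B : Type*} [Group A] [Group B] [Finite A] (f : A →* B) {b : B} (hb : b ∈ f.range) :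
    Nat.card {a : A // f a = b} * Nat.card f.range = Nat.card A := by
  obtain ⟨a₀, rfl⟩ := hb
  have h1 : Nat.card {a : A // f a = f a₀} = Nat.card f.ker := by
    refine Nat.card_congr
      { toFun := fun x => ⟨x.1 * a₀⁻¹, by rw [MonoidHom.mem_ker, map_mul, map_inv, x.2, mul_inv_cancel]⟩
        invFun := fun x => ⟨x.1 * a₀, by rw [map_mul, MonoidHom.mem_ker.1 x.2, one_mul]⟩
        left_inv := fun x => by simp
        right_inv := fun x => by simp }
  rw [h1, mul_comm, ← Subgroup.index_ker, Subgroup.index_mul_card]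

/-- equality of minimal polynomials -/
theorem eq_pow_of_minpoly_eq {t u : L} (h : minpoly F t = minpoly F u) : ∃ i, u = t ^ (Nat.card F ^ i) := by
  have hF : Finite F := Finite.of_injective _ (algebraMap F L).injective
  have hfd : FiniteDimensional F L := Module.Finite.of_finite
  have hgal : IsGalois F L := inferInstance
  obtain ⟨p, hp⟩ := CharP.exists F
  have : Fact p.Prime := ⟨CharP.char_is_prime F p⟩
  have hn : Normal F L := inferInstance
  obtain ⟨σ, hσ⟩ := (Normal.minpoly_eq_iff_mem_orbit L (x := u) (y := t)).1 h.symm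
  obtain ⟨i, hi⟩ := FiniteField.exists_forall_apply_eq_pow F p L σ
  refine ⟨i, ?_⟩
  rw [← hi]
  exact hσ.symm

end Cfsg.Agent.H881.Bs
end

-- part: H881/Bs/HermMinus
section
/-!
# S5733 (BS06): irreducible isometries of hermitian spaces of odd dimension
-/

set_option autoImplicit false
set_option linter.unusedSectionVars false

namespace Cfsg.Agent.H881.Bs

open Cfsg.Agent.H847.Bs Module

section field

variable {F : Type*} [Field F] [Finite F] {r : ℕ}

theorem add_pow_rn {A : Type*} [CommRing A] [Algebra F A] (hF : Nat.card F = r ^ 2) (n : ℕ) (a b : A) :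
    (a + b) ^ (r ^ n) = a ^ (r ^ n) + b ^ (r ^ n) := by
  induction n with
  | zero => rw [pow_zero, pow_one, pow_one, pow_one]
  | succ n ih => rw [pow_succ r n, pow_mul, pow_mul, pow_mul, ih, add_pow_r (F := F) hF]

theorem pow_r_even (hF : Nat.card F = r ^ 2) (k : ℕ) (a : F) : a ^ (r ^ (2 * k)) = a := by
  have := Fintype.ofFinite F
  rw [pow_mul, ← hF, Nat.card_eq_fintype_card]
  exact FiniteField.pow_card_pow k a

/-- on `F`, the `r ^ d`-th power is the `r`-th power, `d` odd -/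
theorem pow_r_odd (hF : Nat.card F = r ^ 2) {d : ℕ} (ho : Odd d) (a : F) : a ^ (r ^ d) = a ^ r := by
  obtain ⟨k, rfl⟩ := ho
  rw [pow_succ r (2 * k), pow_mul, pow_r_even hF]

variable {L : Type*} [Field L] [Algebra F L] [Finite L]

theorem card_ext (hF : Nat.card F = r ^ 2) : Nat.card L = r ^ (2 * finrank F L) := by
  rw [Module.natCard_eq_pow_finrank (K := F), hF, ← pow_mul]

theorem bar_bar (hF : Nat.card F = r ^ 2) (x : L) : (x ^ (r ^ finrank F L)) ^ (r ^ finrank F L) = x := by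
  have := Fintype.ofFinite L
  rw [← pow_mul, ← pow_add, ← two_mul, ← card_ext hF, Nat.card_eq_fintype_card, FiniteField.pow_card]

theorem trace_bar (hF : Nat.card F = r ^ 2) (ho : Odd (finrank F L)) (x : L) :
    Algebra.trace F L (x ^ (r ^ finrank F L)) = Algebra.trace F L x ^ r := by
  apply (algebraMap F L).injective
  have e1 : algebraMap F L (Algebra.trace F L x ^ r) = (algebraMap F L (Algebra.trace F L x)) ^ (r ^ finrank F L) := by
    rw [← pow_r_odd hF ho, map_pow]
  rw [e1, FiniteField.algebraMap_trace_eq_sum_pow, FiniteField.algebraMap_trace_eq_sum_pow]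
  have h : ∀ s : Finset ℕ, (∑ i ∈ s, x ^ (Nat.card F ^ i)) ^ (r ^ finrank F L) =
      ∑ i ∈ s, (x ^ (r ^ finrank F L)) ^ (Nat.card F ^ i) := by
    intro s
    classical
    induction s using Finset.induction_on with
    | empty =>
      have := two_le_r hF
      rw [Finset.sum_empty, Finset.sum_empty, zero_pow (by positivity)]
    | insert i s hi ih =>
      rw [Finset.sum_insert hi, Finset.sum_insert hi, add_pow_rn (F := F) hF, ih, ← pow_mul, ← pow_mul, mul_comm]
  exact (h _).symm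

variable (L) in
/-- the hermitian form `Tr (x y^(r^d))` -/
noncomputable def minusFrm (hF : Nat.card F = r ^ 2) (ho : Odd (finrank F L)) : Frm F L where
  B x y := Algebra.trace F L (x * y ^ (r ^ finrank F L))
  q _ := 0
  s a := a ^ r
  add_left x y z := by rw [add_mul, map_add]
  add_right x y z := by rw [add_pow_rn (F := F) hF, mul_add, map_add]
  smul_left a x y := by rw [smul_mul_assoc, map_smul, smul_eq_mul]
  smul_right a x y := by
    rw [Algebra.smul_def, mul_pow, ← map_pow, pow_r_odd hF ho, mul_left_comm, ← Algebra.smul_def, map_smul, smul_eq_mul]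
  refl x y h := by
    have h1 : Algebra.trace F L (y * x ^ (r ^ finrank F L)) = Algebra.trace F L (x * y ^ (r ^ finrank F L)) ^ r := by
      rw [← trace_bar hF ho, mul_pow, bar_bar hF, mul_comm]
    have := two_le_r hF
    rw [h1, h, zero_pow (by omega)]
  q_add _ _ _ := (add_zero 0).symm

theorem exists_trace_ne {x : L} (hx : x ≠ 0) : ∃ y : L, Algebra.trace F L (x * y) ≠ 0 := by
  have hfd : FiniteDimensional F L := Module.Finite.of_finite
  have htr := (traceForm_nondegenerate F L).1 x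
  simp_rw [Algebra.traceForm_apply] at htr
  by_contra! hf
  exact hx (htr hf)

theorem isHerm_minus (hF : Nat.card F = r ^ 2) (ho : Odd (finrank F L)) : IsHerm r (minusFrm L hF ho) where
  nd x h := by
    by_contra hx
    obtain ⟨y, hy⟩ := exists_trace_ne (F := F) hx
    apply hy
    have h1 := h (y ^ (r ^ finrank F L))
    change Algebra.trace F L (x * (y ^ (r ^ finrank F L)) ^ (r ^ finrank F L)) = 0 at h1
    rwa [bar_bar hF] at h1
  card := hF
  s _ := rfl
  q _ := rfl
  symm x y := by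
    change Algebra.trace F L (y * x ^ (r ^ finrank F L)) = Algebra.trace F L (x * y ^ (r ^ finrank F L)) ^ r
    rw [← trace_bar hF ho, mul_pow, bar_bar hF, mul_comm]

variable {V : Type*} [AddCommGroup V] [Module F V] {Φ : Frm F V}

/-- the multiplications which are isometries -/
theorem mu_mem_iff (hF : Nat.card F = r ^ 2) (ho : Odd (finrank F L)) (hΦ : IsHerm r Φ) (e : V ≃ₗ[F] L)
    (he : ∀ x y, (minusFrm L hF ho).B (e x) (e y) = Φ.B x y) (t : Lˣ) :
    mu e t ∈ Φ.Iso ↔ t ^ (r ^ finrank F L + 1) = 1 := by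
  have hB : ∀ x y, Φ.B (mu e t x) (mu e t y) =
      Algebra.trace F L (((t : L) ^ (r ^ finrank F L + 1)) * (e x * (e y) ^ (r ^ finrank F L))) := by
    intro x y
    rw [← he, e_mu, e_mu]
    change Algebra.trace F L ((t * e x) * (t * e y) ^ (r ^ finrank F L)) = _
    rw [mul_pow, pow_succ]
    congr 1
    ring
  constructor
  · intro h
    by_contra hne
    have h1 : (t : L) ^ (r ^ finrank F L + 1) - 1 ≠ 0 := by
      intro h1
      apply hne
      apply Units.ext
      rw [Units.val_pow_eq_pow_val, Units.val_one]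
      exact sub_eq_zero.1 h1
    obtain ⟨y, hy⟩ := exists_trace_ne (F := F) h1
    apply hy
    have h2 := h.1 (e.symm y) (e.symm 1)
    rw [hB, e.apply_symm_apply, e.apply_symm_apply, one_pow, mul_one, ← he, e.apply_symm_apply,
      e.apply_symm_apply] at h2
    change _ = Algebra.trace F L (y * 1 ^ (r ^ finrank F L)) at h2
    rw [one_pow, mul_one] at h2
    rw [sub_mul, one_mul, map_sub, h2, sub_self]
  · intro h
    refine ⟨fun x y => ?_, fun x => by rw [hΦ.q, hΦ.q]⟩
    have h1 : (t : L) ^ (r ^ finrank F L + 1) = 1 := by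
      rw [← Units.val_pow_eq_pow_val, h, Units.val_one]
    rw [hB, h1, one_mul, ← he]
    rfl

theorem card_T (hF : Nat.card F = r ^ 2) : Nat.card {t : Lˣ // t ^ (r ^ finrank F L + 1) = 1} = r ^ finrank F L + 1 := by
  apply card_pow_eq_one
  rw [Nat.card_units, card_ext hF]
  refine ⟨r ^ finrank F L - 1, ?_⟩
  rw [two_mul, pow_add, ← Nat.sq_sub_sq, one_pow, pow_two]

/-- generators in a subset of the units -/
theorem card_gen_ge (ho : Odd (finrank F L)) (S : Set Lˣ) :
    Nat.card S ≤ Nat.card {t : Lˣ // t ∈ S ∧ Gen F (t : L)} + 2 * Nat.card F ^ (finrank F L / 3) := by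
  classical
  have h1 : Nat.card S ≤ Nat.card {t : Lˣ // t ∈ S ∧ Gen F (t : L)} + Nat.card {t : Lˣ // ¬ Gen F (t : L)} := by
    have := Fintype.ofFinite Lˣ
    rw [Nat.card_eq_fintype_card, Nat.card_eq_fintype_card, Nat.card_eq_fintype_card, ← Set.toFinset_card,
      Fintype.card_subtype, Fintype.card_subtype]
    refine (Finset.card_le_card ?_).trans (Finset.card_union_le _ _)
    intro t ht
    rw [Set.mem_toFinset] at ht
    simp only [Finset.mem_union, Finset.mem_filter, Finset.mem_univ, true_and]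
    tauto
  exact h1.trans (Nat.add_le_add_left (card_unit_not_gen_le.trans (card_not_gen_third ho)) _)

end field

section count

variable {F V : Type*} [Field F] [AddCommGroup V] [Module F V] [Finite F] [FiniteDimensional F V] {r d : ℕ} {Φ : Frm F V}

theorem irr_conj {x g : V ≃ₗ[F] V} (h : Irr x (⊤ : Submodule F V)) : Irr (g * x * g⁻¹) (⊤ : Submodule F V) where
  inv := fun _ _ => Submodule.mem_top
  ne_bot := h.ne_bot
  min := by
    intro Y _ hY
    have h1 := h.min (Y.comap (g : V →ₗ[F] V)) le_top (by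
      intro v hv
      rw [Submodule.mem_comap] at hv ⊢
      have h2 := hY _ hv
      have h3 : (g * x * g⁻¹) ((g : V →ₗ[F] V) v) = g (x v) := by
        change g (x (g.symm (g v))) = _
        rw [g.symm_apply_apply]
      rw [h3] at h2
      exact h2)
    rcases h1 with h1 | h1
    · left
      rw [eq_bot_iff]
      intro v hv
      have h2 : g.symm v ∈ Y.comap (g : V →ₗ[F] V) := by
        rw [Submodule.mem_comap]
        change g (g.symm v) ∈ Y
        rwa [g.apply_symm_apply]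
      rw [h1, Submodule.mem_bot, LinearEquiv.map_eq_zero_iff] at h2
      rwa [Submodule.mem_bot]
    · right
      rw [eq_top_iff]
      intro v _
      have h2 : g.symm v ∈ Y.comap (g : V →ₗ[F] V) := by rw [h1]; exact Submodule.mem_top
      rw [Submodule.mem_comap] at h2
      change g (g.symm v) ∈ Y at h2
      rwa [g.apply_symm_apply] at h2

theorem det_mu {L : Type*} [Field L] [Algebra F L] (e : V ≃ₗ[F] L) (t : Lˣ) :
    LinearMap.det (mu e t : V →ₗ[F] V) = Algebra.norm F (t : L) := by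
  have h1 : (mu e t : V →ₗ[F] V) = (e.symm : L →ₗ[F] V) ∘ₗ (Algebra.lmul F L (t : L)) ∘ₗ (e : V →ₗ[F] L) := by
    ext v
    rfl
  rw [h1]
  have h2 := LinearMap.det_conj (Algebra.lmul F L (t : L)) e.symm
  rw [LinearEquiv.symm_symm] at h2
  rw [Algebra.norm_apply]
  exact h2

theorem det_conj' (x g : V ≃ₗ[F] V) :
    LinearMap.det ((g * x * g⁻¹ : V ≃ₗ[F] V) : V →ₗ[F] V) = LinearMap.det (x : V →ₗ[F] V) := by
  have h2 := LinearMap.det_conj (x : V →ₗ[F] V) g
  exact h2

theorem finite_equiv' (F V : Type*) [Field F] [AddCommGroup V] [Module F V] [Finite V] : Finite (V ≃ₗ[F] V) :=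
  Finite.of_injective (fun g : V ≃ₗ[F] V => (g : V → V)) DFunLike.coe_injective

/-- the counting argument, with a condition on the determinant -/
theorem minus_count (hΦ : IsHerm r Φ) (hd : finrank F V = d) (ho : Odd d) (P : F → Prop) :
    ∃ (L : Type) (_ : Field L) (_ : Algebra F L) (_ : Finite L), finrank F L = d ∧
    Nat.card Φ.Iso * Nat.card {t : Lˣ // (t ^ (r ^ d + 1) = 1 ∧ P (Algebra.norm F (t : L))) ∧ Gen F (t : L)} ≤
      d * (r ^ d + 1) * Nat.card {x : V ≃ₗ[F] V // x ∈ Φ.Bm ∧ P (LinearMap.det (x : V →ₗ[F] V))} := by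
  have hVfin : Finite V := Module.finite_of_finite F
  have hGfin := finite_equiv' F V
  obtain ⟨p, hp⟩ := CharP.exists F
  have hpf : Fact p.Prime := ⟨CharP.char_is_prime F p⟩
  have hd0 : NeZero d := ⟨by rintro rfl; exact absurd ho (by decide)⟩
  have hL : finrank F (FiniteField.Extension F p d) = d := FiniteField.finrank_extension F p d
  refine ⟨FiniteField.Extension F p d, inferInstance, inferInstance, inferInstance, hL, ?_⟩
  set L := FiniteField.Extension F p d with hLdef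
  have ho' : Odd (finrank F L) := by rw [hL]; exact ho
  have hF := hΦ.card
  obtain ⟨e, he⟩ := exists_isom hΦ (isHerm_minus (L := L) hF ho') (by rw [hd, hL])
  have h1 := irr_count e Φ.Iso {t : Lˣ | (t ^ (r ^ d + 1) = 1 ∧ P (Algebra.norm F (t : L))) ∧ Gen F (t : L)}
    (fun t ht => ht.2)
  rw [hd] at h1
  have h2 : Nat.card {c : Lˣ // mu e c ∈ Φ.Iso} = r ^ d + 1 := by
    have h3 := card_T (L := L) hF
    rw [hL] at h3
    rw [← h3]
    refine Nat.card_congr (Equiv.subtypeEquivRight fun t => ?_)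
    rw [mu_mem_iff hF ho' hΦ e he, hL]
  rw [h2] at h1
  refine h1.trans (Nat.mul_le_mul_left _ ?_)
  refine Nat.card_le_card_of_injective (fun z => (⟨z.1, ?_⟩ :
    {x : V ≃ₗ[F] V // x ∈ Φ.Bm ∧ P (LinearMap.det (x : V →ₗ[F] V))})) fun a b h => Subtype.ext (Subtype.mk.inj h)
  obtain ⟨g, hg, t, ht, hz⟩ := z.2
  have ht' : mu e t ∈ Φ.Iso := by
    rw [mu_mem_iff hF ho' hΦ e he, hL]
    exact ht.1.1
  rw [hz]
  refine ⟨⟨Φ.Iso.mul_mem (Φ.Iso.mul_mem hg ht') (Φ.Iso.inv_mem hg), irr_conj (irr_mu e ht.2)⟩, ?_⟩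
  rw [det_conj', det_mu]
  exact ht.1.2

end count

section numeric

theorem num_aux (m i : ℕ) : (1 : ℝ) ≤ (4 / 5 : ℝ) ^ (3 * m + i) * 2 ^ (m + i) := by
  have h1 : (4 / 5 : ℝ) ^ (3 * m + i) * 2 ^ (m + i) = (128 / 125 : ℝ) ^ m * (8 / 5 : ℝ) ^ i := by
    rw [pow_add, pow_add, pow_mul]
    calc ((4 / 5 : ℝ) ^ 3) ^ m * (4 / 5) ^ i * (2 ^ m * 2 ^ i) = (((4 / 5 : ℝ) ^ 3) ^ m * 2 ^ m) * ((4 / 5) ^ i * 2 ^ i) := by
          ring
      _ = ((4 / 5 : ℝ) ^ 3 * 2) ^ m * ((4 / 5) * 2) ^ i := by rw [mul_pow, mul_pow]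
      _ = (128 / 125 : ℝ) ^ m * (8 / 5 : ℝ) ^ i := by norm_num
  rw [h1]
  have h2 : (1 : ℝ) ≤ (128 / 125 : ℝ) ^ m := one_le_pow₀ (by norm_num)
  have h3 : (1 : ℝ) ≤ (8 / 5 : ℝ) ^ i := one_le_pow₀ (by norm_num)
  nlinarith only [h2, h3]

/-- `2 r^(2 (d/3)) ≤ 16 (4/5)^d (r^d + 1)` -/
theorem num_minus {r : ℕ} (hr : 2 ≤ r) (d : ℕ) :
    (2 * ((r : ℝ) ^ 2) ^ (d / 3)) ≤ 16 * (4 / 5 : ℝ) ^ d * ((r : ℝ) ^ d + 1) := by
  obtain ⟨m, i, hm, rfl⟩ : ∃ m i : ℕ, d / 3 = m ∧ d = 3 * m + i := ⟨d / 3, d % 3, rfl, (Nat.div_add_mod d 3).symm⟩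
  rw [hm]
  have hr' : (2 : ℝ) ≤ r := by exact_mod_cast hr
  have h1 := num_aux m i
  have h2 : (2 : ℝ) ^ (m + i) ≤ (r : ℝ) ^ (m + i) := pow_le_pow_left₀ (by norm_num) hr' _
  have h3 : (r : ℝ) ^ (3 * m + i) = ((r : ℝ) ^ 2) ^ m * (r : ℝ) ^ (m + i) := by
    rw [← pow_mul, ← pow_add]
    congr 1
    omega
  have h4 : (0 : ℝ) < (4 / 5 : ℝ) ^ (3 * m + i) := by positivity
  have h5 : (0 : ℝ) < ((r : ℝ) ^ 2) ^ m := by positivity
  have h6 : (1 : ℝ) ≤ (4 / 5 : ℝ) ^ (3 * m + i) * (r : ℝ) ^ (m + i) :=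
    h1.trans (mul_le_mul_of_nonneg_left h2 h4.le)
  calc 2 * ((r : ℝ) ^ 2) ^ m ≤ 16 * ((r : ℝ) ^ 2) ^ m * 1 := by linarith only [h5]
    _ ≤ 16 * ((r : ℝ) ^ 2) ^ m * ((4 / 5 : ℝ) ^ (3 * m + i) * (r : ℝ) ^ (m + i)) :=
        mul_le_mul_of_nonneg_left h6 (by positivity)
    _ = 16 * (4 / 5 : ℝ) ^ (3 * m + i) * (r : ℝ) ^ (3 * m + i) := by rw [h3]; ring
    _ ≤ 16 * (4 / 5 : ℝ) ^ (3 * m + i) * ((r : ℝ) ^ (3 * m + i) + 1) := by linarith only [h4]

end numeric

section norm

variable {F : Type*} [Field F] [Finite F] {r : ℕ} {L : Type*} [Field L] [Algebra F L] [Finite L]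

theorem units_pow_odd (hF : Nat.card F = r ^ 2) {d : ℕ} (ho : Odd d) (a : Fˣ) : a ^ (r ^ d) = a ^ r := by
  apply Units.ext
  rw [Units.val_pow_eq_pow_val, Units.val_pow_eq_pow_val, pow_r_odd hF ho]

/-- the elements of `F` of norm one are the `(r-1)`-th powers -/
theorem exists_pow_eq (hF : Nat.card F = r ^ 2) {κ : Fˣ} (h : κ ^ (r + 1) = 1) : ∃ l : Fˣ, l ^ (r - 1) = κ := by
  have hr := two_le_r hF
  have hcard : Nat.card Fˣ = (r + 1) * (r - 1) := by
    rw [Nat.card_units, hF, ← Nat.sq_sub_sq, one_pow]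
  have h1 : Nat.card (powMonoidHom (r - 1) : Fˣ →* Fˣ).range = r + 1 := by
    rw [IsCyclic.card_powMonoidHom_range, hcard, Nat.gcd_eq_right (Dvd.intro_left _ rfl)]
    exact Nat.mul_div_cancel _ (by omega)
  have h2 : Nat.card (powMonoidHom (r + 1) : Fˣ →* Fˣ).ker = r + 1 := by
    rw [IsCyclic.card_powMonoidHom_ker, hcard, Nat.gcd_eq_right (Dvd.intro _ rfl)]
  have h3 : (powMonoidHom (r - 1) : Fˣ →* Fˣ).range ≤ (powMonoidHom (r + 1) : Fˣ →* Fˣ).ker := by
    rintro _ ⟨l, rfl⟩
    rw [MonoidHom.mem_ker]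
    change (l ^ (r - 1)) ^ (r + 1) = 1
    rw [← pow_mul, mul_comm, ← hcard]
    exact pow_card_eq_one'
  have h4 := Subgroup.eq_of_le_of_card_ge h3 (by rw [h1, h2])
  have h5 : κ ∈ (powMonoidHom (r + 1) : Fˣ →* Fˣ).ker := h
  rw [← h4] at h5
  exact h5

/-- the number of elements of `T` of given norm -/
theorem card_norm (hF : Nat.card F = r ^ 2) (ho : Odd (finrank F L)) {κ : F} (hκ : κ ^ (r + 1) = 1) :
    Nat.card {t : Lˣ // t ^ (r ^ finrank F L + 1) = 1 ∧ Algebra.norm F (t : L) = κ} * (r + 1) =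
      r ^ finrank F L + 1 := by
  have hr := two_le_r hF
  set N : Lˣ →* Fˣ := Units.map (Algebra.norm F) with hN
  set T : Subgroup Lˣ := (powMonoidHom (r ^ finrank F L + 1) : Lˣ →* Lˣ).ker with hT
  set f : T →* Fˣ := N.comp T.subtype with hf
  have hcardF : Nat.card Fˣ = (r + 1) * (r - 1) := by
    rw [Nat.card_units, hF, ← Nat.sq_sub_sq, one_pow]
  have hcardL : Nat.card Lˣ = (r ^ finrank F L + 1) * (r ^ finrank F L - 1) := by
    rw [Nat.card_units, card_ext hF, ← Nat.sq_sub_sq, one_pow, ← pow_mul, mul_comm 2]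
  have hrange : f.range = (powMonoidHom (r + 1) : Fˣ →* Fˣ).ker := by
    ext k
    constructor
    · rintro ⟨t, rfl⟩
      rw [MonoidHom.mem_ker]
      change (N t) ^ (r + 1) = 1
      have h1 : (t : Lˣ) ^ (r ^ finrank F L + 1) = 1 := t.2
      have h2 : N t ^ (r ^ finrank F L + 1) = 1 := by rw [← map_pow, h1, map_one]
      rw [pow_succ, units_pow_odd hF ho, ← pow_succ] at h2
      exact h2
    · intro hk
      obtain ⟨l, hl⟩ := exists_pow_eq hF (κ := k) hk
      obtain ⟨y, hy⟩ := FiniteField.unitsMap_norm_surjective F L l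
      refine ⟨⟨y ^ (r ^ finrank F L - 1), ?_⟩, ?_⟩
      · rw [hT, MonoidHom.mem_ker]
        change (y ^ (r ^ finrank F L - 1)) ^ (r ^ finrank F L + 1) = 1
        rw [← pow_mul, mul_comm, ← hcardL]
        exact pow_card_eq_one'
      · change N (y ^ (r ^ finrank F L - 1)) = k
        rw [map_pow, hN, hy, ← hl]
        have h1 : 1 ≤ r ^ finrank F L := Nat.one_le_pow _ _ (by omega)
        have h2 : l ^ (r ^ finrank F L - 1) * l = l ^ (r - 1) * l := by
          rw [← pow_succ, ← pow_succ, Nat.sub_add_cancel h1, Nat.sub_add_cancel (by omega), units_pow_odd hF ho]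
        exact mul_right_cancel h2
  have hκ0 : κ ≠ 0 := by
    rintro rfl
    rw [zero_pow (by omega)] at hκ
    exact zero_ne_one hκ
  have hmem : Units.mk0 κ hκ0 ∈ f.range := by
    rw [hrange, MonoidHom.mem_ker]
    exact Units.ext hκ
  have h1 := card_fiber f hmem
  have h2 : Nat.card f.range = r + 1 := by
    rw [hrange, IsCyclic.card_powMonoidHom_ker, hcardF, Nat.gcd_eq_right (Dvd.intro _ rfl)]
  have h3 : Nat.card T = r ^ finrank F L + 1 := by
    rw [hT, IsCyclic.card_powMonoidHom_ker, hcardL, Nat.gcd_eq_right (Dvd.intro _ rfl)]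
  rw [h2, h3] at h1
  have h4 : Nat.card {t : Lˣ // t ^ (r ^ finrank F L + 1) = 1 ∧ Algebra.norm F (t : L) = κ} =
      Nat.card {a : T // f a = Units.mk0 κ hκ0} := by
    refine Nat.card_congr
      { toFun := fun t => ⟨⟨t.1, t.2.1⟩, Units.ext t.2.2⟩
        invFun := fun t => ⟨t.1.1, t.1.2, congrArg Units.val t.2⟩
        left_inv := fun t => rfl
        right_inv := fun t => rfl }
  rw [h4, h1]

end norm

theorem num_adj {r : ℕ} (hr : 2 ≤ r) {d : ℕ} (hd : 9 ≤ d) :
    8 * (r + 1) * (r ^ 2) ^ (d / 3) ≤ 3 * (r ^ d + 1) := by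
  obtain ⟨m, i, hm, rfl⟩ : ∃ m i : ℕ, d / 3 = m ∧ d = 3 * m + i := ⟨d / 3, d % 3, rfl, (Nat.div_add_mod d 3).symm⟩
  rw [hm]
  have hm3 : 3 ≤ m := by omega
  have h1 : r ^ (3 * m) ≤ r ^ (3 * m + i) := Nat.pow_le_pow_right (by omega) (by omega)
  have h2 : r ^ (3 * m) = (r ^ 2) ^ m * r ^ m := by
    rw [← pow_mul, ← pow_add]
    congr 1
    omega
  have h3 : 8 * (r + 1) ≤ 3 * r ^ m := by
    have h4 : r ^ 3 ≤ r ^ m := Nat.pow_le_pow_right (by omega) hm3
    have h5 : 8 * (r + 1) ≤ 3 * r ^ 3 := by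
      have h6 : r ^ 3 = r * r * r := by ring
      nlinarith only [hr, _root_.mul_self_nonneg (↑r : ℤ), _root_.Nat.cast_nonneg (α := ℤ) (r)]
    omega
  calc 8 * (r + 1) * (r ^ 2) ^ m ≤ 3 * r ^ m * (r ^ 2) ^ m := Nat.mul_le_mul_right _ h3
    _ = 3 * r ^ (3 * m) := by rw [h2]; ring
    _ ≤ 3 * (r ^ (3 * m + i) + 1) := by omega

section main

variable {F V : Type*} [Field F] [AddCommGroup V] [Module F V] [Finite F] [FiniteDimensional F V] {r d : ℕ} {Φ : Frm F V}

/-- **BS06 (1).** -/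
theorem herm_minus (hΦ : IsHerm r Φ) (hd : finrank F V = d) (ho : Odd d) :
    ar d / d * (Nat.card Φ.Iso : ℝ) ≤ Nat.card Φ.Bm := by
  obtain ⟨L, _, _, _, hL, h⟩ := minus_count hΦ hd ho (fun _ => True)
  have hF := hΦ.card
  have hr := two_le_r hF
  have ho' : Odd (finrank F L) := by rw [hL]; exact ho
  have h1 := card_gen_ge (F := F) (L := L) ho' {t : Lˣ | t ^ (r ^ d + 1) = 1 ∧ True}
  have h2 : Nat.card ({t : Lˣ | t ^ (r ^ d + 1) = 1 ∧ True} : Set Lˣ) = r ^ d + 1 := by
    have h3 := card_T (L := L) hF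
    rw [hL] at h3
    conv_rhs => rw [← h3]
    exact Nat.card_congr (Equiv.subtypeEquivRight fun t => by simp)
  have h3 : Nat.card {x : V ≃ₗ[F] V // x ∈ Φ.Bm ∧ True} = Nat.card Φ.Bm :=
    Nat.card_congr (Equiv.subtypeEquivRight fun x => by simp)
  rw [h3] at h
  rw [h2, hL, hF] at h1
  set E := Nat.card {t : Lˣ // (t ^ (r ^ d + 1) = 1 ∧ True) ∧ Gen F (t : L)} with hE
  have hEeq : Nat.card {t : Lˣ // t ∈ ({t : Lˣ | t ^ (r ^ d + 1) = 1 ∧ True} : Set Lˣ) ∧ Gen F (t : L)} = E := rfl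
  rw [hEeq] at h1
  have hd0 : (0 : ℝ) < d := by
    have : d ≠ 0 := by rintro rfl; exact absurd ho (by decide)
    exact_mod_cast Nat.pos_of_ne_zero this
  have h1' : ((r : ℝ) ^ d + 1) ≤ E + 2 * ((r : ℝ) ^ 2) ^ (d / 3) := by exact_mod_cast h1
  have h4 := num_minus hr d
  have h5 : ar d * ((r : ℝ) ^ d + 1) ≤ E := by
    unfold ar
    linarith only [h1', h4]
  have h' : (Nat.card Φ.Iso : ℝ) * E ≤ d * ((r : ℝ) ^ d + 1) * Nat.card Φ.Bm := by exact_mod_cast h
  have h6 : (0 : ℝ) < (r : ℝ) ^ d + 1 := by positivity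
  have h7 : (0 : ℝ) ≤ Nat.card Φ.Iso := Nat.cast_nonneg _
  rw [div_mul_eq_mul_div, div_le_iff₀ hd0]
  have h8 : ar d * (Nat.card Φ.Iso : ℝ) * ((r : ℝ) ^ d + 1) ≤ (Nat.card Φ.Bm * d : ℝ) * ((r : ℝ) ^ d + 1) := by
    calc ar d * (Nat.card Φ.Iso : ℝ) * ((r : ℝ) ^ d + 1) = (Nat.card Φ.Iso : ℝ) * (ar d * ((r : ℝ) ^ d + 1)) := by ring
      _ ≤ (Nat.card Φ.Iso : ℝ) * E := mul_le_mul_of_nonneg_left h5 h7
      _ ≤ d * ((r : ℝ) ^ d + 1) * Nat.card Φ.Bm := h'
      _ = (Nat.card Φ.Bm * d : ℝ) * ((r : ℝ) ^ d + 1) := by ring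
  exact le_of_mul_le_mul_right h8 h6

/-- **BS06 (3).** -/
theorem herm_adj (hΦ : IsHerm r Φ) (hd : finrank F V = d) (ho : Odd d) (h9 : 9 ≤ d) {κ : F} (hκ : κ ^ (r + 1) = 1) :
    Nat.card Φ.Iso ≤ 4 * d * (r + 1) *
      Nat.card {x : V ≃ₗ[F] V // x ∈ Φ.Bm ∧ LinearMap.det (x : V →ₗ[F] V) = κ} := by
  obtain ⟨L, _, _, _, hL, h⟩ := minus_count hΦ hd ho (fun a => a = κ)
  have hF := hΦ.card
  have hr := two_le_r hF
  have ho' : Odd (finrank F L) := by rw [hL]; exact ho
  have h1 := card_gen_ge (F := F) (L := L) ho' {t : Lˣ | t ^ (r ^ d + 1) = 1 ∧ Algebra.norm F (t : L) = κ}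
  have h2 := card_norm (L := L) hF ho' hκ
  rw [hL] at h2
  rw [hL, hF] at h1
  set E := Nat.card {t : Lˣ // (t ^ (r ^ d + 1) = 1 ∧ Algebra.norm F (t : L) = κ) ∧ Gen F (t : L)} with hE
  have hEeq : Nat.card {t : Lˣ // t ∈ ({t : Lˣ | t ^ (r ^ d + 1) = 1 ∧ Algebra.norm F (t : L) = κ} : Set Lˣ) ∧
    Gen F (t : L)} = E := rfl
  set S := Nat.card {t : Lˣ // t ^ (r ^ d + 1) = 1 ∧ Algebra.norm F (t : L) = κ} with hS
  have hSeq : Nat.card ({t : Lˣ | t ^ (r ^ d + 1) = 1 ∧ Algebra.norm F (t : L) = κ} : Set Lˣ) = S := rfl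
  rw [hEeq, hSeq] at h1
  set C := Nat.card {x : V ≃ₗ[F] V // x ∈ Φ.Bm ∧ LinearMap.det (x : V →ₗ[F] V) = κ} with hC
  have h4 := num_adj hr h9
  -- `r ^ d + 1 ≤ 4 (r + 1) E`
  have h5 : r ^ d + 1 ≤ 4 * (r + 1) * E := by
    have h6 : S * (r + 1) ≤ (E + 2 * (r ^ 2) ^ (d / 3)) * (r + 1) := Nat.mul_le_mul_right _ h1
    rw [h2] at h6
    linarith only [h4, h6]
  have h6 : Nat.card Φ.Iso * (r ^ d + 1) ≤ (4 * d * (r + 1) * C) * (r ^ d + 1) := by
    calc Nat.card Φ.Iso * (r ^ d + 1) ≤ Nat.card Φ.Iso * (4 * (r + 1) * E) := Nat.mul_le_mul_left _ h5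
      _ = 4 * (r + 1) * (Nat.card Φ.Iso * E) := by ring
      _ ≤ 4 * (r + 1) * (d * (r ^ d + 1) * C) := Nat.mul_le_mul_left _ h
      _ = (4 * d * (r + 1) * C) * (r ^ d + 1) := by ring
  exact Nat.le_of_mul_le_mul_right h6 (Nat.succ_pos _)

end main

end Cfsg.Agent.H881.Bs
end
end

-- part: H806/Bs/Tv
section
prune_inst 0x310000000000000000000000000000000
set_option linter.all false
open scoped Cfsg.Agent.FastGrp

/-!
# Full transvection groups: basic calculus (helper806, a variant of `H743/Tv.lean`)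

This is the theory of `H743/Tv*.lean` (McLaughlin) with the relation
`Tv H a φ`: `φ a = 0` and **all** transvections `x ↦ x + c φ x • a`, `c ∈ K`, lie in `H ≤ GL(V)`;
so `Full H` (multiples) holds for every `H`, and `Phi H a`, the set of all `φ` with `Tv H a φ`, is a subspace of
the dual.
`Cmp H a b`: `a`, `b` lie in the same component of the graph of centres, where `a` and `b` are
joined if `φ b ≠ 0 ≠ ψ a` for some `φ ∈ Phi a`, `ψ ∈ Phi b`.
-/

set_option autoImplicit false
set_option linter.unusedVariables false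
set_option linter.unusedSimpArgs false
set_option linter.unusedSectionVars false

namespace Cfsg.Agent.H806.Bs.McL

open Module

variable {K V : Type*} [Field K] [AddCommGroup V] [Module K V]

/-- All transvections `x ↦ x + c φ x • a` (with `φ a = 0`) belong to `H`. -/
def Tv (H : Subgroup (V ≃ₗ[K] V)) (a : V) (φ : Dual K V) : Prop :=
  φ a = 0 ∧ ∀ c : K, ∃ t ∈ H, ∀ x, t x = x + (c * φ x) • a

variable {H : Subgroup (V ≃ₗ[K] V)}

theorem Tv.elt {a : V} {φ : Dual K V} (h : Tv H a φ) : φ a = 0 ∧ ∃ t ∈ H, ∀ x, t x = x + φ x • a := by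
  obtain ⟨t, ht, h1⟩ := h.2 1
  exact ⟨h.1, t, ht, fun x => by rw [h1, one_mul]⟩

theorem tv_zero_right (a : V) : Tv H a (0 : Dual K V) :=
  ⟨rfl, fun c => ⟨1, H.one_mem, fun x => by simp⟩⟩

theorem Tv.add_right {a : V} {φ ψ : Dual K V} (h : Tv H a φ) (h' : Tv H a ψ) : Tv H a (φ + ψ) := by
  refine ⟨by simp [h.1, h'.1], fun c => ?_⟩
  obtain ⟨h1, h0⟩ := h
  obtain ⟨h3, h0'⟩ := h'
  obtain ⟨t, ht, h2⟩ := h0 c
  obtain ⟨s, hs, h4⟩ := h0' c
  refine ⟨t * s, H.mul_mem ht hs, fun x => ?_⟩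
  change t (s x) = _
  rw [h4, h2]
  simp only [map_add, map_smul, h1, smul_zero, add_zero, LinearMap.add_apply, mul_add, add_smul]
  abel

theorem Tv.add_left {a b : V} {φ : Dual K V} (h : Tv H a φ) (h' : Tv H b φ) : Tv H (a + b) φ := by
  refine ⟨by simp [h.1, h'.1], fun c => ?_⟩
  obtain ⟨h1, h0⟩ := h
  obtain ⟨h3, h0'⟩ := h'
  obtain ⟨t, ht, h2⟩ := h0 c
  obtain ⟨s, hs, h4⟩ := h0' c
  refine ⟨t * s, H.mul_mem ht hs, fun x => ?_⟩
  change t (s x) = _
  rw [h4, h2]
  simp only [map_add, map_smul, h3, smul_zero, add_zero, smul_add]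
  abel

theorem Tv.smul_left {a : V} {φ : Dual K V} {c : K} (h : Tv H a (c • φ)) : Tv H (c • a) φ := by
  refine ⟨by simpa using h.1, fun d => ?_⟩
  obtain ⟨t, ht, h2⟩ := h.2 d
  refine ⟨t, ht, fun x => ?_⟩
  rw [h2, LinearMap.smul_apply, smul_eq_mul, smul_smul]
  congr 2
  ring

theorem Tv.conj' {a : V} {φ : Dual K V} (h : Tv H a φ) {g : V ≃ₗ[K] V}
    (hg : ∀ t ∈ H, g * t * g⁻¹ ∈ H) : Tv H (g a) (φ ∘ₗ (g.symm : V →ₗ[K] V)) := by
  refine ⟨by simp [h.1], fun c => ?_⟩
  obtain ⟨t, ht, h2⟩ := h.2 c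
  refine ⟨g * t * g⁻¹, hg t ht, fun x => ?_⟩
  change g (t (g.symm x)) = _
  rw [h2]
  simp

theorem Tv.conj {a : V} {φ : Dual K V} (h : Tv H a φ) {g : V ≃ₗ[K] V} (hg : g ∈ H) :
    Tv H (g a) (φ ∘ₗ (g.symm : V →ₗ[K] V)) :=
  h.conj' fun t ht => H.mul_mem (H.mul_mem hg ht) (H.inv_mem hg)

/-- All scalar multiples of transvections of `H` are in `H`. -/
def Full (H : Subgroup (V ≃ₗ[K] V)) : Prop := ∀ a φ (c : K), Tv H a φ → Tv H a (c • φ)

theorem full (H : Subgroup (V ≃ₗ[K] V)) : Full H := by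
  intro a φ c h
  refine ⟨by simp [h.1], fun d => ?_⟩
  obtain ⟨t, ht, h2⟩ := h.2 (d * c)
  refine ⟨t, ht, fun x => ?_⟩
  rw [h2, LinearMap.smul_apply, smul_eq_mul, mul_assoc]

theorem Full.smul_left (hF : Full H) {a : V} {φ : Dual K V} (c : K) (h : Tv H a φ) :
    Tv H (c • a) φ := (hF a φ c h).smul_left

theorem Full.sub_left (hF : Full H) {a b : V} {φ : Dual K V} (h : Tv H a φ) (h' : Tv H b φ) :
    Tv H (a - b) φ := by
  have := h.add_left (hF.smul_left (-1) h')
  rwa [neg_one_smul, ← sub_eq_add_neg] at this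

/-- Conjugation of `b ⊗ ψ` by the transvection `c • (a ⊗ φ)`. -/
theorem Full.conj_tv (hF : Full H) {a b : V} {φ ψ : Dual K V} (h : Tv H a φ) (h' : Tv H b ψ) (c : K) :
    Tv H (b + (c * φ b) • a) (ψ - (c * ψ a) • φ) := by
  obtain ⟨h1, t, ht, h2⟩ := (hF a φ c h).elt
  have hs : ∀ x, t.symm x = x - (c * φ x) • a := by
    intro x
    rw [LinearEquiv.symm_apply_eq, h2]
    have h1' : c * φ a = 0 := by simpa using h1
    simp only [LinearMap.smul_apply, smul_eq_mul, map_sub, map_smul, sub_smul]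
    rw [h1']
    simp
  have h3 := h'.conj ht
  rw [h2] at h3
  have h4 : (ψ ∘ₗ (t.symm : V →ₗ[K] V)) = ψ - (c * ψ a) • φ := by
    ext x
    simp only [LinearMap.sub_apply, LinearMap.smul_apply, smul_eq_mul, LinearMap.comp_apply,
      LinearEquiv.coe_coe, hs, map_sub, map_smul]
    ring
  rw [h4] at h3
  exact h3

/-- Key lemma: if `φ b ≠ 0` and `ψ a = 0` then `a ⊗ ψ` is in `H` as well. -/
theorem Full.key (hF : Full H) {a b : V} {φ ψ : Dual K V} (h : Tv H a φ) (h' : Tv H b ψ)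
    (hφ : φ b ≠ 0) (hψ : ψ a = 0) : Tv H a ψ := by
  have h3 := hF.conj_tv h h' (φ b)⁻¹
  rw [hψ, mul_zero, zero_smul, sub_zero, inv_mul_cancel₀ hφ, one_smul] at h3
  have := hF.sub_left h3 h'
  rwa [add_sub_cancel_left] at this

theorem Full.sub_smul_right (hF : Full H) {a : V} {φ ψ : Dual K V} (h : Tv H a φ) (h' : Tv H a ψ)
    (c : K) : Tv H a (φ - c • ψ) := by
  have h1 := Tv.add_right h (hF _ _ (-c) h')
  have h2 : φ + (-c) • ψ = φ - c • ψ := by module
  rwa [h2] at h1

/-- `Phi a`: the functionals `φ` with `a ⊗ φ` in `H`. -/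
def Phi (hF : Full H) (a : V) : Submodule K (Dual K V) where
  carrier := {φ | Tv H a φ}
  add_mem' h h' := h.add_right h'
  zero_mem' := tv_zero_right a
  smul_mem' c _ h := hF _ _ c h

/-- Adjacency of centres. -/
def Rel (H : Subgroup (V ≃ₗ[K] V)) (a b : V) : Prop :=
  ∃ φ ψ : Dual K V, Tv H a φ ∧ Tv H b ψ ∧ φ b ≠ 0 ∧ ψ a ≠ 0

theorem Rel.symm {a b : V} (h : Rel H a b) : Rel H b a := by
  obtain ⟨φ, ψ, h1, h2, h3, h4⟩ := h
  exact ⟨ψ, φ, h2, h1, h4, h3⟩

/-- Same component. -/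
def Cmp (H : Subgroup (V ≃ₗ[K] V)) (a b : V) : Prop := Relation.ReflTransGen (Rel H) a b

theorem Cmp.refl (a : V) : Cmp H a a := Relation.ReflTransGen.refl

theorem Cmp.trans {a b c : V} (h : Cmp H a b) (h' : Cmp H b c) : Cmp H a c :=
  Relation.ReflTransGen.trans h h'

theorem Cmp.symm {a b : V} (h : Cmp H a b) : Cmp H b a := by
  induction h with
  | refl => exact Cmp.refl a
  | tail _ h2 ih => exact (Relation.ReflTransGen.single h2.symm).trans ih

theorem Rel.cmp {a b : V} (h : Rel H a b) : Cmp H a b := Relation.ReflTransGen.single h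

/-- In the graph every centre is joined to another one. -/
def NI (H : Subgroup (V ≃ₗ[K] V)) : Prop :=
  ∀ a φ, Tv H a φ → a ≠ 0 → φ ≠ 0 → ∃ b ψ, Tv H b ψ ∧ φ b ≠ 0 ∧ ψ a ≠ 0

/-- Adjacent centres are conjugate. -/
theorem Rel.exists_map (hF : Full H) {a b : V} (h : Rel H a b) : ∃ g ∈ H, g b = a := by
  obtain ⟨φ, ψ, h1, h2, h3, h4⟩ := h
  obtain ⟨-, t, ht, h5⟩ := (hF a φ (φ b)⁻¹ h1).elt
  obtain ⟨-, s, hs, h6⟩ := (hF b ψ (-(ψ a)⁻¹) h2).elt
  refine ⟨s * t, H.mul_mem hs ht, ?_⟩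
  change s (t b) = a
  rw [h5, h6]
  simp [h3, h4, h2.1]

theorem Cmp.exists_map (hF : Full H) {a b : V} (h : Cmp H a b) : ∃ g ∈ H, g b = a := by
  induction h with
  | refl => exact ⟨1, H.one_mem, rfl⟩
  | tail _ h2 ih =>
    obtain ⟨g, hg, h3⟩ := ih
    obtain ⟨g', hg', h4⟩ := h2.exists_map hF
    refine ⟨g * g', H.mul_mem hg hg', ?_⟩
    change g (g' _) = _
    rw [h4, h3]

theorem Phi_map (hF : Full H) {g : V ≃ₗ[K] V} (hg : g ∈ H) (a : V) :
    Phi hF (g a) = (Phi hF a).map (g.symm.dualMap : Dual K V →ₗ[K] Dual K V) := by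
  ext φ
  constructor
  · intro h
    refine ⟨φ ∘ₗ (g : V →ₗ[K] V), ?_, ?_⟩
    · have := Tv.conj (h : Tv H (g a) φ) (H.inv_mem hg)
      have h2 : (g⁻¹ : V ≃ₗ[K] V) (g a) = a := g.symm_apply_apply a
      rw [h2] at this
      exact this
    · ext x
      simp
  · rintro ⟨ψ, h1, rfl⟩
    exact Tv.conj (h1 : Tv H a ψ) hg

theorem Cmp.finrank_eq (hF : Full H) {a b : V} (h : Cmp H a b) :
    finrank K (Phi hF a) = finrank K (Phi hF b) := by
  obtain ⟨g, hg, rfl⟩ := h.exists_map hF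
  rw [Phi_map hF hg]
  exact LinearEquiv.finrank_map_eq g.symm.dualMap _

/-- Non-orthogonality of centres. -/
def NP (H : Subgroup (V ≃ₗ[K] V)) (a b : V) : Prop := ∃ φ : Dual K V, Tv H a φ ∧ φ b ≠ 0

theorem Rel.np {a b : V} (h : Rel H a b) : NP H a b := by
  obtain ⟨φ, ψ, h1, h2, h3, h4⟩ := h
  exact ⟨φ, h1, h3⟩

theorem NP.ne_zero {a b : V} (h : NP H a b) : b ≠ 0 := by
  rintro rfl
  obtain ⟨φ, h1, h3⟩ := h
  exact h3 (map_zero φ)

section FD
variable [FiniteDimensional K V]

theorem Cmp.np_symm (hF : Full H) {a b : V} (h : Cmp H a b) (hn : NP H a b) : NP H b a := by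
  by_contra hcon
  have h0 : ∀ ψ : Dual K V, Tv H b ψ → ψ a = 0 := by
    intro ψ hψ
    by_contra h1
    exact hcon ⟨ψ, hψ, h1⟩
  obtain ⟨φ, h1, h2⟩ := hn
  have hle : Phi hF b ≤ Phi hF a := fun ψ hψ => hF.key h1 hψ h2 (h0 ψ hψ)
  have heq : Phi hF b = Phi hF a := Submodule.eq_of_le_of_finrank_eq hle (h.symm.finrank_eq hF)
  have h3 : φ ∈ Phi hF b := by rw [heq]; exact h1
  exact h2 (h3 : Tv H b φ).1

theorem Cmp.rel_of_np (hF : Full H) {a b : V} (h : Cmp H a b) (hn : NP H a b) : Rel H a b := by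
  obtain ⟨ψ, h3, h4⟩ := h.np_symm hF hn
  obtain ⟨φ, h1, h2⟩ := hn
  exact ⟨φ, ψ, h1, h3, h2, h4⟩

/-- Two centres with a common functional are in the same component. -/
theorem cmp_of_common (hN : NI H) {a b : V} {ψ : Dual K V} (hψ : ψ ≠ 0) (ha : a ≠ 0) (hb : b ≠ 0)
    (h1 : Tv H a ψ) (h2 : Tv H b ψ) : Cmp H a b := by
  obtain ⟨c, χ, h3, h4, h5⟩ := hN a ψ h1 ha hψ
  obtain ⟨c', χ', h3', h4', h5'⟩ := hN b ψ h2 hb hψ
  have r1 : Rel H a c := ⟨ψ, χ, h1, h3, h4, h5⟩
  have r2 : Rel H b c' := ⟨ψ, χ', h2, h3', h4', h5'⟩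
  by_cases e1 : χ b = 0
  · by_cases e2 : χ' a = 0
    · have h6 : Tv H (a + b) ψ := h1.add_left h2
      have r3 : Rel H (a + b) c := ⟨ψ, χ, h6, h3, h4, by simpa [e1] using h5⟩
      have r4 : Rel H (a + b) c' := ⟨ψ, χ', h6, h3', h4', by simpa [e2] using h5'⟩
      exact (r1.cmp.trans r3.symm.cmp).trans (r4.cmp.trans r2.symm.cmp)
    · have r3 : Rel H a c' := ⟨ψ, χ', h1, h3', h4', e2⟩
      exact r3.cmp.trans r2.symm.cmp
  · have r3 : Rel H b c := ⟨ψ, χ, h2, h3, h4, e1⟩
    exact r1.cmp.trans r3.symm.cmp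

/-- Centres of different components are orthogonal. -/
theorem cmp_of_np (hF : Full H) (hN : NI H) {a b : V} {ψ : Dual K V} (ha : a ≠ 0)
    (hb : Tv H b ψ) (hψ : ψ ≠ 0) (hn : NP H a b) : Cmp H a b := by
  by_cases hr : NP H b a
  · obtain ⟨χ, h3, h4⟩ := hr
    obtain ⟨φ, h1, h2⟩ := hn
    exact Rel.cmp ⟨φ, χ, h1, h3, h2, h4⟩
  · have h0 : ψ a = 0 := by
      by_contra h1
      exact hr ⟨ψ, hb, h1⟩
    obtain ⟨φ, h1, h2⟩ := id hn
    have h3 : Tv H a ψ := hF.key h1 hb h2 h0
    exact cmp_of_common hN hψ ha hn.ne_zero h3 hb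

end FD

end Cfsg.Agent.H806.Bs.McL
end

-- part: H806/Bs/TvSL
section
prune_inst 0x30407104250000000018009673201c62f200052200488400a46003820ec1cce2e0c72861bbb0251d4ab08c4568350048138800300268000004200400011e018000811206b14ca2000a0096000000000000000000310000000000000000000000000000000
set_option linter.all false
open scoped Cfsg.Agent.FastGrp

/-!
# Components of transvection groups: the linear case

In a component in which `Phi a` has dimension at least two, the centres and `0` form a subspace `W`,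
`V = W ⊕ C` with `C` the common kernel of all functionals of the component, and every transvection
of `W` is induced by a transvection of `H` with the same centre.
-/

set_option autoImplicit false
set_option linter.unusedVariables false
set_option linter.unusedSimpArgs false
set_option linter.unusedSectionVars false

namespace Cfsg.Agent.H806.Bs.McL

open Module

variable {K V : Type*} [Field K] [AddCommGroup V] [Module K V] {H : Subgroup (V ≃ₗ[K] V)}

/-- `a` is a non-isolated centre. -/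
def Ctr (H : Subgroup (V ≃ₗ[K] V)) (a : V) : Prop := ∃ b, Rel H a b

theorem Ctr.ne_zero {a : V} (h : Ctr H a) : a ≠ 0 := by
  obtain ⟨b, hb⟩ := h
  exact hb.symm.np.ne_zero

theorem Ctr.of_cmp {a b : V} (h : Ctr H a) (h' : Cmp H a b) : Ctr H b := by
  induction h' with
  | refl => exact h
  | tail _ h2 _ => exact ⟨_, h2.symm⟩

theorem Ctr.cmp_smul (hF : Full H) {a : V} (h : Ctr H a) {c : K} (hc : c ≠ 0) : Cmp H a (c • a) := by
  obtain ⟨b, hb⟩ := h
  have hb' := hb
  obtain ⟨φ, ψ, h1, h2, h3, h4⟩ := hb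
  have : Rel H (c • a) b := ⟨φ, ψ, hF.smul_left c h1, h2, h3, by simp [hc, h4]⟩
  exact hb'.cmp.trans this.symm.cmp

/-- All `b + l • a` are centres if `a`, `b` are adjacent. -/
theorem Rel.line (hF : Full H) {a b : V} (h : Rel H a b) (l : K) : Rel H a (b + l • a) := by
  obtain ⟨φ, ψ, h1, h2, h3, h4⟩ := h
  have h5 := hF.conj_tv h1 h2 (l * (φ b)⁻¹)
  rw [show l * (φ b)⁻¹ * φ b = l by field_simp] at h5
  exact ⟨φ, _, h1, h5, by simpa [h1.1] using h3, by simpa [h1.1] using h4⟩

section FD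
variable [FiniteDimensional K V]

/-- The graph of a component has diameter at most two. -/
theorem Ctr.exists_mid (hF : Full H) {a c : V} (h : Ctr H a) (h' : Cmp H a c) :
    ∃ b, Rel H a b ∧ Rel H b c := by
  induction h' with
  | refl => obtain ⟨b, hb⟩ := h; exact ⟨b, hb, hb.symm⟩
  | @tail c' c h1 h2 ih =>
    obtain ⟨b, h3, h4⟩ := ih
    by_cases e1 : NP H b c
    · exact ⟨b, h3, (h4.cmp.trans h2.cmp).rel_of_np hF e1⟩
    by_cases e2 : NP H a c'
    · exact ⟨c', Cmp.rel_of_np hF h1 e2, h2⟩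
    have h5 : Rel H b (c' + (1 : K) • b) := h4.line hF 1
    rw [one_smul] at h5
    have h6 : Cmp H a (c' + b) := h3.cmp.trans h5.cmp
    have h7 : Cmp H c (c' + b) := (Cmp.trans h1 h2.cmp).symm.trans h6
    refine ⟨c' + b, h6.rel_of_np hF ?_, (h7.rel_of_np hF ?_).symm⟩
    · obtain ⟨φ, k1, k2⟩ := h3.np
      refine ⟨φ, k1, ?_⟩
      have : φ c' = 0 := by
        by_contra h0
        exact e2 ⟨φ, k1, h0⟩
      simpa [this] using k2
    · obtain ⟨χ, k1, k2⟩ := h2.symm.np
      refine ⟨χ, k1, ?_⟩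
      have : χ b = 0 := by
        by_contra h0
        exact e1 ((h4.cmp.trans h2.cmp).symm.np_symm hF ⟨χ, k1, h0⟩)
      simpa [this] using k2

theorem exists_ne_zero_of_two_le {E : Submodule K (Dual K V)} (h : 2 ≤ finrank K E) (x : V) :
    ∃ θ ∈ E, θ ≠ 0 ∧ θ x = 0 := by
  let ev : E →ₗ[K] K := (Module.Dual.eval K V x).domRestrict E
  have h1 : ¬ Function.Injective ev := by
    intro h0
    have := LinearMap.finrank_le_finrank_of_injective h0
    rw [finrank_self] at this
    omega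
  have h2 : ∃ θ : E, θ ≠ 0 ∧ ev θ = 0 := by
    by_contra hcon
    push Not at hcon
    apply h1
    rw [injective_iff_map_eq_zero]
    intro a ha
    by_contra h3
    exact hcon a h3 ha
  obtain ⟨θ, h3, h4⟩ := h2
  exact ⟨θ, θ.2, fun h0 => h3 (Subtype.ext h0), h4⟩

/-- Two orthogonal centres of a component with `dim Phi ≥ 2` have a common functional. -/
theorem exists_common (hF : Full H) {x y : V} (hx : Ctr H x) (hxy : Cmp H x y)
    (hm : 2 ≤ finrank K (Phi hF x)) (hn : ¬ NP H x y) : ∃ θ : Dual K V, θ ≠ 0 ∧ Tv H x θ ∧ Tv H y θ := by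
  obtain ⟨c, h1, h2⟩ := hx.exists_mid hF hxy
  rw [h1.cmp.finrank_eq hF] at hm
  obtain ⟨θ, k1, k2, k3⟩ := exists_ne_zero_of_two_le hm x
  obtain ⟨φ, k4, k5⟩ := h1.np
  have k6 : Tv H x θ := hF.key k4 k1 k5 k3
  obtain ⟨φ', k7, k8⟩ := h2.symm.np
  have k9 : θ y = 0 := by
    by_contra h0
    exact hn ⟨θ, k6, h0⟩
  exact ⟨θ, k2, k6, hF.key k7 k1 k8 k9⟩

theorem add_cmp_of_common (hF : Full H) (hN : NI H) {x y : V} {θ : Dual K V} (hθ : θ ≠ 0)
    (h1 : Tv H x θ) (h2 : Tv H y θ) (hx : x ≠ 0) (h0 : x + y ≠ 0) : Cmp H x (x + y) :=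
  cmp_of_common hN hθ hx h0 h1 (h1.add_left h2)

theorem add_cmp (hF : Full H) (hN : NI H) {x y : V} (hx : Ctr H x) (hxy : Cmp H x y)
    (hm : 2 ≤ finrank K (Phi hF x)) (h0 : x + y ≠ 0) : Cmp H x (x + y) := by
  by_cases hn : NP H x y
  · have := (hxy.rel_of_np hF hn).line hF 1
    rw [one_smul, add_comm] at this
    exact this.cmp
  · obtain ⟨θ, h1, h2, h3⟩ := exists_common hF hx hxy hm hn
    exact add_cmp_of_common hF hN h1 h2 h3 hx.ne_zero h0

theorem Phi_le_of_not_np (hF : Full H) (hN : NI H) {x y : V} (hx : Ctr H x) (hxy : Cmp H x y)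
    (hm : 2 ≤ finrank K (Phi hF x)) (hn : ¬ NP H x y) : Phi hF x ≤ Phi hF y := by
  obtain ⟨θ, h1, h2, h3⟩ := exists_common hF hx hxy hm hn
  obtain ⟨c, χ, h4, h5, h6⟩ := hN x θ h2 hx.ne_zero h1
  intro φ hφ
  have k1 : Tv H x (φ - (φ c * (θ c)⁻¹) • θ) := hF.sub_smul_right hφ h2 _
  have k2 : (φ - (φ c * (θ c)⁻¹) • θ) c = 0 := by
    simp only [LinearMap.sub_apply, LinearMap.smul_apply, smul_eq_mul]
    field_simp
    ring
  have k3 : Tv H c (φ - (φ c * (θ c)⁻¹) • θ) := hF.key h4 k1 h6 k2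
  have k4 : (φ - (φ c * (θ c)⁻¹) • θ) y = 0 := by
    by_contra h0
    exact hn ⟨_, k1, h0⟩
  have k5 : Tv H y (φ - (φ c * (θ c)⁻¹) • θ) := hF.key h3 k3 h5 k4
  have := Tv.add_right k5 (hF _ _ (φ c * (θ c)⁻¹) h3)
  rw [sub_add_cancel] at this
  exact this

theorem eq_smul_of_not_np (hF : Full H) (hN : NI H) {x y : V} (hx : Ctr H x) (hxy : Cmp H x y)
    (hm : 2 ≤ finrank K (Phi hF x)) (hn : ¬ NP H x y) : ∃ l : K, y = l • x := by
  have hm' : ∀ z, Cmp H x z → 2 ≤ finrank K (Phi hF z) := fun z hz => by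
    rwa [← hz.finrank_eq hF]
  have hy : Ctr H y := hx.of_cmp hxy
  have hn' : ¬ NP H y x := fun h => hn (hxy.symm.np_symm hF h)
  have hle := Phi_le_of_not_np hF hN hx hxy hm hn
  have hge := Phi_le_of_not_np hF hN hy hxy.symm (hm' y hxy) hn'
  obtain ⟨z, hz⟩ := id hx
  have hzy : Rel H z y := by
    obtain ⟨φ, k1, k2⟩ := hz.np
    exact ((hxy.symm.trans hz.cmp).rel_of_np hF ⟨φ, hle k1, k2⟩).symm
  obtain ⟨φ, k1, k2⟩ := hz.symm.np
  have hker : ∀ ψ : Dual K V, Tv H z ψ → ψ x = 0 → ψ y = 0 := by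
    intro ψ hψ h0
    obtain ⟨χ, j1, j2⟩ := hz.np
    have : Tv H x ψ := hF.key j1 hψ j2 h0
    by_contra h1
    exact hn ⟨ψ, this, h1⟩
  have hw : ∀ ψ : Dual K V, Tv H z ψ → ψ (y - (φ y * (φ x)⁻¹) • x) = 0 := by
    intro ψ hψ
    have j1 : Tv H z (ψ - (ψ x * (φ x)⁻¹) • φ) := hF.sub_smul_right hψ k1 _
    have j2 := hker _ j1 (by
      simp only [LinearMap.sub_apply, LinearMap.smul_apply, smul_eq_mul]
      field_simp
      ring)
    simp only [LinearMap.sub_apply, LinearMap.smul_apply, smul_eq_mul] at j2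
    simp only [map_sub, map_smul, smul_eq_mul]
    linear_combination j2
  set l := φ y * (φ x)⁻¹ with hl
  by_cases h0 : y - l • x = 0
  · exact ⟨l, sub_eq_zero.1 h0⟩
  exfalso
  -- `w = y - l x` is a centre
  have hw1 : Cmp H x (y - l • x) := by
    by_cases hl0 : l = 0
    · simpa [hl0] using hxy
    · have h3 : Cmp H y (-l • x) := hxy.symm.trans (hx.cmp_smul hF (neg_ne_zero.2 hl0))
      have h4 := add_cmp hF hN hy h3 (hm' y hxy) (by rwa [neg_smul, ← sub_eq_add_neg])
      rw [neg_smul, ← sub_eq_add_neg] at h4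
      exact hxy.trans h4
  have hw2 : ¬ NP H z (y - l • x) := by
    rintro ⟨ψ, j1, j2⟩
    exact j2 (hw ψ j1)
  have hw3 : ¬ NP H x (y - l • x) := by
    rintro ⟨ψ, j1, j2⟩
    have j3 : ψ y = 0 := by
      by_contra h1
      exact hn ⟨ψ, j1, h1⟩
    exact j2 (by simp [j3, j1.1])
  have hz1 : Cmp H z (y - l • x) := hz.cmp.symm.trans hw1
  have hle1 := Phi_le_of_not_np hF hN (hx.of_cmp hz.cmp) hz1 (hm' z hz.cmp) hw2
  have hge1 := Phi_le_of_not_np hF hN (hx.of_cmp hw1) hw1.symm (hm' _ hw1)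
    (fun h => hw3 (hw1.symm.np_symm hF h))
  obtain ⟨ψ, j1, j2⟩ := hz.symm.np
  exact j2 (hge1 (hle1 j1) : Tv H x ψ).1

/-- The closure property of a component needed for `WW`. -/
def AddC (H : Subgroup (V ≃ₗ[K] V)) (a₀ : V) : Prop :=
  ∀ x y, Cmp H a₀ x → Cmp H a₀ y → x + y ≠ 0 → Cmp H a₀ (x + y)

/-- The subspace formed by `0` and the members of a component. -/
def WW (hF : Full H) {a₀ : V} (h₀ : Ctr H a₀) (hA : AddC H a₀) : Submodule K V where
  carrier := {x | x = 0 ∨ Cmp H a₀ x}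
  add_mem' := by
    rintro x y (rfl | hx) hy
    · simpa using hy
    · rcases hy with rfl | hy
      · exact Or.inr (by simpa using hx)
      · by_cases h : x + y = 0
        · exact Or.inl h
        · exact Or.inr (hA x y hx hy h)
  zero_mem' := Or.inl rfl
  smul_mem' c x := by
    rintro (rfl | hx)
    · exact Or.inl (smul_zero c)
    · by_cases hc : c = 0
      · exact Or.inl (by simp [hc])
      · exact Or.inr (hx.trans ((h₀.of_cmp hx).cmp_smul hF hc))

theorem addC_of_two_le (hF : Full H) (hN : NI H) {a₀ : V} (h₀ : Ctr H a₀)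
    (hm : 2 ≤ finrank K (Phi hF a₀)) : AddC H a₀ := by
  intro x y hx hy h
  exact hx.trans (add_cmp hF hN (h₀.of_cmp hx) (hx.symm.trans hy) (by rwa [← hx.finrank_eq hF]) h)

/-- Linear case: all functionals of `W` vanishing on `x` are induced by members of `Phi x`. -/
theorem sl_exists (hF : Full H) (hN : NI H) {a₀ : V} (h₀ : Ctr H a₀)
    (hm : 2 ≤ finrank K (Phi hF a₀)) {x : V} (hx : Cmp H a₀ x)
    (g : Dual K (WW hF h₀ (addC_of_two_le hF hN h₀ hm))) (hg : g ⟨x, Or.inr hx⟩ = 0) :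
    ∃ φ : Dual K V, Tv H x φ ∧ ∀ w : WW hF h₀ (addC_of_two_le hF hN h₀ hm), φ (w : V) = g w := by
  let W := WW hF h₀ (addC_of_two_le hF hN h₀ hm)
  let E : Submodule K (Dual K W) := (Phi hF x).map (W.subtype.dualMap)
  have h1 : E.dualCoannihilator ≤ Submodule.span K {(⟨x, Or.inr hx⟩ : W)} := by
    intro w hw
    rw [Submodule.mem_dualCoannihilator] at hw
    have hn : ¬ NP H x (w : V) := by
      rintro ⟨φ, k1, k2⟩
      exact k2 (hw _ ⟨φ, k1, rfl⟩)
    rcases w.2 with h0 | h2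
    · rw [show w = 0 from Subtype.ext h0]
      exact Submodule.zero_mem _
    · obtain ⟨l, hl⟩ := eq_smul_of_not_np hF hN (h₀.of_cmp hx) (hx.symm.trans h2)
        (by rwa [← hx.finrank_eq hF]) hn
      exact Submodule.mem_span_singleton.2 ⟨l, Subtype.ext hl.symm⟩
  have h2 : g ∈ E := by
    have h3 : (Submodule.dualCoannihilator E).dualAnnihilator = E :=
      Subspace.dualCoannihilator_dualAnnihilator_eq
    rw [← h3, Submodule.mem_dualAnnihilator]
    intro w hw
    obtain ⟨l, rfl⟩ := Submodule.mem_span_singleton.1 (h1 hw)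
    refine (map_smul g l _).trans ?_
    refine (congrArg (l • ·) hg).trans (smul_zero l)
  obtain ⟨φ, k1, rfl⟩ := h2
  exact ⟨φ, k1, fun w => rfl⟩

end FD

end Cfsg.Agent.H806.Bs.McL
end

-- part: H806/Bs/GenA
section
prune_inst 0x31407544256000000818001472201c62f200052200488400ec60038206c18ce2e0c62861abb0251d4ab00c552835006813000030426800000c2008000000018000001006b1480000020090000000000000000000310000000000000000000000000000000
set_option linter.all false
open scoped Cfsg.Agent.FastGrp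

-- part: H806/Bs/TvSp
section
/-!
# Components of transvection groups: the symplectic case

A component in which `Phi a` has dimension one: the functionals can be normalised such that they
form a skew-symmetric family `f`.
-/

set_option autoImplicit false
set_option linter.unusedVariables false
set_option linter.unusedSimpArgs false
set_option linter.unusedSectionVars false

namespace Cfsg.Agent.H806.Bs.McL

open Module

variable {K V : Type*} [Field K] [AddCommGroup V] [Module K V] {H : Subgroup (V ≃ₗ[K] V)}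

theorem bad_eq {u v l m : K} (hlm : l ≠ m) (h1 : u + l * v = 0) (h2 : u + m * v = 0) :
    u = 0 ∧ v = 0 := by
  have h3 : (l - m) * v = 0 := by linear_combination h1 - h2
  rcases mul_eq_zero.1 h3 with h | h
  · exact absurd (sub_eq_zero.1 h) hlm
  · subst h
    simp at h1
    exact ⟨h1, rfl⟩

/-- Avoiding two values in a field with at least three elements. -/
theorem exists_avoid {c : K} (hc0 : c ≠ 0) (hc1 : c ≠ 1) {u v u' v' : K} (h : u ≠ 0 ∨ v ≠ 0)
    (h' : u' ≠ 0 ∨ v' ≠ 0) : ∃ l : K, u + l * v ≠ 0 ∧ u' + l * v' ≠ 0 := by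
  have key : ∀ l m : K, l ≠ m → ¬ (u + l * v = 0 ∧ u + m * v = 0) := by
    rintro l m hlm ⟨h1, h2⟩
    obtain ⟨h3, h4⟩ := bad_eq hlm h1 h2
    rcases h with h | h
    · exact h h3
    · exact h h4
  have key' : ∀ l m : K, l ≠ m → ¬ (u' + l * v' = 0 ∧ u' + m * v' = 0) := by
    rintro l m hlm ⟨h1, h2⟩
    obtain ⟨h3, h4⟩ := bad_eq hlm h1 h2
    rcases h' with h | h
    · exact h h3
    · exact h h4
  by_contra hcon
  push Not at hcon
  have d : ∀ l : K, u + l * v = 0 ∨ u' + l * v' = 0 := by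
    intro l
    by_cases e : u + l * v = 0
    · exact Or.inl e
    · exact Or.inr (hcon l e)
  have n01 : (0 : K) ≠ 1 := zero_ne_one
  rcases d 0 with e0 | e0 <;> rcases d 1 with e1 | e1 <;> rcases d c with e2 | e2
  · exact key 0 1 n01 ⟨e0, e1⟩
  · exact key 0 1 n01 ⟨e0, e1⟩
  · exact key 0 c hc0.symm ⟨e0, e2⟩
  · exact key' 1 c hc1.symm ⟨e1, e2⟩
  · exact key 1 c hc1.symm ⟨e1, e2⟩
  · exact key' 0 c hc0.symm ⟨e0, e2⟩
  · exact key' 0 1 n01 ⟨e0, e1⟩
  · exact key' 0 1 n01 ⟨e0, e1⟩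

section FD
variable [FiniteDimensional K V]

/-- The standing hypotheses of the symplectic case. -/
structure SpH (hF : Full H) (a₀ : V) : Prop where
  ctr : Ctr H a₀
  one : finrank K (Phi hF a₀) = 1
  big : ∃ c : K, c ≠ 0 ∧ c ≠ 1

variable {hF : Full H} {a₀ : V}

theorem SpH.eq_smul (h : SpH hF a₀) {x : V} (hx : Cmp H a₀ x) {φ ψ : Dual K V} (h1 : Tv H x φ)
    (h2 : φ ≠ 0) (h3 : Tv H x ψ) : ∃ μ : K, ψ = μ • φ := by
  have h4 : finrank K (Phi hF x) = 1 := by rw [← hx.finrank_eq hF, h.one]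
  obtain ⟨μ, hμ⟩ := (finrank_eq_one_iff_of_nonzero' (⟨φ, h1⟩ : Phi hF x)
    (fun h0 => h2 (congrArg Subtype.val h0))).1 h4 ⟨ψ, h3⟩
  exact ⟨μ, (congrArg Subtype.val hμ).symm⟩

theorem SpH.np (h : SpH hF a₀) {x y : V} (hx : Cmp H a₀ x) {φ : Dual K V} (h1 : Tv H x φ)
    (h2 : φ ≠ 0) (hn : NP H x y) : φ y ≠ 0 := by
  obtain ⟨ψ, k1, k2⟩ := hn
  obtain ⟨μ, rfl⟩ := h.eq_smul hx h1 h2 k1
  intro h0
  exact k2 (by simp [h0])

theorem SpH.symm (h : SpH hF a₀) {x y : V} (hx : Cmp H a₀ x) (hy : Cmp H a₀ y) {φ ψ : Dual K V}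
    (h1 : Tv H x φ) (h2 : Tv H y ψ) (h3 : ψ ≠ 0) (h4 : φ y ≠ 0) : ψ x ≠ 0 :=
  h.np hy h2 h3 ((hx.symm.trans hy).np_symm hF ⟨φ, h1, h4⟩)

theorem ne_zero_of_apply {φ : Dual K V} {x : V} (h : φ x ≠ 0) : φ ≠ 0 := by
  rintro rfl
  exact h rfl

/-- Moving along a line. -/
theorem SpH.tv_line (h : SpH hF a₀) {x y : V} {ξ η : Dual K V} (h1 : Tv H x ξ) (h2 : Tv H y η)
    (h3 : ξ y = - η x) (h4 : ξ y ≠ 0) (l : K) : Tv H (y + l • x) (η + l • ξ) := by
  have h5 := hF.conj_tv h1 h2 (l * (ξ y)⁻¹)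
  rw [show l * (ξ y)⁻¹ * ξ y = l by field_simp] at h5
  have h6 : l * (ξ y)⁻¹ * η x = -l := by
    have : η x = - ξ y := by rw [h3, neg_neg]
    rw [this]
    field_simp
  rw [h6] at h5
  have h7 : η - (-l) • ξ = η + l • ξ := by module
  rwa [h7] at h5

theorem rel_of {x y : V} {ξ η : Dual K V} (h1 : Tv H x ξ) (h2 : Tv H y η)
    (h3 : ξ y = - η x) (h4 : ξ y ≠ 0) : Rel H x y :=
  ⟨ξ, η, h1, h2, h4, fun h0 => h4 (by rw [h3, h0, neg_zero])⟩

/-- The triangle lemma. -/
theorem SpH.tri (h : SpH hF a₀) {x y z : V} {ξ η ζ : Dual K V} (hx : Cmp H a₀ x)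
    (h1 : Tv H x ξ) (h2 : Tv H y η) (h3 : Tv H z ζ) (h4 : ξ y = - η x) (h5 : ξ y ≠ 0)
    (h6 : ξ z = - ζ x) (h7 : ξ z ≠ 0) : η z = - ζ y := by
  have hζx : ζ x ≠ 0 := fun h0 => h7 (by rw [h6, h0, neg_zero])
  have hxy := rel_of h1 h2 h4 h5
  have hxz := rel_of h1 h3 h6 h7
  set l := ζ y * (ζ x)⁻¹ with hl
  have k1 := h.tv_line h1 h2 h4 h5 (-l)
  have k2 : Rel H x (y + (-l) • x) := hxy.line hF (-l)
  have k3 : ζ (y + (-l) • x) = 0 := by
    rw [map_add, map_smul, smul_eq_mul, hl]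
    field_simp
    ring
  have k4 : (η + (-l) • ξ) z = 0 := by
    by_contra h0
    have hz : Cmp H a₀ z := hx.trans hxz.cmp
    have hw : Cmp H a₀ (y + (-l) • x) := hx.trans k2.cmp
    exact h.symm hw hz k1 h3 (ne_zero_of_apply hζx) h0 k3
  simp only [LinearMap.add_apply, LinearMap.smul_apply, smul_eq_mul] at k4
  rw [h6, hl] at k4
  have : ζ y * (ζ x)⁻¹ * ζ x = ζ y := by field_simp
  linear_combination k4 + (-1) * this

theorem SpH.normalise (h : SpH hF a₀) {φ₀ : Dual K V} (h0 : Tv H a₀ φ₀) {x : V} (hx : Cmp H a₀ x)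
    (h1 : φ₀ x ≠ 0) : ∃ ξ, Tv H x ξ ∧ ξ a₀ = - φ₀ x := by
  obtain ⟨ξ, k1, k2⟩ := hx.np_symm hF ⟨φ₀, h0, h1⟩
  refine ⟨(-(φ₀ x) * (ξ a₀)⁻¹) • ξ, hF _ _ _ k1, ?_⟩
  rw [LinearMap.smul_apply, smul_eq_mul]
  field_simp

/-- Normalised functionals, relative to `φ₀ ∈ Phi a₀`. -/
def PP (H : Subgroup (V ≃ₗ[K] V)) (a₀ : V) (φ₀ : Dual K V) (c : V) (χ : Dual K V) : Prop :=
  Tv H c χ ∧ ∃ b β, Cmp H a₀ b ∧ Tv H b β ∧ φ₀ b = - β a₀ ∧ φ₀ b ≠ 0 ∧ β c = - χ b ∧ β c ≠ 0

theorem SpH.exists_PP (h : SpH hF a₀) {φ₀ : Dual K V} (h0 : Tv H a₀ φ₀) (h0' : φ₀ ≠ 0) {c : V}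
    (hc : Cmp H a₀ c) : ∃ χ, PP H a₀ φ₀ c χ := by
  obtain ⟨b, h1, h2⟩ := h.ctr.exists_mid hF hc
  have k1 : φ₀ b ≠ 0 := h.np (Cmp.refl a₀) h0 h0' h1.np
  obtain ⟨β, k2, k3⟩ := h.normalise h0 h1.cmp k1
  have k3' : β a₀ ≠ 0 := by rw [k3]; exact neg_ne_zero.2 k1
  have k4 : β c ≠ 0 := h.np h1.cmp k2 (ne_zero_of_apply k3') h2.np
  obtain ⟨χ, k5, k6⟩ := h2.symm.np
  refine ⟨(-(β c) * (χ b)⁻¹) • χ, hF _ _ _ k5, b, β, h1.cmp, k2, by rw [k3, neg_neg], k1, ?_, k4⟩
  rw [LinearMap.smul_apply, smul_eq_mul]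
  field_simp

theorem SpH.PP_unique (h : SpH hF a₀) {φ₀ : Dual K V} (h0 : Tv H a₀ φ₀) {c : V} {χ : Dual K V}
    (hc : Cmp H a₀ c) (hχ : PP H a₀ φ₀ c χ) {b' : V} {β' : Dual K V} (hb' : Cmp H a₀ b')
    (h1' : Tv H b' β') (h2' : φ₀ b' = - β' a₀) (h3' : φ₀ b' ≠ 0) : β' c = - χ b' := by
  obtain ⟨c₀, hc0, hc1⟩ := h.big
  obtain ⟨g1, b, β, hb, g2, g3, g4, g5, g6⟩ := hχ
  have hβa : β a₀ ≠ 0 := fun e => g4 (by rw [g3, e, neg_zero])
  have hβ'a : β' a₀ ≠ 0 := fun e => h3' (by rw [h2', e, neg_zero])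
  have hχb : χ b ≠ 0 := fun e => g6 (by rw [g5, e, neg_zero])
  have k1 : φ₀ c = - χ a₀ := h.tri hb g2 h0 g1 (by rw [g3, neg_neg]) hβa g5 g6
  have k2 : β b' = - β' b := h.tri (Cmp.refl a₀) h0 g2 h1' g3 g4 h2' h3'
  obtain ⟨l, m1, m2⟩ := exists_avoid hc0 hc1 (u := β' b) (v := β' a₀) (u' := χ b) (v' := χ a₀)
    (Or.inr hβ'a) (Or.inl hχb)
  have k3 := h.tv_line h0 g2 g3 g4 l
  have k4 : Cmp H a₀ (b + l • a₀) := ((rel_of h0 g2 g3 g4).line hF l).cmp
  have k5 : (β + l • φ₀) b' = - β' (b + l • a₀) := by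
    simp only [LinearMap.add_apply, LinearMap.smul_apply, smul_eq_mul, map_add, map_smul]
    rw [k2, h2']
    ring
  have k6 : (β + l • φ₀) c = - χ (b + l • a₀) := by
    simp only [LinearMap.add_apply, LinearMap.smul_apply, smul_eq_mul, map_add, map_smul]
    rw [g5, k1]
    ring
  refine h.tri k4 k3 h1' g1 k5 ?_ k6 ?_
  · rw [k5, map_add, map_smul, smul_eq_mul]
    exact neg_ne_zero.2 m1
  · rw [k6, map_add, map_smul, smul_eq_mul]
    exact neg_ne_zero.2 m2

/-- A skew-symmetric normalisation of the functionals. -/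
theorem SpH.exists_form (h : SpH hF a₀) : ∃ f : V → Dual K V,
    (∀ x, Cmp H a₀ x → Tv H x (f x) ∧ f x ≠ 0) ∧
    ∀ x y, Cmp H a₀ x → Cmp H a₀ y → f x y = - f y x := by
  obtain ⟨c₀, hc0, hc1⟩ := h.big
  obtain ⟨b₀, hb⟩ := id h.ctr
  obtain ⟨φ₀, h0, h0b⟩ := hb.np
  have h0' := ne_zero_of_apply h0b
  have hP : ∀ c, ∃ χ, Cmp H a₀ c → PP H a₀ φ₀ c χ := by
    intro c
    by_cases hc : Cmp H a₀ c
    · obtain ⟨χ, hχ⟩ := h.exists_PP h0 h0' hc
      exact ⟨χ, fun _ => hχ⟩
    · exact ⟨0, fun h => absurd h hc⟩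
  choose f hf using hP
  have hf1 : ∀ x, Cmp H a₀ x → Tv H x (f x) := fun x hx => (hf x hx).1
  have hf2 : ∀ x, Cmp H a₀ x → f x ≠ 0 := by
    intro x hx
    obtain ⟨_, b, β, _, _, _, _, g5, g6⟩ := hf x hx
    exact ne_zero_of_apply (x := b) fun e => g6 (by rw [g5, e, neg_zero])
  refine ⟨f, fun x hx => ⟨hf1 x hx, hf2 x hx⟩, ?_⟩
  have main : ∀ b c, Cmp H a₀ b → Cmp H a₀ c → f b c ≠ 0 → f b c = - f c b := by
    intro b c hb hc hbc
    have hcb : f c b ≠ 0 := h.symm hb hc (hf1 b hb) (hf1 c hc) (hf2 c hc) hbc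
    obtain ⟨x, h1, h2⟩ := h.ctr.exists_mid hF hb
    have k1 : φ₀ x ≠ 0 := h.np (Cmp.refl a₀) h0 h0' h1.np
    obtain ⟨l, m1, m2⟩ := exists_avoid hc0 hc1 (u := φ₀ x) (v := φ₀ b) (u' := f c x) (v' := f c b)
      (Or.inl k1) (Or.inr hcb)
    have k2 : Rel H b (x + l • b) := h2.symm.line hF l
    have k3 : Cmp H a₀ (x + l • b) := hb.trans k2.cmp
    have k4 : φ₀ (x + l • b) ≠ 0 := by rwa [map_add, map_smul, smul_eq_mul]
    obtain ⟨ξ, k5, k6⟩ := h.normalise h0 k3 k4
    have k6' : φ₀ (x + l • b) = - ξ a₀ := by rw [k6, neg_neg]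
    have k7 := h.PP_unique h0 hb (hf b hb) k3 k5 k6' k4
    have k8 := h.PP_unique h0 hc (hf c hc) k3 k5 k6' k4
    refine h.tri k3 k5 (hf1 b hb) (hf1 c hc) k7 ?_ k8 ?_
    · rw [k7]
      refine neg_ne_zero.2 ?_
      rw [map_add, map_smul, (hf1 b hb).1, smul_zero, add_zero]
      exact h.np hb (hf1 b hb) (hf2 b hb) h2.symm.np
    · rw [k8]
      refine neg_ne_zero.2 ?_
      rwa [map_add, map_smul, smul_eq_mul]
  intro b c hb hc
  by_cases e : f b c = 0
  · by_cases e' : f c b = 0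
    · rw [e, e', neg_zero]
    · exact absurd e (h.symm hc hb (hf1 c hc) (hf1 b hb) (hf2 b hb) e')
  · exact main b c hb hc e

end FD

end Cfsg.Agent.H806.Bs.McL
end

-- part: H806/Bs/GenA
section
/-!
# Irreducible groups containing full transvection groups (helper806, task BS30 of S5733), part 1

`H ≤ GL(V)` irreducible containing a full transvection group; `Tv H a φ` : all `x ↦ x + c φ x • a` lie in `H`.

* `ni_of_irr` : no isolated centres;
* `Wcp H a` : the span of the component of `a`; `blk` : if it is not `V`, it is a block.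
-/

set_option autoImplicit false
set_option linter.unusedSectionVars false

namespace Cfsg.Agent.H806.Bs

open Module Cfsg.Agent.H847.Bs Cfsg.Agent.H806.Bs.McL

variable {F V : Type*} [Field F] [AddCommGroup V] [Module F V] {H : Subgroup (V ≃ₗ[F] V)}

/-- `Y` is invariant under the full transvection groups of `H`. -/
def RInv (H : Subgroup (V ≃ₗ[F] V)) (Y : Submodule F V) : Prop :=
  ∀ a φ, Tv H a φ → ∀ y ∈ Y, φ y • a ∈ Y

theorem RInv.map {Y : Submodule F V} (hY : RInv H Y) {h : V ≃ₗ[F] V} (hh : h ∈ H) :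
    RInv H (Y.map (h : V →ₗ[F] V)) := by
  rintro a φ hT _ ⟨y, hy, rfl⟩
  have h1 := hT.conj (H.inv_mem hh)
  refine ⟨_, hY _ _ h1 y hy, ?_⟩
  change h ((φ ∘ₗ ((h⁻¹ : V ≃ₗ[F] V).symm : V →ₗ[F] V)) y • (h⁻¹ : V ≃ₗ[F] V) a) = _
  rw [map_smul]
  congr 1
  exact h.apply_symm_apply a

/-- The sum of the translates of a nonzero subspace is everything. -/
theorem sSup_eq_top (hI : IrrG H) {Y : Submodule F V} (hY : Y ≠ ⊥) :
    sSup {Z : Submodule F V | ∃ h ∈ H, Z = Y.map (h : V →ₗ[F] V)} = ⊤ := by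
  set S := {Z : Submodule F V | ∃ h ∈ H, Z = Y.map (h : V →ₗ[F] V)} with hS
  have h1 : ∀ h ∈ H, Inv h (sSup S) := by
    intro h hh v hv
    have h2 : (sSup S) ≤ (sSup S).comap (h : V →ₗ[F] V) := by
      refine sSup_le ?_
      rintro Z ⟨g, hg, rfl⟩
      rintro _ ⟨y, hy, rfl⟩
      have h3 : Y.map ((h * g : V ≃ₗ[F] V) : V →ₗ[F] V) ≤ sSup S := le_sSup ⟨h * g, H.mul_mem hh hg, rfl⟩
      exact h3 ⟨y, hy, rfl⟩
    exact h2 hv
  rcases hI _ h1 with h2 | h2
  · exfalso
    apply hY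
    rw [eq_bot_iff, ← h2]
    refine le_sSup ⟨1, H.one_mem, ?_⟩
    ext v
    constructor
    · intro hv; exact ⟨v, hv, rfl⟩
    · rintro ⟨w, hw, rfl⟩; exact hw
  · exact h2

/-- A functional vanishing on all translates vanishes. -/
theorem exists_ne_of_sSup (hI : IrrG H) {Y : Submodule F V} (hY : Y ≠ ⊥) {φ : Dual F V} (hφ : φ ≠ 0) :
    ∃ h ∈ H, ∃ y ∈ Y.map (h : V →ₗ[F] V), φ y ≠ 0 := by
  by_contra hcon
  push Not at hcon
  apply hφ
  have h1 : sSup {Z : Submodule F V | ∃ h ∈ H, Z = Y.map (h : V →ₗ[F] V)} ≤ LinearMap.ker φ := by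
    refine sSup_le ?_
    rintro Z ⟨g, hg, rfl⟩ y hy
    exact hcon g hg y hy
  rw [sSup_eq_top hI hY, top_le_iff, LinearMap.ker_eq_top] at h1
  exact h1

/-- The common kernel is zero. -/
theorem common_ker (hI : IrrG H) {a₀ : V} {φ₀ : Dual F V} (h0 : Tv H a₀ φ₀) (ha : a₀ ≠ 0) (hφ : φ₀ ≠ 0)
    {x : V} (hx : ∀ a φ, a ≠ 0 → φ ≠ 0 → Tv H a φ → φ x = 0) : x = 0 := by
  let Y : Submodule F V :=
    { carrier := {x | ∀ a φ, a ≠ 0 → φ ≠ 0 → Tv H a φ → φ x = 0}
      add_mem' := fun {x y} h1 h2 a φ ha hp hT => by rw [map_add, h1 a φ ha hp hT, h2 a φ ha hp hT, add_zero]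
      zero_mem' := fun a φ _ _ _ => map_zero φ
      smul_mem' := fun c x h1 a φ ha hp hT => by rw [map_smul, h1 a φ ha hp hT, smul_zero] }
  have h1 : ∀ h ∈ H, Inv h Y := by
    intro h hh v hv a φ ha hp hT
    have h2 := hT.conj (H.inv_mem hh)
    refine hv _ _ ?_ ?_ h2
    · intro h3
      exact ha ((h⁻¹ : V ≃ₗ[F] V).map_eq_zero_iff.1 h3)
    · intro h3
      apply hp
      ext w
      have h4 := LinearMap.congr_fun h3 ((h⁻¹ : V ≃ₗ[F] V) w)
      change φ ((h⁻¹ : V ≃ₗ[F] V).symm ((h⁻¹ : V ≃ₗ[F] V) w)) = 0 at h4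
      rw [LinearEquiv.symm_apply_apply] at h4
      rw [h4]; rfl
  rcases hI Y h1 with h2 | h2
  · have h3 : x ∈ Y := hx
    rw [h2] at h3
    exact (Submodule.mem_bot F).1 h3
  · exfalso
    apply hφ
    ext w
    have h3 : w ∈ Y := by rw [h2]; trivial
    rw [h3 a₀ φ₀ ha hφ h0]; rfl

/-- The submodule generated by the centres which do not commute with the centre `a`. -/
def Ma (H : Subgroup (V ≃ₗ[F] V)) (a : V) : Submodule F V :=
  Submodule.span F {c | ∃ χ, Tv H c χ ∧ (χ : Dual F V) a ≠ 0}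

theorem rinv_Ma (a : V) : RInv H (Ma H a) := by
  intro d η hT y hy
  have key : ∀ c ∈ {c | ∃ χ, Tv H c χ ∧ (χ : Dual F V) a ≠ 0}, η c • d ∈ Ma H a := by
    rintro c ⟨χ, h1, h2⟩
    by_cases h3 : η a = 0
    · have h4 := (full H).conj_tv hT h1 1
      rw [one_mul, one_mul] at h4
      have h5 : c + η c • d ∈ Ma H a := Submodule.subset_span ⟨_, h4, by simp [h3, h2]⟩
      have h6 : c ∈ Ma H a := Submodule.subset_span ⟨χ, h1, h2⟩
      have := Submodule.sub_mem _ h5 h6
      rwa [add_sub_cancel_left] at this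
    · exact Submodule.smul_mem _ _ (Submodule.subset_span ⟨η, hT, h3⟩)
  refine Submodule.span_induction (p := fun y _ => η y • d ∈ Ma H a) ?_ ?_ ?_ ?_ hy
  · exact key
  · rw [map_zero, zero_smul]; exact Submodule.zero_mem _
  · intro y z _ _ h1 h2
    rw [map_add, add_smul]; exact Submodule.add_mem _ h1 h2
  · intro c y _ h1
    rw [map_smul, smul_eq_mul, mul_smul]; exact Submodule.smul_mem _ _ h1

/-- **No isolated centres.** -/
theorem ni_of_irr [FiniteDimensional F V] (hI : IrrG H) : NI H := by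
  intro a φ hT ha hφ
  obtain ⟨M, ⟨hM1, hM2⟩, hmin⟩ : ∃ M : Submodule F V, (M ≠ ⊥ ∧ RInv H M) ∧
      ∀ Y : Submodule F V, (Y ≠ ⊥ ∧ RInv H Y) → Y ≤ M → Y = M := by
    have hwf : WellFounded (fun Y Z : Submodule F V => Y < Z) := wellFounded_lt
    have hne : {Y : Submodule F V | Y ≠ ⊥ ∧ RInv H Y}.Nonempty :=
      ⟨⊤, fun h => ha ((Submodule.mem_bot F).1 (h ▸ (trivial : a ∈ (⊤ : Submodule F V)))),
        fun _ _ _ _ _ => trivial⟩
    refine ⟨hwf.min _ hne, hwf.min_mem _ hne, fun Y hY hle => ?_⟩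
    by_contra h1
    exact hwf.not_lt_min _ hY (lt_of_le_of_ne hle h1)
  obtain ⟨h, hh, y, hy, hφy⟩ := exists_ne_of_sSup hI hM1 hφ
  set S := M.map (h : V →ₗ[F] V) with hS
  have hSR : RInv H S := hM2.map hh
  have haS : a ∈ S := by
    have h1 := hSR a φ hT y hy
    have h2 := S.smul_mem (φ y)⁻¹ h1
    rwa [smul_smul, inv_mul_cancel₀ hφy, one_smul] at h2
  have hle : Ma H a ≤ S := by
    refine Submodule.span_le.2 ?_
    rintro c ⟨χ, h1, h2⟩
    have h3 := hSR c χ h1 a haS
    have h4 := S.smul_mem (χ a)⁻¹ h3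
    rwa [smul_smul, inv_mul_cancel₀ h2, one_smul] at h4
  have hne : Ma H a ≠ ⊥ := by
    intro h0
    obtain ⟨c, χ, hc, hχ, h1, h2⟩ : ∃ c χ, c ≠ 0 ∧ χ ≠ 0 ∧ Tv H c χ ∧ (χ : Dual F V) a ≠ 0 := by
      by_contra hcon
      push Not at hcon
      exact ha (common_ker hI hT ha hφ fun c χ h1 h2 h3 => hcon c χ h1 h2 h3)
    have h3 : c ∈ Ma H a := Submodule.subset_span ⟨χ, h1, h2⟩
    rw [h0] at h3
    exact hc ((Submodule.mem_bot F).1 h3)
  have heq : Ma H a = S := by
    have h1 : (Ma H a).map ((h⁻¹ : V ≃ₗ[F] V) : V →ₗ[F] V) = M := by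
      refine hmin _ ⟨?_, (rinv_Ma a).map (H.inv_mem hh)⟩ ?_
      · intro h0
        apply hne
        rw [Submodule.eq_bot_iff]
        intro c hc
        have h2 : (h⁻¹ : V ≃ₗ[F] V) c ∈ (Ma H a).map ((h⁻¹ : V ≃ₗ[F] V) : V →ₗ[F] V) := ⟨c, hc, rfl⟩
        rw [h0, Submodule.mem_bot] at h2
        exact (h⁻¹ : V ≃ₗ[F] V).map_eq_zero_iff.1 h2
      · rintro _ ⟨c, hc, rfl⟩
        obtain ⟨m, hm, rfl⟩ := hle hc
        change h.symm (h m) ∈ M
        rwa [LinearEquiv.symm_apply_apply]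
    rw [hS, ← h1]
    ext v
    constructor
    · intro hv
      exact ⟨h.symm v, ⟨v, hv, rfl⟩, h.apply_symm_apply v⟩
    · rintro ⟨_, ⟨w, hw, rfl⟩, rfl⟩
      change h (h.symm w) ∈ _
      rwa [LinearEquiv.apply_symm_apply]
  by_contra hcon
  push Not at hcon
  apply hφy
  rw [← heq] at hy
  refine Submodule.span_induction (p := fun y _ => φ y = 0) ?_ ?_ ?_ ?_ hy
  · rintro c ⟨χ, h1, h2⟩
    by_contra h3
    exact h2 (hcon c χ h1 h3)
  · exact map_zero φ
  · intro y z _ _ h1 h2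
    rw [map_add, h1, h2, add_zero]
  · intro c y _ h1
    rw [map_smul, h1, smul_zero]

/-! ### Components -/

theorem Rel.map {a b : V} (h : Rel H a b) {g : V ≃ₗ[F] V} (hg : g ∈ H) : Rel H (g a) (g b) := by
  obtain ⟨φ, ψ, h1, h2, h3, h4⟩ := h
  refine ⟨_, _, h1.conj hg, h2.conj hg, ?_, ?_⟩
  · change φ (g.symm (g b)) ≠ 0
    rwa [LinearEquiv.symm_apply_apply]
  · change ψ (g.symm (g a)) ≠ 0
    rwa [LinearEquiv.symm_apply_apply]

theorem Cmp.map {a b : V} (h : Cmp H a b) {g : V ≃ₗ[F] V} (hg : g ∈ H) : Cmp H (g a) (g b) := by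
  induction h with
  | refl => exact Cmp.refl _
  | tail _ h2 ih => exact Relation.ReflTransGen.tail ih (Rel.map h2 hg)

/-- The span of the component of `a`. -/
def Wcp (H : Subgroup (V ≃ₗ[F] V)) (a : V) : Submodule F V := Submodule.span F {x | Cmp H a x}

theorem Wcp_congr {a b : V} (h : Cmp H a b) : Wcp H a = Wcp H b := by
  unfold Wcp
  congr 1
  ext x
  exact ⟨fun h1 => h.symm.trans h1, fun h1 => h.trans h1⟩

theorem Wcp_map (a : V) {g : V ≃ₗ[F] V} (hg : g ∈ H) : (Wcp H a).map (g : V →ₗ[F] V) = Wcp H (g a) := by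
  unfold Wcp
  rw [Submodule.map_span]
  congr 1
  ext x
  constructor
  · rintro ⟨y, hy, rfl⟩
    exact Cmp.map hy hg
  · intro hx
    refine ⟨g⁻¹ x, ?_, g.apply_symm_apply x⟩
    have := Cmp.map hx (H.inv_mem hg)
    rwa [show (g⁻¹ : V ≃ₗ[F] V) (g a) = a from g.symm_apply_apply a] at this

/-- The functionals of a centre outside of the component of `b` vanish on the span of this component. -/
theorem vanish_Wcp [FiniteDimensional F V] (hN : NI H) {b c : V} (hb : Ctr H b) (hc : c ≠ 0) {χ : Dual F V}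
    (hT : Tv H c χ) (h : ¬ Cmp H b c) : ∀ x ∈ Wcp H b, χ x = 0 := by
  intro x hx
  refine Submodule.span_induction (p := fun y _ => χ y = 0) ?_ ?_ ?_ ?_ hx
  · intro y hy
    by_contra h1
    obtain ⟨z, φ, ψ, k1, k2, k3, k4⟩ := hb.of_cmp hy
    have h2 : Cmp H c y := cmp_of_np (full H) hN hc k1 (fun h0 => k3 (by rw [h0]; rfl)) ⟨χ, hT, h1⟩
    exact h (Cmp.trans hy h2.symm)
  · exact map_zero χ
  · intro y z _ _ h1 h2
    rw [map_add, h1, h2, add_zero]
  · intro c y _ h1
    rw [map_smul, h1, smul_zero]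

theorem Ctr.map {a : V} (h : Ctr H a) {g : V ≃ₗ[F] V} (hg : g ∈ H) : Ctr H (g a) := by
  obtain ⟨b, hb⟩ := h
  exact ⟨_, Rel.map hb hg⟩

/-- **The components are blocks.** -/
theorem blk [FiniteDimensional F V] (hI : IrrG H) {a : V} (ha : Ctr H a) (hne : Wcp H a ≠ ⊤) :
    BlkL H (Wcp H a) := by
  have hN := ni_of_irr hI
  have ha0 : a ∈ Wcp H a := Submodule.subset_span (Cmp.refl a)
  have hbot : Wcp H a ≠ ⊥ := by
    intro h0
    rw [h0] at ha0
    exact ha.ne_zero ((Submodule.mem_bot F).1 ha0)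
  refine ⟨hne, ?_, sSup_eq_top hI hbot⟩
  rintro Y ⟨h, hh, rfl⟩
  rw [Wcp_map a hh]
  set b := h a with hb
  have hbc : Ctr H b := Ctr.map ha hh
  rw [Submodule.disjoint_def]
  intro x hx1 hx2
  obtain ⟨e, φ, ψ, k1, k2, k3, k4⟩ := id ha
  refine common_ker hI k1 ha.ne_zero (fun h0 => k3 (by rw [h0]; rfl)) fun c χ hc hχ hT => ?_
  by_cases hbcc : Cmp H b c
  · have h3 : sSup ({Z : Submodule F V | ∃ h ∈ H, Z = (Wcp H a).map (h : V →ₗ[F] V)} \ {Wcp H b}) ≤
        LinearMap.ker χ := by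
      refine sSup_le ?_
      rintro Z ⟨⟨g, hg, rfl⟩, hZ⟩ y hy
      rw [Wcp_map a hg] at hZ hy
      refine vanish_Wcp hN (Ctr.map ha hg) hc hT (fun h4 => hZ ?_) y hy
      rw [Set.mem_singleton_iff]
      exact (Wcp_congr h4).trans (Wcp_congr hbcc).symm
    exact h3 hx2
  · exact vanish_Wcp hN hbc hc hT hbcc x hx1

end Cfsg.Agent.H806.Bs
end
end

-- part: H806/Bs/GenB_mg
section
prune_inst 0x30407104250002000018001670201c62f2000422004b8400e560028006c1cce2e0c32e61bbb0271d42b68845583d0048138800300268000004200400411d01a080815206b348a10406009f800000000000000000310000000000000000000000000000000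
set_option linter.all false
open scoped Cfsg.Agent.FastGrp

-- part: H806/Bs/GenB
section
/-!
# Irreducible groups containing full transvection groups (helper806, task BS30 of S5733), part 2

* `exists_fun` : the skew-symmetric normalisation of the functionals in a component with `dim Phi = 1` (all fields);
* `sp_of_one` : if the component spans `V`, then `H` preserves a symplectic form up to scalars;
* `sl_of_two` : `dim Phi ≥ 2` and the component spans `V`: `SL(V) ≤ H`;
* `gen_sl` : BS30.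
-/

set_option autoImplicit false
set_option linter.unusedSectionVars false

namespace Cfsg.Agent.H806.Bs

open Module Cfsg.Agent.H847.Bs Cfsg.Agent.H806.Bs.McL

variable {F V : Type*} [Field F] [AddCommGroup V] [Module F V] {H : Subgroup (V ≃ₗ[F] V)}

theorem eq_smul_one {a x : V} (h1 : finrank F (Phi (full H) a) = 1) (hx : Cmp H a x) {φ ψ : Dual F V}
    (hφ : Tv H x φ) (h0 : φ ≠ 0) (hψ : Tv H x ψ) : ∃ μ : F, ψ = μ • φ := by
  have h4 : finrank F (Phi (full H) x) = 1 := by rw [← hx.finrank_eq (full H), h1]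
  obtain ⟨μ, hμ⟩ := (finrank_eq_one_iff_of_nonzero' (⟨φ, hφ⟩ : Phi (full H) x)
    (fun h0' => h0 (congrArg Subtype.val h0'))).1 h4 ⟨ψ, hψ⟩
  exact ⟨μ, (congrArg Subtype.val hμ).symm⟩

/-- The skew-symmetric normalisation. -/
theorem exists_fun [FiniteDimensional F V] {a : V} (ha : Ctr H a) (h1 : finrank F (Phi (full H) a) = 1) :
    ∃ f : V → Dual F V, (∀ x, Cmp H a x → Tv H x (f x) ∧ f x ≠ 0) ∧
      ∀ x y, Cmp H a x → Cmp H a y → f x y = - f y x := by
  by_cases hbig : ∃ c : F, c ≠ 0 ∧ c ≠ 1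
  · exact SpH.exists_form (hF := full H) ⟨ha, h1, hbig⟩
  · push Not at hbig
    have h01 : ∀ c : F, c = 0 ∨ c = 1 := fun c => or_iff_not_imp_left.2 (hbig c)
    have hneg : (-1 : F) = 1 := (h01 (-1)).resolve_left (neg_ne_zero.2 one_ne_zero)
    have hex : ∀ x, ∃ φ : Dual F V, Cmp H a x → Tv H x φ ∧ φ ≠ 0 := by
      intro x
      by_cases hx : Cmp H a x
      · obtain ⟨b, φ, ψ, k1, k2, k3, k4⟩ := ha.of_cmp hx
        exact ⟨φ, fun _ => ⟨k1, fun h0 => k3 (by rw [h0]; rfl)⟩⟩
      · exact ⟨0, fun h => absurd h hx⟩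
    choose f hf using hex
    refine ⟨f, hf, ?_⟩
    have key : ∀ x y, Cmp H a x → Cmp H a y → f x y ≠ 0 → f y x ≠ 0 := by
      intro x y hx hy h0
      obtain ⟨φ, k1, k2⟩ := Cmp.np_symm (full H) (Cmp.trans hx.symm hy) ⟨f x, (hf x hx).1, h0⟩
      obtain ⟨μ, rfl⟩ := eq_smul_one h1 hy (hf y hy).1 (hf y hy).2 k1
      intro h3
      exact k2 (by rw [LinearMap.smul_apply, h3, smul_zero])
    intro x y hx hy
    have e : - f y x = f y x := by
      rw [← neg_one_mul, hneg, one_mul]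
    rw [e]
    rcases h01 (f x y) with h2 | h2 <;> rcases h01 (f y x) with h3 | h3
    · rw [h2, h3]
    · exact absurd h2 (key y x hy hx (by rw [h3]; exact one_ne_zero))
    · exact absurd h3 (key x y hx hy (by rw [h2]; exact one_ne_zero))
    · rw [h2, h3]

/-- If all functionals vanish... a property of vectors which holds on a component spanning `V` and is linear. -/
theorem ind_top {a : V} (htop : Wcp H a = ⊤) {p : V → Prop} (h1 : ∀ x, Cmp H a x → p x) (h0 : p 0)
    (hadd : ∀ x y, p x → p y → p (x + y)) (hsmul : ∀ (c : F) x, p x → p (c • x)) (x : V) : p x := by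
  have hx : x ∈ Wcp H a := by rw [htop]; trivial
  exact Submodule.span_induction (p := fun y _ => p y) (fun y hy => h1 y hy) h0
    (fun y z _ _ h2 h3 => hadd y z h2 h3) (fun c y _ h2 => hsmul c y h2) hx

/-- If the component of `a` spans `V`, it contains all centres. -/
theorem cmp_of_top [FiniteDimensional F V] (hN : NI H) {a : V} (ha : Ctr H a) (htop : Wcp H a = ⊤) {c : V}
    {χ : Dual F V} (hc : c ≠ 0) (hχ : χ ≠ 0) (hT : Tv H c χ) : Cmp H a c := by
  by_contra h
  apply hχ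
  ext x
  exact vanish_Wcp hN ha hc hT h x (by rw [htop]; trivial)

/-- **The symplectic case.** -/
theorem sp_of_one [FiniteDimensional F V] (hI : IrrG H) {a : V} (ha : Ctr H a)
    (h1 : finrank F (Phi (full H) a) = 1) (htop : Wcp H a = ⊤) :
    ∃ Φ : Cfsg.Agent.H847.Bs.Frm F V, IsSp Φ ∧ ∀ h ∈ H, ∃ μ : F, ∀ x y, Φ.B (h x) (h y) = μ * Φ.B x y := by
  have hN := ni_of_irr hI
  obtain ⟨f, hf, hskew⟩ := exists_fun ha h1
  -- the linear extension
  obtain ⟨B, hB⟩ : ∃ B : V →ₗ[F] Dual F V, ∀ x, Cmp H a x → B x = f x := by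
    obtain ⟨s, hs1, hs2, hs3⟩ := exists_linearIndependent F {x | Cmp H a x}
    let b : Basis s F V := Basis.mk hs3 (by
      rw [Subtype.range_coe, hs2]
      exact htop.ge)
    have hb : ∀ i : s, b i = i := fun i => by rw [Basis.mk_apply]
    let B : V →ₗ[F] Dual F V := b.constr F fun i : s => f i
    have hBi : ∀ i : s, B i = f i := fun i => by
      have := b.constr_basis F (fun i : s => f i) i
      rwa [hb] at this
    refine ⟨B, fun x hx => ?_⟩
    -- both sides agree on the centres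
    have key : ∀ y, Cmp H a y → ∀ z, B z y = - f y z := by
      intro y hy z
      have h2 : (LinearMap.applyₗ y : Dual F V →ₗ[F] F) ∘ₗ B = - f y := by
        refine b.ext fun i => ?_
        rw [hb]
        change B i y = - f y i
        rw [hBi, hskew _ _ (hs1 i.2) hy]
      exact LinearMap.congr_fun h2 z
    ext y
    refine ind_top (p := fun y => B x y = f x y) htop (fun y hy => ?_) ?_ ?_ ?_ y
    · rw [key y hy, hskew x y hx hy]
    · rw [map_zero, map_zero]
    · intro y z h2 h3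
      rw [map_add, map_add, h2, h3]
    · intro c y h2
      rw [map_smul, map_smul, h2]
  have hsk : ∀ x y, B x y = - B y x := by
    intro x y
    refine ind_top (p := fun x => B x y = - B y x) htop (fun x hx => ?_) ?_ ?_ ?_ x
    · refine ind_top (p := fun y => B x y = - B y x) htop (fun y hy => ?_) ?_ ?_ ?_ y
      · rw [hB x hx, hB y hy, hskew x y hx hy]
      · simp
      · intro y z h2 h3
        rw [map_add, map_add, h2, h3, LinearMap.add_apply]; ring
      · intro c y h2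
        rw [map_smul, map_smul, h2, LinearMap.smul_apply, smul_eq_mul, smul_eq_mul]; ring
    · simp
    · intro x z h2 h3
      rw [map_add, map_add, LinearMap.add_apply, h2, h3]; ring
    · intro c x h2
      rw [map_smul, map_smul, LinearMap.smul_apply, h2, smul_eq_mul, smul_eq_mul]; ring
  have halt : ∀ x, B x x = 0 := by
    intro x
    refine ind_top (p := fun x => B x x = 0) htop (fun x hx => ?_) ?_ ?_ ?_ x
    · rw [hB x hx]; exact (hf x hx).1.1
    · simp
    · intro x y h2 h3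
      rw [map_add, map_add, LinearMap.add_apply, LinearMap.add_apply, h2, h3, hsk x y]; ring
    · intro c x h2
      rw [map_smul, map_smul, LinearMap.smul_apply, h2, smul_zero, smul_zero]
  obtain ⟨e, φ₀, ψ₀, k1, k2, k3, k4⟩ := id ha
  have hφ₀ : φ₀ ≠ 0 := fun h0 => k3 (by rw [h0]; rfl)
  have hnd : ∀ x, (∀ y, B x y = 0) → x = 0 := by
    intro x hx
    refine common_ker hI k1 ha.ne_zero hφ₀ fun c χ hc hχ hT => ?_
    have hcc := cmp_of_top hN ha htop hc hχ hT
    obtain ⟨μ, rfl⟩ := eq_smul_one h1 hcc (hf c hcc).1 (hf c hcc).2 hT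
    rw [LinearMap.smul_apply, ← hB c hcc, hsk c x, hx c, neg_zero, smul_zero]
  refine ⟨{ B := fun x y => B x y, q := fun _ => 0, s := fun c => c,
            add_left := fun x y z => by rw [map_add]; rfl
            add_right := fun x y z => by rw [map_add]
            smul_left := fun c x y => by rw [map_smul]; rfl
            smul_right := fun c x y => by rw [map_smul]; rfl
            refl := fun x y h => by rw [hsk, h, neg_zero]
            q_add := fun x y _ => by rw [add_zero] },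
    ⟨hnd, fun _ => rfl, fun _ => rfl, halt⟩, fun h hh => ?_⟩
  -- similitudes
  have hloc : ∀ x, Cmp H a x → Cmp H a (h x) ∧ ∃ μ : F, ∀ z, B (h x) (h z) = μ * B x z := by
    intro x hx
    have h2 := (hf x hx).1.conj hh
    have h3 : Cmp H a (h x) := by
      refine cmp_of_top hN ha htop ?_ ?_ h2
      · intro h0
        exact (ha.of_cmp hx).ne_zero (h.map_eq_zero_iff.1 h0)
      · intro h0
        apply (hf x hx).2
        ext z
        have h4 := LinearMap.congr_fun h0 (h z)
        change f x (h.symm (h z)) = 0 at h4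
        rwa [LinearEquiv.symm_apply_apply] at h4
    refine ⟨h3, ?_⟩
    obtain ⟨μ, hμ⟩ := eq_smul_one h1 h3 h2 (fun h0 => by
      apply (hf x hx).2
      ext z
      have h4 := LinearMap.congr_fun h0 (h z)
      change f x (h.symm (h z)) = 0 at h4
      rwa [LinearEquiv.symm_apply_apply] at h4) (hf _ h3).1
    refine ⟨μ, fun z => ?_⟩
    rw [hB _ h3, hμ, LinearMap.smul_apply, hB x hx]
    change μ • f x (h.symm (h z)) = _
    rw [LinearEquiv.symm_apply_apply, smul_eq_mul]
  obtain ⟨-, μ, hμ⟩ := hloc a (Cmp.refl a)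
  have hall : ∀ x, Cmp H a x → ∀ z, B (h x) (h z) = μ * B x z := by
    intro x hx
    induction hx with
    | refl => exact hμ
    | @tail x y hx hxy ih =>
      have hy : Cmp H a y := Cmp.trans hx hxy.cmp
      obtain ⟨-, ν, hν⟩ := hloc y hy
      obtain ⟨φ, ψ, j1, j2, j3, j4⟩ := hxy
      obtain ⟨l, rfl⟩ := eq_smul_one h1 hx (hf x hx).1 (hf x hx).2 j1
      have h2 : B x y ≠ 0 := by
        rw [hB x hx]
        intro h0
        exact j3 (by rw [LinearMap.smul_apply, h0, smul_zero])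
      have h3 : ν * B y x = μ * B y x := by
        rw [← hν x, hsk (h y) (h x), ih y, hsk y x]; ring
      have h4 : B y x ≠ 0 := by rw [hsk]; exact neg_ne_zero.2 h2
      rw [mul_right_cancel₀ h4 h3] at hν
      exact hν
  refine ⟨μ, fun x y => ?_⟩
  change B (h x) (h y) = μ * B x y
  refine ind_top (p := fun x => B (h x) (h y) = μ * B x y) htop (fun x hx => hall x hx y) ?_ ?_ ?_ x
  · simp
  · intro x z h2 h3
    rw [map_add, map_add, LinearMap.add_apply, h2, h3, map_add, LinearMap.add_apply]; ring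
  · intro c x h2
    rw [map_smul, map_smul, LinearMap.smul_apply, h2, map_smul, LinearMap.smul_apply, smul_eq_mul, smul_eq_mul]; ring

/-- **The linear case.** -/
theorem sl_of_two [FiniteDimensional F V] (hI : IrrG H) {a : V} (ha : Ctr H a)
    (h2 : 2 ≤ finrank F (Phi (full H) a)) (htop : Wcp H a = ⊤) (hV : 2 ≤ finrank F V) : slV F V ≤ H := by
  have hN := ni_of_irr hI
  have hA := addC_of_two_le (full H) hN ha h2
  have hW : WW (full H) ha hA = ⊤ := by
    rw [eq_top_iff, ← htop]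
    exact Submodule.span_le.2 fun x hx => Or.inr hx
  intro g hg
  refine Cfsg.Agent.H743.McL.mem_of_det_eq_one hV H ?_ g hg
  intro x φ hx
  by_cases hx0 : x = 0
  · exact ⟨1, H.one_mem, fun y => by rw [hx0, smul_zero, add_zero]; rfl⟩
  · have hxW : x ∈ WW (full H) ha hA := by rw [hW]; trivial
    have hxc : Cmp H a x := hxW.resolve_left hx0
    obtain ⟨ψ, k1, k2⟩ := sl_exists (full H) hN ha h2 hxc (φ.domRestrict _) hx
    have h3 : ψ = φ := by
      ext w
      exact k2 ⟨w, by rw [hW]; trivial⟩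
    rw [← h3]
    exact k1.elt.2

/-- **BS30.** An irreducible subgroup of `GL(V)` containing `SL(W)` (`dim W = 2`, trivial on a complement). -/
theorem gen_sl [FiniteDimensional F V] (hI : IrrG H) {W U : Submodule F V} (hc : IsCompl W U)
    (hW : finrank F W = 2) (hon : HasOn (slV F V) H W U) :
    slV F V ≤ H ∨ (∃ D : Submodule F V, BlkL H D ∧ 2 ≤ finrank F D) ∨
      ∃ Φ : Cfsg.Agent.H847.Bs.Frm F V, IsSp Φ ∧ ∀ h ∈ H, ∃ μ : F, ∀ x y, Φ.B (h x) (h y) = μ * Φ.B x y := by
  -- the transvections of `W`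
  have hT : ∀ (w : V) (φ : Dual F V), w ∈ W → (∀ u ∈ U, φ u = 0) → φ w = 0 → Tv H w φ := by
    intro w φ hw hU h0
    refine ⟨h0, fun c => ?_⟩
    have h1 : (c • φ) w = 0 := by rw [LinearMap.smul_apply, h0, smul_zero]
    refine ⟨LinearEquiv.transvection h1, hon _ ?_ ?_ ?_, fun x => ?_⟩
    · change LinearMap.det ((LinearEquiv.transvection h1 : V ≃ₗ[F] V) : V →ₗ[F] V) = 1
      rw [← LinearEquiv.coe_det, LinearEquiv.transvection.det_eq_one h1, Units.val_one]
    · intro v hv
      rw [LinearEquiv.transvection.apply]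
      exact W.add_mem hv (W.smul_mem _ hw)
    · intro u hu
      rw [LinearEquiv.transvection.apply, LinearMap.smul_apply, hU u hu, smul_zero, zero_smul, add_zero]
    · rw [LinearEquiv.transvection.apply, LinearMap.smul_apply, smul_eq_mul]
  have : FiniteDimensional F W := inferInstance
  let b : Basis (Fin 2) F W := finBasisOfFinrankEq F W hW
  let π : V →ₗ[F] W := W.projectionOnto U hc
  have hπW : ∀ w : W, π w = w := fun w => Submodule.projectionOnto_apply_left hc w
  have hπU : ∀ u ∈ U, π u = 0 := fun u hu => (Submodule.projectionOnto_apply_eq_zero_iff hc).2 hu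
  have hTi : ∀ i j : Fin 2, i ≠ j → Tv H (b i : V) (b.coord j ∘ₗ π) := by
    intro i j hij
    refine hT _ _ (b i).2 (fun u hu => ?_) ?_
    · rw [LinearMap.comp_apply, hπU u hu, map_zero]
    · rw [LinearMap.comp_apply, hπW, Basis.coord_apply, Basis.repr_self, Finsupp.single_eq_of_ne hij.symm]
  have hval : ∀ i : Fin 2, (b.coord i ∘ₗ π) (b i : V) = 1 := by
    intro i
    rw [LinearMap.comp_apply, hπW, Basis.coord_apply, Basis.repr_self, Finsupp.single_eq_same]
  have hrel : Rel H (b 0 : V) (b 1 : V) :=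
    ⟨_, _, hTi 0 1 (by decide), hTi 1 0 (by decide), by rw [hval]; exact one_ne_zero,
      by rw [hval]; exact one_ne_zero⟩
  have ha : Ctr H (b 0 : V) := ⟨_, hrel⟩
  have hWle : W ≤ Wcp H (b 0 : V) := by
    have h1 : ∀ i : Fin 2, (b i : V) ∈ Wcp H (b 0 : V) := by
      intro i
      fin_cases i
      · exact Submodule.subset_span (Cmp.refl _)
      · exact Submodule.subset_span hrel.cmp
    intro w hw
    have h2 := b.sum_repr ⟨w, hw⟩
    have h3 : (∑ i, b.repr ⟨w, hw⟩ i • (b i : V)) = w := by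
      have h4 := congrArg Subtype.val h2
      rw [AddSubmonoidClass.coe_finsetSum] at h4
      exact h4
    rw [← h3]
    exact Submodule.sum_mem _ fun i _ => Submodule.smul_mem _ _ (h1 i)
  have h2 : 2 ≤ finrank F (Wcp H (b 0 : V)) := le_of_eq_of_le hW.symm (Submodule.finrank_mono hWle)
  by_cases htop : Wcp H (b 0 : V) = ⊤
  · by_cases hm : 2 ≤ finrank F (Phi (full H) (b 0 : V))
    · left
      refine sl_of_two hI ha hm htop ?_
      rw [htop, finrank_top] at h2
      exact h2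
    · right; right
      refine sp_of_one hI ha ?_ htop
      have h3 : 1 ≤ finrank F (Phi (full H) (b 0 : V)) := by
        rw [Submodule.one_le_finrank_iff]
        intro h0
        have h5 : b.coord 1 ∘ₗ π ∈ Phi (full H) (b 0 : V) := hTi 0 1 (by decide)
        rw [h0, Submodule.mem_bot] at h5
        have h4 := hval 1
        rw [h5] at h4
        exact zero_ne_one h4
      omega
  · right; left
    exact ⟨_, blk hI ha htop, h2⟩

end Cfsg.Agent.H806.Bs
end

-- part: H24/Bs/S31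
section
set_option autoImplicit false

namespace Cfsg.Agent.H24.Bs

open Cfsg.Agent.H847.Bs Module

/-- **BS31** in the form of `H847/Bs/Stmts.lean`. -/
theorem s31 : S31 := by
  intro F V _ _ _ _ _ Φ H W U hΦ hH hirr hd h4 hon
  rcases gen_sp hΦ hH hirr hd hon (by omega) (Or.inr h4) with h | ⟨D, h1, h2⟩
  · exact Or.inl h
  · exact Or.inr ⟨D, h1, h4.trans (Submodule.finrank_mono h2)⟩

end Cfsg.Agent.H24.Bs
end

-- part: H450/Bs/GenSU
section
/-!
# BS32: irreducible subgroups of the special unitary group containing `SU(W)`, `dim W ≥ 4` (helper450, S5733)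
-/

set_option autoImplicit false

namespace Cfsg.Agent.H450.Bs

open Module Cfsg.Agent.H91.U Cfsg.Agent.H847.Bs Cfsg.Agent.LieClassical.HermBasic

variable {F V : Type*} [Field F] [AddCommGroup V] [Module F V] {Φ : Frm F V} {r : ℕ}

/-- **generation, SU** (`dim W ≥ 4`) -/
theorem gen_su' [Finite F] [FiniteDimensional F V] (hΦ : IsHerm r Φ) {H : Subgroup (V ≃ₗ[F] V)}
    (hH : H ≤ Φ.Iso ⊓ slV F V) (irr : IrrG H) {W U : Submodule F V} (hd : Φ.Dec W U) (h4 : 4 ≤ finrank F W)
    (hon : HasOn (Φ.Iso ⊓ slV F V) H W U) :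
    Φ.Iso ⊓ slV F V ≤ H ∨ ∃ D : Submodule F V, Blk Φ H D ∧ 4 ≤ finrank F D := by
  have := Fintype.ofFinite F
  have hF : Fintype.card F = r ^ 2 := by rw [← Nat.card_eq_fintype_card, hΦ.card]
  have hB := hform_toB hF hΦ
  have hi : ∀ h ∈ H, ∀ x y, toB hF hΦ (h x) (h y) = toB hF hΦ x y := fun h hh => (iso_iff hF hΦ).1 (hH hh).1
  have hWW : WW (toB hF hΦ) H W := by
    refine ⟨fun x hx h => hΦ.nd x fun v => ?_, fun c hc hc0 hcc l hl g hg => ?_⟩
    · obtain ⟨w, hw, u, hu, rfl⟩ := Submodule.mem_sup.1 (hd.compl.sup_eq_top.ge (Submodule.mem_top (x := v)))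
      rw [Φ.add_right, Φ.refl _ _ (h w hw), hd.orth x hx u hu, add_zero]
    · refine hon g ?_ (fun w hw => ?_) fun u hu => ?_
      · rw [← siso_toB hF hΦ]
        exact hg.mem hB hcc hl
      · rw [hg w]
        exact W.add_mem hw (W.smul_mem _ hc)
      · rw [hg u, toB_apply, Φ.refl _ _ (hd.orth c hc u hu), mul_zero, zero_smul, add_zero]
  rcases main hB hi irr hWW h4 with h | ⟨D, hD, hnd, ho, hD4⟩
  · left
    rwa [siso_toB] at h
  · right
    refine ⟨D, ⟨hD, fun x hx h => hnd x hx fun y hy => Φ.refl _ _ (h y hy), fun h hh => ?_⟩, hD4⟩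
    rcases ho h hh with h1 | h1
    · exact Or.inl h1
    · exact Or.inr fun x hx y hy => Φ.refl _ _ (h1 x hx y hy)

end Cfsg.Agent.H450.Bs
end
end

-- part: H42/Bs/Herm
section
prune_inst 0x401000010002000000000250201c62c20000200008800080400082048004a040822860bc00211c4a22004500340048128800200000000000200000011d0180000010009008000002000e000000000000000000300000000000000000000000000000000
set_option linter.all false
open scoped Cfsg.Agent.FastGrp

-- part: H42/Bs/Good
section
/-!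
# S5733, BS35: hermitian-type forms (helper42)
-/

set_option autoImplicit false

namespace Cfsg.Agent.H42.Bs

open Cfsg.Agent.H847.Bs

/-- the forms which occur: alternating, symmetric (with a quadratic form), hermitian -/
structure Good {F V : Type*} [Field F] [AddCommGroup V] [Module F V] (Φ : Frm F V) : Prop where
  nd : Φ.Nd
  s_add : ∀ a b, Φ.s (a + b) = Φ.s a + Φ.s b
  s_mul : ∀ a b, Φ.s (a * b) = Φ.s a * Φ.s b
  s_s : ∀ a, Φ.s (Φ.s a) = a
  eps : ∃ ε : F, ε * Φ.s ε = 1 ∧ ∀ x y, Φ.B y x = ε * Φ.s (Φ.B x y)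
  quad : ∃ κ : F, ∀ x y, Φ.q (x + y) = Φ.q x + Φ.q y + κ * Φ.B x y
  q_smul : ∀ (c : F) x, Φ.q (c • x) = c * c * Φ.q x

variable {F V : Type*} [Field F] [AddCommGroup V] [Module F V] {Φ : Frm F V}

theorem Good.on (h : Good Φ) {D : Submodule F V} (hD : Φ.NdOn D) : Good (Φ.on D) where
  nd x hx := Subtype.ext (hD x x.2 fun y hy => hx ⟨y, hy⟩)
  s_add := h.s_add
  s_mul := h.s_mul
  s_s := h.s_s
  eps := by
    obtain ⟨ε, h1, h2⟩ := h.eps
    exact ⟨ε, h1, fun x y => h2 x y⟩
  quad := by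
    obtain ⟨κ, h1⟩ := h.quad
    exact ⟨κ, fun x y => h1 x y⟩
  q_smul c x := h.q_smul c x

theorem Good.s_zero (h : Good Φ) : Φ.s 0 = 0 := by
  have := h.s_add 0 0
  rw [add_zero] at this
  exact left_eq_add.1 this

/-- the adjoint relation for a form of this kind -/
def Adj (Φ : Frm F V) (b c : V →ₗ[F] V) : Prop := ∀ v w, Φ.B (b v) w = Φ.B v (c w)

theorem B_zero_left (w : V) : Φ.B 0 w = 0 := by
  have := Φ.add_left 0 0 w
  rw [add_zero] at this
  exact left_eq_add.1 this

theorem B_zero_right (w : V) : Φ.B w 0 = 0 := by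
  have := Φ.add_right w 0 0
  rw [add_zero] at this
  exact left_eq_add.1 this

theorem B_neg_left (v w : V) : Φ.B (-v) w = - Φ.B v w := by
  rw [← neg_one_smul F v, Φ.smul_left, neg_one_mul]

theorem B_sub_left (v v' w : V) : Φ.B (v - v') w = Φ.B v w - Φ.B v' w := by
  rw [sub_eq_add_neg, Φ.add_left, B_neg_left, sub_eq_add_neg]

theorem B_neg_right (v w : V) : Φ.B v (-w) = - Φ.B v w := by
  have h := Φ.add_right v w (-w)
  rw [add_neg_cancel, B_zero_right] at h
  exact (neg_eq_of_add_eq_zero_right h.symm).symm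

theorem B_sub_right (v w w' : V) : Φ.B v (w - w') = Φ.B v w - Φ.B v w' := by
  rw [sub_eq_add_neg, Φ.add_right, B_neg_right, sub_eq_add_neg]

theorem Good.nd_right (h : Good Φ) {w : V} (hw : ∀ v, Φ.B v w = 0) : w = 0 :=
  h.nd w fun y => Φ.refl _ _ (hw y)

theorem Good.ext_right (h : Good Φ) {w w' : V} (hw : ∀ v, Φ.B v w = Φ.B v w') : w = w' := by
  rw [← sub_eq_zero]
  exact h.nd_right fun v => by rw [B_sub_right, hw, sub_self]

theorem Adj.unique (h : Good Φ) {b c c' : V →ₗ[F] V} (h1 : Adj Φ b c) (h2 : Adj Φ b c') : c = c' := by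
  ext w
  exact h.ext_right fun v => by rw [← h1, ← h2]

theorem Adj.symm (h : Good Φ) {b c : V →ₗ[F] V} (h1 : Adj Φ b c) : Adj Φ c b := by
  obtain ⟨ε, hε, hs⟩ := h.eps
  intro v w
  rw [hs w (c v), ← h1, hs v (b w), h.s_mul, h.s_s, ← mul_assoc, hε, one_mul]

theorem Adj.mul {b c b' c' : V →ₗ[F] V} (h1 : Adj Φ b b') (h2 : Adj Φ c c') : Adj Φ (b * c) (c' * b') := by
  intro v w
  rw [Module.End.mul_apply, Module.End.mul_apply, h1, h2]

theorem Adj.one : Adj Φ 1 1 := fun _ _ => rfl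

theorem Adj.add {b c b' c' : V →ₗ[F] V} (h1 : Adj Φ b b') (h2 : Adj Φ c c') : Adj Φ (b + c) (b' + c') := by
  intro v w
  rw [LinearMap.add_apply, LinearMap.add_apply, Φ.add_left, Φ.add_right, h1, h2]

theorem Adj.neg {b b' : V →ₗ[F] V} (h1 : Adj Φ b b') : Adj Φ (-b) (-b') := by
  intro v w
  rw [LinearMap.neg_apply, LinearMap.neg_apply, B_neg_left, B_neg_right, h1]

theorem Adj.pow {b b' : V →ₗ[F] V} (h1 : Adj Φ b b') (n : ℕ) : Adj Φ (b ^ n) (b' ^ n) := by
  induction n with
  | zero => rw [pow_zero, pow_zero]; exact Adj.one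
  | succ n ih =>
    rw [pow_succ, pow_succ']
    exact ih.mul h1

/-- functionals are represented by the form -/
theorem Good.exists_repr (h : Good Φ) [Finite F] [FiniteDimensional F V] (f : V →ₗ[F] F) :
    ∃ w, ∀ v, f v = Φ.B v w := by
  have hV : Finite V := Module.finite_of_finite F
  have hD : Finite (V →ₗ[F] F) := Module.finite_of_finite F
  let j : V → (V →ₗ[F] F) := fun w =>
    { toFun := fun v => Φ.B v w
      map_add' := fun x y => Φ.add_left x y w
      map_smul' := fun c x => Φ.smul_left c x w }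
  have hj : Function.Injective j := fun w w' hw => h.ext_right fun v => LinearMap.congr_fun hw v
  have hc : Nat.card (V →ₗ[F] F) ≤ Nat.card V := by
    rw [Module.natCard_eq_pow_finrank (K := F) (V := V), Module.natCard_eq_pow_finrank (K := F) (V := V →ₗ[F] F)]
    rw [show Module.finrank F (V →ₗ[F] F) = Module.finrank F V from Subspace.dual_finrank_eq]
  have hs : Function.Surjective j := (hj.bijective_of_nat_card_le hc).2
  obtain ⟨w, hw⟩ := hs f
  exact ⟨w, fun v => by rw [← hw]; rfl⟩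

theorem Good.exists_adj (h : Good Φ) [Finite F] [FiniteDimensional F V] (b : V →ₗ[F] V) : ∃ c, Adj Φ b c := by
  have h1 : ∀ w, ∃ w', ∀ v, Φ.B (b v) w = Φ.B v w' := by
    intro w
    let f : V →ₗ[F] F :=
      { toFun := fun v => Φ.B (b v) w
        map_add' := fun x y => by rw [map_add, Φ.add_left]
        map_smul' := fun c x => by rw [map_smul, Φ.smul_left]; rfl }
    obtain ⟨w', hw'⟩ := h.exists_repr f
    exact ⟨w', hw'⟩
  choose c hc using h1
  refine ⟨{ toFun := c, map_add' := ?_, map_smul' := ?_ }, fun v w => hc w v⟩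
  · intro x y
    exact h.ext_right fun v => by rw [← hc, Φ.add_right, Φ.add_right, hc, hc]
  · intro a x
    exact h.ext_right fun v => by rw [← hc, Φ.smul_right, RingHom.id_apply, Φ.smul_right, hc]

end Cfsg.Agent.H42.Bs
end

-- part: H42/Bs/Torus
section
/-!
# S5733, BS35: irreducible isometries commute with isometries of primitive prime order (helper42)
-/

set_option autoImplicit false

namespace Cfsg.Agent.H42.Bs

open Cfsg.Agent.H847.Bs Module

/-- a subring of a finite domain of order `p ^ N` which contains an element of order `r`, `r` a primitive prime divisor of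
`p ^ N - 1`, is everything -/
theorem subring_eq_top {R : Type*} [Ring R] [IsDomain R] [Finite R] {p N r : ℕ} (hp : p.Prime)
    (hR : Nat.card R = p ^ N) (hr : r.Prime) (hprim : ∀ m, r ∣ p ^ m - 1 ↔ N ∣ m) (K : Subring R) {u : R} (hu : u ∈ K)
    (hur : u ^ r = 1) (hu1 : u ≠ 1) : K = ⊤ := by
  classical
  have hcard : ∃ j ≤ N, Nat.card K = p ^ j := by
    have h1 : Nat.card K ∣ p ^ N := by
      rw [← hR]
      exact AddSubgroup.card_addSubgroup_dvd_card K.toAddSubgroup
    exact (Nat.dvd_prime_pow hp).1 h1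
  obtain ⟨j, hj, hK⟩ := hcard
  have hdvd : r ∣ Nat.card K - 1 := by
    have : IsDomain K := inferInstance
    let _ := Fintype.ofFinite K
    let _ : DivisionRing K := Fintype.divisionRingOfIsDomain K
    rw [← Nat.card_units K]
    let v : K := ⟨u, hu⟩
    have hv : v ^ r = 1 := Subtype.ext hur
    have hv1 : v ≠ 1 := fun h => hu1 (congrArg Subtype.val h)
    let w : Kˣ := Units.ofPowEqOne v r hv hr.ne_zero
    have hw : w ^ r = 1 := Units.ext hv
    have hw1 : w ≠ 1 := fun h => hv1 (congrArg Units.val h)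
    have : Fact r.Prime := ⟨hr⟩
    rw [← orderOf_eq_prime hw hw1]
    exact orderOf_dvd_natCard w
  rw [hK] at hdvd
  have hNj := (hprim j).1 hdvd
  have hjN : j = N ∨ j = 0 := by
    rcases Nat.eq_zero_or_pos j with h0 | h0
    · exact Or.inr h0
    · exact Or.inl (le_antisymm hj (Nat.le_of_dvd h0 hNj))
  rcases hjN with rfl | rfl
  · have h1 : Nat.card K.toAddSubgroup = Nat.card R := by rw [hR, ← hK]; rfl
    have h2 := AddSubgroup.eq_top_of_card_eq _ h1
    rw [Subring.eq_top_iff']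
    intro y
    have h3 : y ∈ K.toAddSubgroup := by rw [h2]; trivial
    exact h3
  · exfalso
    rw [pow_zero] at hK
    have : Subsingleton K := (Nat.card_eq_one_iff_unique.1 hK).1
    exact hu1 (congrArg Subtype.val (Subsingleton.elim (⟨u, hu⟩ : K) 1))

section cent

variable {F V : Type*} [Field F] [AddCommGroup V] [Module F V]

/-- an endomorphism commuting with an irreducible automorphism is injective or zero -/
theorem inj_of_comm {x : V ≃ₗ[F] V} (hx : Irr x ⊤) {b : V →ₗ[F] V} (hb : (x : V →ₗ[F] V) * b = b * x) (hb0 : b ≠ 0) :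
    Function.Injective b := by
  rw [← LinearMap.ker_eq_bot]
  have h1 : _root_.Cfsg.Agent.H847.Bs.Inv x (LinearMap.ker b) := by
    intro v hv
    rw [LinearMap.mem_ker] at hv ⊢
    have h2 := LinearMap.congr_fun hb v
    rw [Module.End.mul_apply, Module.End.mul_apply, hv, map_zero] at h2
    exact h2.symm
  rcases hx.min _ le_top h1 with h | h
  · exact h
  · exact absurd (LinearMap.ker_eq_top.1 h) hb0

/-- the centraliser of an irreducible automorphism -/
def cent (x : V ≃ₗ[F] V) : Subring (V →ₗ[F] V) := Subring.centralizer {(x : V →ₗ[F] V)}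

theorem mem_cent {x : V ≃ₗ[F] V} {b : V →ₗ[F] V} : b ∈ cent x ↔ (x : V →ₗ[F] V) * b = b * x := by
  unfold cent
  rw [Subring.mem_centralizer_iff]
  constructor
  · intro h
    exact h _ rfl
  · rintro h _ rfl
    exact h

theorem self_mem_cent (x : V ≃ₗ[F] V) : (x : V →ₗ[F] V) ∈ cent x := mem_cent.2 rfl

theorem isDomain_cent {x : V ≃ₗ[F] V} (hx : Irr x ⊤) : (IsDomain (cent x) :) := by
  have hV : Nontrivial V := by
    by_contra h
    rw [not_nontrivial_iff_subsingleton] at h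
    exact hx.ne_bot (Subsingleton.elim _ _)
  have : Nontrivial (cent x) := ⟨⟨0, 1, fun h => by
    obtain ⟨v, hv⟩ := exists_ne (0 : V)
    have h1 : (0 : V →ₗ[F] V) = 1 := congrArg Subtype.val h
    exact hv (LinearMap.congr_fun h1 v).symm⟩⟩
  have : NoZeroDivisors (cent x) := by
    constructor
    intro b c hbc
    by_cases hb : b = 0
    · exact Or.inl hb
    right
    have hb' : (b : V →ₗ[F] V) ≠ 0 := fun h => hb (Subtype.ext h)
    have hinj := inj_of_comm hx (mem_cent.1 b.2) hb'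
    apply Subtype.ext
    ext v
    apply hinj
    have h1 : (b : V →ₗ[F] V) * (c : V →ₗ[F] V) = 0 := congrArg Subtype.val hbc
    have h2 := LinearMap.congr_fun h1 v
    rw [Module.End.mul_apply] at h2
    rw [h2]
    simp only [_root_.LinearMap.zero_apply, _root_.ZeroMemClass.coe_zero, _root_.map_zero]
  exact NoZeroDivisors.to_isDomain _

/-- every vector is the image of a given one under a polynomial in `x` -/
theorem exists_poly {x : V ≃ₗ[F] V} (hx : Irr x ⊤) {v₀ : V} (h0 : v₀ ≠ 0) (w : V) :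
    ∃ b ∈ Algebra.adjoin F {(x : V →ₗ[F] V)}, b v₀ = w := by
  let Y : Submodule F V :=
    (Subalgebra.toSubmodule (Algebra.adjoin F {(x : V →ₗ[F] V)})).map (LinearMap.applyₗ v₀)
  have h1 : _root_.Cfsg.Agent.H847.Bs.Inv x Y := by
    rintro _ ⟨b, hb, rfl⟩
    refine ⟨(x : V →ₗ[F] V) * b, ?_, rfl⟩
    exact Subalgebra.mul_mem _ (Algebra.subset_adjoin rfl) hb
  have h2 : Y ≠ ⊥ := by
    intro h
    have h3 : v₀ ∈ Y := ⟨1, Subalgebra.one_mem _, rfl⟩
    rw [h, Submodule.mem_bot] at h3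
    exact h0 h3
  rcases hx.min Y le_top h1 with h | h
  · exact absurd h h2
  · have : w ∈ Y := by rw [h]; trivial
    obtain ⟨b, hb, hw⟩ := this
    exact ⟨b, hb, hw⟩

theorem adjoin_le_cent {x : V ≃ₗ[F] V} {b c : V →ₗ[F] V} (hb : b ∈ Algebra.adjoin F {(x : V →ₗ[F] V)})
    (hc : c ∈ cent x) : b * c = c * b := by
  induction hb using Algebra.adjoin_induction with
  | mem y hy =>
    rw [Set.mem_singleton_iff] at hy
    subst hy
    exact mem_cent.1 hc
  | algebraMap r => exact Algebra.commutes r c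
  | add y z _ _ hy hz => rw [add_mul, mul_add, hy, hz]
  | mul y z _ _ hy hz => rw [mul_assoc, hz, ← mul_assoc, hy, mul_assoc]

theorem mem_adjoin_of_cent {x : V ≃ₗ[F] V} (hx : Irr x ⊤) {b : V →ₗ[F] V} (hb : b ∈ cent x) :
    b ∈ Algebra.adjoin F {(x : V →ₗ[F] V)} := by
  obtain ⟨v₀, -, h0⟩ := Submodule.exists_mem_ne_zero_of_ne_bot hx.ne_bot
  obtain ⟨c, hc, hcb⟩ := exists_poly hx h0 (b v₀)
  have hcc : c ∈ cent x := mem_cent.2 (adjoin_le_cent hc (self_mem_cent x)).symm
  have h1 : b - c = 0 := by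
    by_contra h
    have h2 := inj_of_comm hx (mem_cent.1 (Subring.sub_mem _ hb hcc)) h
    apply h0
    apply h2
    rw [LinearMap.sub_apply, hcb, sub_self, map_zero]
  rw [sub_eq_zero.1 h1]
  exact hc

theorem cent_comm {x : V ≃ₗ[F] V} (hx : Irr x ⊤) {b c : V →ₗ[F] V} (hb : b ∈ cent x) (hc : c ∈ cent x) :
    b * c = c * b := adjoin_le_cent (mem_adjoin_of_cent hx hb) hc

theorem card_cent {x : V ≃ₗ[F] V} (hx : Irr x ⊤) : Nat.card (cent x) = Nat.card V := by
  obtain ⟨v₀, -, h0⟩ := Submodule.exists_mem_ne_zero_of_ne_bot hx.ne_bot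
  refine Nat.card_eq_of_bijective (fun b : cent x => (b : V →ₗ[F] V) v₀) ⟨?_, ?_⟩
  · intro b c hbc
    by_contra hne
    have hbc' : (b : V →ₗ[F] V) - c ≠ 0 := fun h => hne (Subtype.ext (sub_eq_zero.1 h))
    have h2 := inj_of_comm hx (mem_cent.1 (Subring.sub_mem _ b.2 c.2)) hbc'
    apply h0
    apply h2
    have hbc2 : (b : V →ₗ[F] V) v₀ = (c : V →ₗ[F] V) v₀ := hbc
    rw [LinearMap.sub_apply, hbc2, sub_self, map_zero]
  · intro w
    obtain ⟨b, hb, hw⟩ := exists_poly hx h0 w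
    exact ⟨⟨b, mem_cent.2 (adjoin_le_cent hb (self_mem_cent x)).symm⟩, hw⟩

end cent

section torus

variable {F V : Type*} [Field F] [AddCommGroup V] [Module F V] {Φ : Frm F V}

/-- the adjoint of an element of the centraliser of an isometry -/
theorem adj_mem_cent (hΦ : Good Φ) {x : V ≃ₗ[F] V} (hx : x ∈ Φ.Iso) {b c : V →ₗ[F] V} (hb : b ∈ cent x)
    (h : Adj Φ b c) : c ∈ cent x := by
  rw [mem_cent] at hb ⊢
  ext w
  apply hΦ.ext_right
  intro v
  obtain ⟨v, rfl⟩ := x.surjective v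
  rw [Module.End.mul_apply, Module.End.mul_apply]
  have h1 := LinearMap.congr_fun hb v
  rw [Module.End.mul_apply, Module.End.mul_apply] at h1
  have h2 : Φ.B (x v) (x (c w)) = Φ.B v (c w) := hx.1 _ _
  have h3 : Φ.B (x (b v)) (x w) = Φ.B (b v) w := hx.1 _ _
  have h4 : Φ.B (x v) (c (x w)) = Φ.B (b (x v)) (x w) := (h _ _).symm
  show Φ.B (x v) (x (c w)) = Φ.B (x v) (c (x w))
  rw [h2, h4, ← h, ← h3]
  congr 1

theorem self_adj_ne (hΦ : Good Φ) {x : V ≃ₗ[F] V} (hx : x ∈ Φ.Iso) (hi : Irr x ⊤) (h2 : 2 ≤ finrank F V) :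
    ¬ Adj Φ (x : V →ₗ[F] V) x := by
  intro h
  have h1 : (x : V →ₗ[F] V) * x = 1 := by
    ext w
    apply hΦ.ext_right
    intro v
    have h3 : Φ.B (x v) (x w) = Φ.B v w := hx.1 _ _
    have h4 : Φ.B (x v) (x w) = Φ.B v (x (x w)) := h _ _
    rw [Module.End.mul_apply]
    exact h4.symm.trans h3
  have := isDomain_cent hi
  let a : cent x := ⟨x, self_mem_cent x⟩
  have h5 : a * a = 1 := Subtype.ext h1
  have h6 : ∃ c : F, ∀ v, x v = c • v := by
    rcases mul_self_eq_one_iff.1 (h5 :) with h7 | h7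
    · refine ⟨1, fun v => ?_⟩
      rw [one_smul]
      exact LinearMap.congr_fun (congrArg Subtype.val h7) v
    · refine ⟨-1, fun v => ?_⟩
      rw [neg_one_smul]
      exact LinearMap.congr_fun (congrArg Subtype.val h7) v
  obtain ⟨c, hc⟩ := h6
  obtain ⟨v₀, -, h0⟩ := Submodule.exists_mem_ne_zero_of_ne_bot hi.ne_bot
  have h8 : _root_.Cfsg.Agent.H847.Bs.Inv x (Submodule.span F {v₀}) := by
    intro v hv
    rw [hc]
    exact Submodule.smul_mem _ _ hv
  rcases hi.min _ le_top h8 with h9 | h9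
  · exact h0 (Submodule.span_singleton_eq_bot.1 h9)
  · have h10 := finrank_span_singleton (K := F) h0
    rw [h9, finrank_top] at h10
    omega

/-- **An irreducible isometry commutes with an irreducible isometry of primitive prime order.** -/
theorem exists_torus [Finite F] [FiniteDimensional F V] (hΦ : Good Φ) {x : V ≃ₗ[F] V} (hx : x ∈ Φ.Iso)
    (hi : Irr x ⊤) (h2 : 2 ≤ finrank F V) {p N r : ℕ} (hp : p.Prime) (hV : Nat.card V = p ^ N) (hr : r.Prime)
    (hprim : ∀ m, r ∣ p ^ m - 1 ↔ N ∣ m) :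
    ∃ u ∈ Φ.Iso, u * x = x * u ∧ u ^ r = 1 ∧ u ≠ 1 ∧ Irr u ⊤ := by
  classical
  have hfV : Finite V := Module.finite_of_finite F
  have hdom := isDomain_cent hi
  have hcard : Nat.card (cent x) = p ^ N := by rw [card_cent hi, hV]
  have hfin : Finite (cent x) := Nat.finite_of_card_ne_zero (by rw [hcard]; exact pow_ne_zero _ hp.ne_zero)
  -- an element of order `r`
  obtain ⟨u, hu⟩ : ∃ u : (cent x)ˣ, orderOf u = r := by
    have : Fact r.Prime := ⟨hr⟩
    apply exists_prime_orderOf_dvd_card'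
    let _ := Fintype.ofFinite (cent x)
    let _ : DivisionRing (cent x) := Fintype.divisionRingOfIsDomain (cent x)
    have h1 := Nat.card_units (cent x)
    rw [hcard] at h1
    have h3 : r ∣ p ^ N - 1 := (hprim N).2 (dvd_refl N)
    rw [← h1] at h3
    exact h3
  have hur : u ^ r = 1 := by rw [← hu]; exact pow_orderOf_eq_one u
  have hu1 : u ≠ 1 := by
    rintro rfl
    rw [orderOf_one] at hu
    exact hr.one_lt.ne hu
  set b : V →ₗ[F] V := ((u : cent x) : V →ₗ[F] V) with hb
  set b' : V →ₗ[F] V := (((u⁻¹ : (cent x)ˣ) : cent x) : V →ₗ[F] V) with hb'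
  have hbb' : b * b' = 1 := congrArg Subtype.val (Units.mul_inv u)
  have hb'b : b' * b = 1 := congrArg Subtype.val (Units.inv_mul u)
  have hbr : b ^ r = 1 := by
    have h1 := congrArg (fun z : (cent x)ˣ => ((z : cent x) : V →ₗ[F] V)) hur
    simpa only [_root_.Units.val_pow_eq_pow_val, _root_.SubmonoidClass.coe_pow, _root_.Units.val_one, _root_.OneMemClass.coe_one] using h1
  have hb1 : b ≠ 1 := fun h => hu1 ((Units.ext (Subtype.ext h) : _))
  have hbc : b ∈ cent x := (u : cent x).2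
  -- the adjoint
  obtain ⟨c, hc⟩ := hΦ.exists_adj b
  have hcc : c ∈ cent x := adj_mem_cent hΦ hx hbc hc
  have hcr : c ^ r = 1 := by
    have h1 := hc.pow r
    rw [hbr] at h1
    exact (h1.unique hΦ Adj.one)
  have hcomm : b * c = c * b := cent_comm hi hbc hcc
  -- the subring of selfadjoint elements
  have hbc1 : b * c = 1 := by
    by_contra hne
    let K : (Subring (cent x) :) :=
      { carrier := {y | Adj Φ (y : V →ₗ[F] V) y}
        mul_mem' := by
          intro y z hy hz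
          have h1 := Adj.mul (Φ := Φ) hy hz
          show Adj Φ ((y : V →ₗ[F] V) * z) ((y : V →ₗ[F] V) * z)
          rw [cent_comm hi z.2 y.2] at h1
          exact h1
        one_mem' := Adj.one
        add_mem' := fun hy hz => Adj.add hy hz
        zero_mem' := by
          intro v w
          show Φ.B 0 w = Φ.B v 0
          rw [B_zero_left, B_zero_right]
        neg_mem' := fun hy => Adj.neg hy }
    have hK : K = ⊤ := by
      refine subring_eq_top hp hcard hr hprim K (u := ⟨b * c, Subring.mul_mem _ hbc hcc⟩) ?_ ?_ ?_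
      · show Adj Φ (b * c) (b * c)
        exact hc.mul (hc.symm hΦ)
      · apply Subtype.ext
        show (b * c) ^ r = 1
        rw [(show Commute b c from hcomm).mul_pow, hbr, hcr, one_mul]
      · intro h
        exact hne (congrArg Subtype.val h)
    apply self_adj_ne hΦ hx hi h2
    have h3 : (⟨x, self_mem_cent x⟩ : cent x) ∈ K := by rw [hK]; trivial
    exact h3
  -- the automorphism
  let g : V ≃ₗ[F] V := LinearEquiv.ofLinearMap b b' hbb' hb'b
  have hgv : ∀ v, g v = b v := fun _ => rfl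
  have hgx : ∀ v, g (x v) = x (g v) := fun v => (LinearMap.congr_fun (mem_cent.1 hbc) v).symm
  have hB : ∀ v w, Φ.B (g v) (g w) = Φ.B v w := by
    intro v w
    rw [hgv, hgv, hc]
    have h1 : c (b w) = w := by
      have := LinearMap.congr_fun (hcomm.symm.trans hbc1) w
      exact this
    rw [h1]
  have hq : ∀ v, Φ.q (g v) = Φ.q v := by
    obtain ⟨κ, hκ⟩ := hΦ.quad
    let Z : Submodule F V :=
      { carrier := {v | Φ.q (g v) - Φ.q v = 0}
        add_mem' := by
          intro v w hv hw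
          rw [Set.mem_ofPred_eq] at hv hw ⊢
          rw [map_add, hκ, hκ, hB]
          linear_combination hv + hw
        zero_mem' := by
          rw [Set.mem_ofPred_eq, map_zero, sub_self]
        smul_mem' := by
          intro a v hv
          rw [Set.mem_ofPred_eq] at hv ⊢
          rw [map_smul, hΦ.q_smul, hΦ.q_smul]
          linear_combination (a * a) * hv }
    have hZ : _root_.Cfsg.Agent.H847.Bs.Inv x Z := by
      intro v hv
      have hv' : Φ.q (g v) - Φ.q v = 0 := hv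
      show Φ.q (g (x v)) - Φ.q (x v) = 0
      rw [hgx, hx.2, hx.2, hv']
    rcases hi.min Z le_top hZ with h | h
    · exfalso
      -- `v ↦ q (g v) - q v` is additive and injective
      have hinj : Function.Injective fun v => Φ.q (g v) - Φ.q v := by
        intro v w hvw
        have hvw' : Φ.q (g v) - Φ.q v = Φ.q (g w) - Φ.q w := hvw
        have h0 : ∀ y, (Φ.q (g y) - Φ.q y = 0) → y = 0 := by
          intro y hy
          have : y ∈ Z := hy
          rwa [h, Submodule.mem_bot] at this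
        rw [← sub_eq_zero]
        apply h0
        have h3 : Φ.q (g (v - w)) - Φ.q (v - w) + (Φ.q (g w) - Φ.q w) = Φ.q (g v) - Φ.q v := by
          have e1 := hκ (g (v - w)) (g w)
          have e2 := hκ (v - w) w
          rw [← map_add, sub_add_cancel] at e1
          rw [sub_add_cancel] at e2
          rw [e1, e2, hB]
          ring
        rw [← hvw'] at h3
        linear_combination h3
      have h4 : Nat.card V ≤ Nat.card F := Nat.card_le_card_of_injective _ hinj
      rw [Module.natCard_eq_pow_finrank (K := F)] at h4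
      have h5 : 1 < Nat.card F := Finite.one_lt_card
      have h6 : Nat.card F ^ 1 < Nat.card F ^ finrank F V := Nat.pow_lt_pow_right h5 (by omega)
      rw [pow_one] at h6
      omega
    · intro v
      have h1 : v ∈ Z := by rw [h]; trivial
      exact sub_eq_zero.1 h1
  refine ⟨g, ⟨hB, hq⟩, ?_, ?_, ?_, ?_⟩
  · ext v
    exact hgx v
  · ext v
    have h1 : ∀ n : ℕ, (g ^ n) v = (b ^ n) v := by
      intro n
      induction n with
      | zero => rfl
      | succ n ih =>
        rw [pow_succ', pow_succ', LinearEquiv.mul_apply, Module.End.mul_apply, ih]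
        rfl
    rw [h1, hbr]
    rfl
  · intro h
    apply hb1
    ext v
    exact LinearEquiv.congr_fun h v
  · refine ⟨fun v _ => trivial, hi.ne_bot, ?_⟩
    intro Y _ hY
    let K : (Subring (cent x) :) :=
      { carrier := {y | ∀ v ∈ Y, (y : V →ₗ[F] V) v ∈ Y}
        mul_mem' := fun hy hz v hv => hy _ (hz _ hv)
        one_mem' := fun v hv => hv
        add_mem' := fun hy hz v hv => Y.add_mem (hy _ hv) (hz _ hv)
        zero_mem' := fun v _ => Y.zero_mem
        neg_mem' := fun hy v hv => Y.neg_mem (hy _ hv) }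
    have hK : K = ⊤ := by
      refine subring_eq_top hp hcard hr hprim K (u := ⟨b, hbc⟩) hY ?_ ?_
      · exact Subtype.ext hbr
      · intro h
        exact hb1 (congrArg Subtype.val h)
    apply hi.min Y le_top
    have h3 : (⟨x, self_mem_cent x⟩ : cent x) ∈ K := by rw [hK]; trivial
    exact h3

end torus

end Cfsg.Agent.H42.Bs
end

-- part: H42/Bs/Geo
section
/-!
# S5733, BS35: the block argument (helper42)
-/

set_option autoImplicit false

namespace Cfsg.Agent.H42.Bs

open Cfsg.Agent.H847.Bs Module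

variable {F V : Type*} [Field F] [AddCommGroup V] [Module F V] {Φ : Frm F V}

theorem map_mul_sub (g h : V ≃ₗ[F] V) (D : Submodule F V) :
    D.map ((g * h : V ≃ₗ[F] V) : V →ₗ[F] V) = (D.map (h : V →ₗ[F] V)).map (g : V →ₗ[F] V) :=
  Submodule.map_comp _ _ _

theorem finrank_map_eq' (g : V ≃ₗ[F] V) (D : Submodule F V) :
    finrank F (D.map (g : V →ₗ[F] V)) = finrank F D :=
  LinearEquiv.finrank_map_eq g D

theorem map_one_sub (D : Submodule F V) : D.map ((1 : V ≃ₗ[F] V) : V →ₗ[F] V) = D := Submodule.map_id D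

/-- the stabiliser of a subspace -/
def stab (D : Submodule F V) : Subgroup (V ≃ₗ[F] V) where
  carrier := {g | D.map (g : V →ₗ[F] V) = D}
  mul_mem' := by
    intro g h hg hh
    show D.map _ = D
    rw [map_mul_sub, hh, hg]
  one_mem' := map_one_sub D
  inv_mem' := by
    intro g hg
    have h1 := map_mul_sub g⁻¹ g D
    rw [inv_mul_cancel, map_one_sub, show D.map (g : V →ₗ[F] V) = D from hg] at h1
    exact h1.symm

/-- an element of prime order whose proper power stabilises `D` stabilises `D` -/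
theorem mem_of_pow_mem {G : Type*} [Group G] {S : Subgroup G} {y : G} {r : ℕ} (hr : r.Prime) (hy : y ^ r = 1) {m : ℕ}
    (hm0 : 0 < m) (hm : m < r) (h : y ^ m ∈ S) : y ∈ S := by
  have hc : Nat.Coprime m r := by
    rw [Nat.coprime_comm, Nat.Prime.coprime_iff_not_dvd hr]
    intro hd
    exact absurd (Nat.le_of_dvd hm0 hd) (by omega)
  obtain ⟨a, ha⟩ := Nat.exists_mul_mod_eq_one_of_coprime hc hr.one_lt
  have h1 : y ^ (m * a) = y := by
    rw [← Nat.mod_add_div (m * a) r, ha.2, pow_add, pow_one, pow_mul, hy, one_pow, mul_one]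
  rw [← h1, pow_mul]
  exact S.pow_mem h _

/-- an isometry of large prime order in `H` stabilises the blocks of dimension at least two -/
theorem stab_of_order [FiniteDimensional F V] {H : Subgroup (V ≃ₗ[F] V)} (hH : H ≤ Φ.Iso)
    {D : Submodule F V} (hD : Blk Φ H D) (h2 : 2 ≤ finrank F D) {y : V ≃ₗ[F] V} (hy : y ∈ H) {r : ℕ} (hr : r.Prime)
    (hyr : y ^ r = 1) (hrV : finrank F V < 2 * r) : D.map (y : V →ₗ[F] V) = D := by
  classical
  by_contra hne
  have horth : ∀ m, 0 < m → m < r → ∀ v ∈ D, ∀ w ∈ D, Φ.B ((y ^ m) v) w = 0 := by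
    intro m hm0 hm v hv w hw
    rcases hD.orth (y ^ m) (H.pow_mem hy m) with h | h
    · exact absurd (mem_of_pow_mem (S := stab D) hr hyr hm0 hm h) hne
    · exact h _ ⟨v, hv, rfl⟩ w hw
  have hiso : ∀ m v w, Φ.B ((y ^ m) v) ((y ^ m) w) = Φ.B v w := fun m v w => (Φ.Iso.pow_mem (hH hy) m).1 v w
  have horth2 : ∀ i j : ℕ, i < r → j < r → i ≠ j → ∀ v ∈ D, ∀ w ∈ D, Φ.B ((y ^ i) v) ((y ^ j) w) = 0 := by
    have key : ∀ i j : ℕ, j < i → i < r → ∀ v ∈ D, ∀ w ∈ D, Φ.B ((y ^ i) v) ((y ^ j) w) = 0 := by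
      intro i j hji hi v hv w hw
      have h1 : (y ^ i) v = (y ^ j) ((y ^ (i - j)) v) := by
        rw [← LinearEquiv.mul_apply, ← pow_add]
        congr 2
        omega
      rw [h1, hiso]
      exact horth _ (by omega) (by omega) v hv w hw
    intro i j hi hj hij v hv w hw
    rcases Nat.lt_or_gt_of_ne hij with h | h
    · exact Φ.refl _ _ (key j i h hj w hw v hv)
    · exact key i j h hi v hv w hw
  let φ : (Fin r → D) →ₗ[F] V :=
    ∑ j : Fin r, (((y ^ (j : ℕ) : V ≃ₗ[F] V) : V →ₗ[F] V) ∘ₗ D.subtype) ∘ₗ LinearMap.proj j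
  have hφ : ∀ f, φ f = ∑ j : Fin r, (y ^ (j : ℕ)) (f j : V) := by
    intro f
    simp only [φ, LinearMap.sum_apply, _root_.LinearMap.coe_comp, _root_.LinearEquiv.coe_coe, _root_.Submodule.coe_subtype, _root_.LinearMap.coe_proj, _root_.Function.comp_apply, _root_.Function.eval]
  have hsum : ∀ (s : Finset (Fin r)) (f : Fin r → V) (w : V), Φ.B (∑ j ∈ s, f j) w = ∑ j ∈ s, Φ.B (f j) w := by
    intro s f w
    induction s using Finset.induction_on with
    | empty => rw [Finset.sum_empty, Finset.sum_empty, B_zero_left]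
    | insert a s ha ih => rw [Finset.sum_insert ha, Finset.sum_insert ha, Φ.add_left, ih]
  have hinj : Function.Injective φ := by
    rw [← LinearMap.ker_eq_bot, Submodule.eq_bot_iff]
    intro f hf
    rw [LinearMap.mem_ker, hφ] at hf
    ext k
    rw [Pi.zero_apply, Submodule.coe_zero]
    apply hD.nd _ (f k).2
    intro w hw
    have h1 := hsum Finset.univ (fun j => (y ^ (j : ℕ)) (f j : V)) ((y ^ (k : ℕ)) w)
    rw [hf, B_zero_left, Finset.sum_eq_single k] at h1
    · rw [hiso] at h1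
      exact h1.symm
    · intro j _ hjk
      exact horth2 _ _ j.2 k.2 (fun h => hjk (Fin.ext h)) _ (f j).2 _ hw
    · intro h
      exact absurd (Finset.mem_univ _) h
  have h3 := LinearMap.finrank_le_finrank_of_injective hinj
  rw [Module.finrank_pi_fintype, Finset.sum_const, Finset.card_univ, Fintype.card_fin, smul_eq_mul] at h3
  have h4 : r * 2 ≤ r * finrank F D := Nat.mul_le_mul_left _ h2
  omega

theorem two_mul_finrank_le [FiniteDimensional F V] {H : Subgroup (V ≃ₗ[F] V)} (hirr : IrrG H) {D : Submodule F V}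
    (hD : Blk Φ H D) (h2 : 2 ≤ finrank F D) : 2 * finrank F D ≤ finrank F V := by
  obtain ⟨h, hh, hne⟩ : ∃ h ∈ H, D.map (h : V →ₗ[F] V) ≠ D := by
    by_contra hcon
    push Not at hcon
    rcases hirr D (fun h hh v hv => by rw [← hcon h hh]; exact ⟨v, hv, rfl⟩) with h | h
    · rw [h, finrank_bot] at h2
      omega
    · exact hD.ne_top h
  have ho := (hD.orth h hh).resolve_left hne
  have hinf : D.map (h : V →ₗ[F] V) ⊓ D = ⊥ := by
    rw [Submodule.eq_bot_iff]
    rintro v ⟨hv1, hv2⟩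
    exact hD.nd v hv2 fun w hw => ho v hv1 w hw
  have h3 := Submodule.finrank_sup_add_finrank_inf_eq (D.map (h : V →ₗ[F] V)) D
  rw [hinf, finrank_bot, finrank_map_eq'] at h3
  have h4 := Submodule.finrank_le (D.map (h : V →ₗ[F] V) ⊔ D)
  omega

/-- the block argument -/
theorem geo [FiniteDimensional F V] {H : Subgroup (V ≃ₗ[F] V)} (hH : H ≤ Φ.Iso) (hirr : IrrG H) {D : Submodule F V}
    (hD : Blk Φ H D) (h2 : 2 ≤ finrank F D) {D₁ : Submodule F V} {y : V ≃ₗ[F] V} {r : ℕ} (hr : r.Prime)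
    (hyr : y ^ r = 1) (hy1 : y ≠ 1) (hym : ∀ v, y v - v ∈ D₁) (hmin : ∀ Y ≤ D₁, _root_.Cfsg.Agent.H847.Bs.Inv y Y → Y = ⊥ ∨ Y = D₁)
    (hdim : finrank F V < 2 * finrank F D₁) (hrV : finrank F V < 2 * r) {g : V ≃ₗ[F] V}
    (hgy : g⁻¹ * y * g ∈ H) : False := by
  have hstab : ∀ h ∈ H, (D.map ((g * h : V ≃ₗ[F] V) : V →ₗ[F] V)).map (y : V →ₗ[F] V) =
      D.map ((g * h : V ≃ₗ[F] V) : V →ₗ[F] V) := by
    intro h hh
    have h1 : (g * h)⁻¹ * y * (g * h) ∈ H := by
      have e : (g * h)⁻¹ * y * (g * h) = h⁻¹ * (g⁻¹ * y * g) * h := by group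
      rw [e]
      exact H.mul_mem (H.mul_mem (H.inv_mem hh) hgy) hh
    have h3 := stab_of_order hH hD h2 h1 hr (by
      have e : (g * h)⁻¹ * y * (g * h) = (g * h)⁻¹ * y * ((g * h)⁻¹)⁻¹ := by rw [inv_inv]
      rw [e, conj_pow, hyr]; group) hrV
    rw [← map_mul_sub]
    have e : y * (g * h) = (g * h) * ((g * h)⁻¹ * y * (g * h)) := by group
    rw [e, map_mul_sub, h3]
  obtain ⟨h, hh, d, hd, hne⟩ : ∃ h ∈ H, ∃ d ∈ D, y (g (h d)) ≠ g (h d) := by
    by_contra hcon
    push Not at hcon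
    let T : Submodule F V :=
      { carrier := {v | ∀ h ∈ H, y (g (h v)) = g (h v)}
        add_mem' := by
          intro v w hv hw h hh
          rw [map_add, map_add, map_add, hv h hh, hw h hh]
        zero_mem' := by
          intro h _
          rw [map_zero, map_zero, map_zero]
        smul_mem' := by
          intro c v hv h hh
          rw [map_smul, map_smul, map_smul, hv h hh] }
    have hT : ∀ h ∈ H, _root_.Cfsg.Agent.H847.Bs.Inv h T := by
      intro h hh v hv k hk
      have := hv (k * h) (H.mul_mem hk hh)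
      exact this
    rcases hirr T hT with h | h
    · have hDT : D ≤ T := fun d hd h hh => hcon h hh d hd
      rw [h, le_bot_iff] at hDT
      rw [hDT, finrank_bot] at h2
      omega
    · apply hy1
      ext v
      have h3 : g⁻¹ v ∈ T := by rw [h]; trivial
      have h4 := h3 1 H.one_mem
      have h5 : g ((1 : V ≃ₗ[F] V) (g⁻¹ v)) = v := g.apply_symm_apply v
      rw [h5] at h4
      exact h4
  set E := D.map ((g * h : V ≃ₗ[F] V) : V →ₗ[F] V) with hE
  have hyE : ∀ v ∈ E, y v ∈ E := by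
    intro v hv
    have h6 := hstab h hh
    rw [← hE] at h6
    have h7 : y v ∈ E.map (y : V →ₗ[F] V) := ⟨v, hv, rfl⟩
    rwa [h6] at h7
  let Z : Submodule F V := E.map ((y : V →ₗ[F] V) - LinearMap.id)
  have hZ1 : Z ≤ D₁ := by
    rintro _ ⟨v, _, rfl⟩
    exact hym v
  have hZE : Z ≤ E := by
    rintro _ ⟨v, hv, rfl⟩
    exact E.sub_mem (hyE v hv) hv
  have hZy : _root_.Cfsg.Agent.H847.Bs.Inv y Z := by
    rintro _ ⟨v, hv, rfl⟩
    refine ⟨y v, hyE v hv, ?_⟩
    show y (y v) - y v = y (y v - v)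
    rw [map_sub]
  rcases hmin Z hZ1 hZy with h3 | h3
  · have h4 : y (g (h d)) - g (h d) ∈ Z := ⟨g (h d), ⟨d, hd, rfl⟩, rfl⟩
    rw [h3, Submodule.mem_bot, sub_eq_zero] at h4
    exact hne h4
  · rw [h3] at hZE
    have h4 := Submodule.finrank_mono hZE
    rw [hE, finrank_map_eq'] at h4
    have h5 := two_mul_finrank_le hirr hD h2
    omega

end Cfsg.Agent.H42.Bs
end

-- part: H42/Bs/Count
section
/-!
# S5733, BS35: counting (helper42)
-/

set_option autoImplicit false

namespace Cfsg.Agent.H42.Bs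

open Cfsg.Agent.H847.Bs Cfsg.Agent.H358.Bs Module

variable {F V : Type*} [Field F] [AddCommGroup V] [Module F V] {Φ : Frm F V}

/-! ### restriction to an invariant subspace -/

/-- the restriction of an automorphism to an invariant subspace -/
noncomputable def res [FiniteDimensional F V] (D : Submodule F V) (x : stab D) : D ≃ₗ[F] D :=
  LinearEquiv.ofSubmodules (x : V ≃ₗ[F] V) D D x.2

theorem coe_res [FiniteDimensional F V] (D : Submodule F V) (x : stab D) (d : D) :
    (res D x d : V) = (x : V ≃ₗ[F] V) d := rfl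

/-- restriction as a homomorphism -/
noncomputable def resHom [FiniteDimensional F V] (D : Submodule F V) : stab D →* (D ≃ₗ[F] D) where
  toFun := res D
  map_one' := by
    ext d
    rfl
  map_mul' x y := by
    ext d
    rfl

theorem coe_resHom [FiniteDimensional F V] (D : Submodule F V) (x : stab D) (d : D) :
    (resHom D x d : V) = (x : V ≃ₗ[F] V) d := rfl

theorem res_mem_Iso [FiniteDimensional F V] {D : Submodule F V} {x : stab D} (hx : (x : V ≃ₗ[F] V) ∈ Φ.Iso) :
    resHom D x ∈ (Φ.on D).Iso :=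
  ⟨fun _ _ => hx.1 _ _, fun _ => hx.2 _⟩

theorem inv_of_stab {D : Submodule F V} {x : V ≃ₗ[F] V} (hx : x ∈ stab D) : _root_.Cfsg.Agent.H847.Bs.Inv x D := by
  intro v hv
  have h : D.map (x : V →ₗ[F] V) = D := hx
  rw [← h]
  exact ⟨v, hv, rfl⟩

theorem stab_of_inv [FiniteDimensional F V] {D : Submodule F V} {x : V ≃ₗ[F] V} (hx : _root_.Cfsg.Agent.H847.Bs.Inv x D) : x ∈ stab D := by
  apply Submodule.eq_of_le_of_finrank_eq
  · rintro _ ⟨v, hv, rfl⟩
    exact hx v hv
  · exact finrank_map_eq' x D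

theorem irr_res [FiniteDimensional F V] {D : Submodule F V} {x : stab D} :
    Irr (resHom D x) ⊤ ↔ Irr (x : V ≃ₗ[F] V) D := by
  constructor
  · intro h
    refine ⟨inv_of_stab x.2, ?_, ?_⟩
    · rintro rfl
      exact h.ne_bot (Subsingleton.elim _ _)
    · intro Y hY hYx
      have h1 : _root_.Cfsg.Agent.H847.Bs.Inv (resHom D x) (Y.comap D.subtype) := fun v hv => hYx _ hv
      have hmap : (Y.comap D.subtype).map D.subtype = Y := by
        rw [Submodule.map_comap_subtype]
        exact inf_eq_right.2 hY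
      rcases h.min _ le_top h1 with h2 | h2
      · left
        rw [← hmap, h2, Submodule.map_bot]
      · right
        rw [← hmap, h2, Submodule.map_subtype_top]
  · intro h
    refine ⟨fun _ _ => trivial, ?_, ?_⟩
    · intro h1
      apply h.ne_bot
      have h2 := congrArg (Submodule.map D.subtype) h1
      rwa [Submodule.map_subtype_top, Submodule.map_bot] at h2
    · intro Y _ hY
      have h1 : _root_.Cfsg.Agent.H847.Bs.Inv (x : V ≃ₗ[F] V) (Y.map D.subtype) := by
        rintro _ ⟨v, hv, rfl⟩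
        exact ⟨_, hY v hv, rfl⟩
      rcases h.min _ (Submodule.map_subtype_le _ _) h1 with h2 | h2
      · left
        apply Submodule.map_injective_of_injective D.subtype_injective
        rw [h2, Submodule.map_bot]
      · right
        apply Submodule.map_injective_of_injective D.subtype_injective
        rw [h2, Submodule.map_subtype_top]

/-! ### the elements with a large irreducible nondegenerate subspace -/

/-- the elements of `G` with an irreducible nondegenerate subspace of dimension `e` -/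
def XX (Φ : Frm F V) (G : Subgroup (V ≃ₗ[F] V)) (e : ℕ) : Set (V ≃ₗ[F] V) :=
  {x | x ∈ G ∧ ∃ D, Φ.NdOn D ∧ finrank F D = e ∧ Irr x D}

/-- two large irreducible subspaces are equal -/
theorem irr_unique [FiniteDimensional F V] {x : V ≃ₗ[F] V} {D D' : Submodule F V} (h : Irr x D) (h' : Irr x D')
    (hd : finrank F V < 2 * finrank F D) (hd' : finrank F V < 2 * finrank F D') : D = D' := by
  have hinv : _root_.Cfsg.Agent.H847.Bs.Inv x (D ⊓ D') := fun v hv => ⟨h.inv v hv.1, h'.inv v hv.2⟩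
  have hne : D ⊓ D' ≠ ⊥ := by
    intro h0
    have h3 := Submodule.finrank_sup_add_finrank_inf_eq D D'
    rw [h0, finrank_bot] at h3
    have h4 := Submodule.finrank_le (D ⊔ D')
    omega
  have h1 := (h.min _ inf_le_left hinv).resolve_left hne
  have h2 := (h'.min _ inf_le_right hinv).resolve_left hne
  rw [← h1, h2]

theorem irr_conj [FiniteDimensional F V] {x g : V ≃ₗ[F] V} {D : Submodule F V} (h : Irr x D) :
    Irr (g * x * g⁻¹) (D.map (g : V →ₗ[F] V)) := by
  have hg : ∀ v, g⁻¹ (g v) = v := fun v => g.symm_apply_apply v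
  refine ⟨?_, ?_, ?_⟩
  · rintro _ ⟨v, hv, rfl⟩
    refine ⟨x v, h.inv v hv, ?_⟩
    show g (x v) = g (x (g⁻¹ (g v)))
    rw [hg]
  · intro h0
    apply h.ne_bot
    have h1 : Function.Injective (g : V →ₗ[F] V) := g.injective
    apply Submodule.map_injective_of_injective h1
    rw [h0, Submodule.map_bot]
  · intro Y hY hYx
    have h1 : _root_.Cfsg.Agent.H847.Bs.Inv x (Y.comap (g : V →ₗ[F] V)) := by
      intro v hv
      have h2 := hYx (g v) hv
      have h3 : (g * x * g⁻¹) (g v) = g (x v) := by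
        show g (x (g⁻¹ (g v))) = _
        rw [hg]
      rw [h3] at h2
      exact h2
    have h2 : Y.comap (g : V →ₗ[F] V) ≤ D := by
      intro v hv
      obtain ⟨w, hw, hwv⟩ := hY hv
      have : w = v := g.injective hwv
      rwa [← this]
    have h3 : (Y.comap (g : V →ₗ[F] V)).map (g : V →ₗ[F] V) = Y := Submodule.map_comap_eq_of_surjective g.surjective _
    rcases h.min _ h2 h1 with h4 | h4
    · left
      rw [← h3, h4, Submodule.map_bot]
    · right
      rw [← h3, h4]

theorem ndOn_map {g : V ≃ₗ[F] V} (hg : g ∈ Φ.Iso) {D : Submodule F V} (hD : Φ.NdOn D) :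
    Φ.NdOn (D.map (g : V →ₗ[F] V)) := by
  rintro _ ⟨v, hv, rfl⟩ h
  have : v = 0 := hD v hv fun y hy => by
    rw [← hg.1]
    exact h _ ⟨y, hy, rfl⟩
  rw [this, map_zero]

theorem card_fiber {Γ Λ : Type*} [Group Γ] [Group Λ] [Finite Γ] [Finite Λ] (M : Subgroup Γ) (f : M →* Λ)
    (I : Subgroup Λ) (hI : ∀ x, f x ∈ I) (Z : Set Λ) (E : Set Γ) (hE : ∀ x : M, f x ∈ Z → (x : Γ) ∈ E)
    (hZ : ∀ z ∈ Z, ∃ x, f x = z) : Nat.card Z * Nat.card M ≤ Nat.card E * Nat.card I := by
  have h3 : Nat.card M = Nat.card f.ker * Nat.card f.range := by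
    rw [← Subgroup.card_mul_index f.ker, Subgroup.index_ker]
  have h4 : Nat.card f.range ≤ Nat.card I := by
    apply Subgroup.card_le_of_le
    rintro _ ⟨x, rfl⟩
    exact hI x
  have h5 : Nat.card Z * Nat.card f.ker ≤ Nat.card E := by
    have hsec : ∀ z : Z, ∃ x : M, f x = z := fun z => hZ z z.2
    choose sec hsec using hsec
    rw [← Nat.card_prod]
    refine Nat.card_le_card_of_injective (fun p : Z × f.ker => (⟨((sec p.1 * p.2 : M) : Γ), ?_⟩ : E)) ?_
    · apply hE
      rw [map_mul, hsec, (MonoidHom.mem_ker).1 p.2.2, mul_one]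
      exact p.1.2
    · intro p p' h
      have h6 : (sec p.1 * p.2 : M) = sec p'.1 * p'.2 := Subtype.ext (congrArg (fun z : E => (z : Γ)) h)
      have h7 := congrArg f h6
      rw [map_mul, map_mul, hsec, hsec, (MonoidHom.mem_ker).1 p.2.2, (MonoidHom.mem_ker).1 p'.2.2, mul_one,
        mul_one] at h7
      have h8 : p.1 = p'.1 := Subtype.ext h7
      rw [h8] at h6
      exact Prod.ext h8 (Subtype.ext (mul_left_cancel h6))
  rw [h3, ← mul_assoc]
  exact Nat.mul_le_mul h5 h4

/-- the counting inequality for one subspace -/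
theorem card_XX [Finite F] [FiniteDimensional F V] {G : Subgroup (V ≃ₗ[F] V)} (hG : G ≤ Φ.Iso) {D : Submodule F V}
    (hD : Φ.NdOn D) (hd : finrank F V < 2 * finrank F D) {Z : Set (D ≃ₗ[F] D)} (hZ : Z ⊆ (Φ.on D).Bm)
    (hZG : ∀ z ∈ Z, ∃ x : stab D, (x : V ≃ₗ[F] V) ∈ G ∧ resHom D x = z) :
    Nat.card G * Nat.card Z ≤ Nat.card (XX Φ G (finrank F D)) * Nat.card (Φ.on D).Iso := by
  have hfV : Finite V := Module.finite_of_finite F
  have hfGL : Finite (V ≃ₗ[F] V) := DFunLike.finite _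
  have hfGL' : Finite (D ≃ₗ[F] D) := DFunLike.finite _
  have h1 : Nat.card G * Nat.card {x : V ≃ₗ[F] V | x ∈ G ∧ Irr x D} ≤
      Nat.card {y : V ≃ₗ[F] V // ∃ g ∈ G, ∃ x ∈ {x : V ≃ₗ[F] V | x ∈ G ∧ Irr x D}, y = g * x * g⁻¹} *
        Nat.card (G ⊓ stab D : Subgroup (V ≃ₗ[F] V)) := by
    apply card_union_in inf_le_left (fun x hx => hx.1)
    intro g hg x hx hgx
    refine ⟨hg, ?_⟩
    have h2 := irr_conj (g := g) hx.2
    have h3 := irr_unique h2 hgx.2 (by rw [finrank_map_eq']; exact hd) hd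
    exact h3
  have h2 : Nat.card {y : V ≃ₗ[F] V // ∃ g ∈ G, ∃ x ∈ {x : V ≃ₗ[F] V | x ∈ G ∧ Irr x D}, y = g * x * g⁻¹} ≤
      Nat.card (XX Φ G (finrank F D)) := by
    refine Nat.card_le_card_of_injective (fun y => (⟨y.1, ?_⟩ : XX Φ G (finrank F D))) ?_
    · obtain ⟨g, hg, x, hx, he⟩ := y.2
      rw [he]
      refine ⟨G.mul_mem (G.mul_mem hg hx.1) (G.inv_mem hg), D.map (g : V →ₗ[F] V), ndOn_map (hG hg) hD,
        finrank_map_eq' g D, irr_conj hx.2⟩
    · intro y y' h
      exact Subtype.ext (congrArg (fun z : XX Φ G (finrank F D) => (z : V ≃ₗ[F] V)) h)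
  have h3 : Nat.card Z * Nat.card (G ⊓ stab D : Subgroup (V ≃ₗ[F] V)) ≤
      Nat.card {x : V ≃ₗ[F] V | x ∈ G ∧ Irr x D} * Nat.card (Φ.on D).Iso := by
    apply card_fiber (G ⊓ stab D) ((resHom D).comp (Subgroup.inclusion inf_le_right))
    · intro x
      exact res_mem_Iso (x := Subgroup.inclusion inf_le_right x) (hG x.2.1)
    · intro x hx
      exact ⟨x.2.1, irr_res.1 (hZ hx).2⟩
    · intro z hz
      obtain ⟨x, hx, hxz⟩ := hZG z hz
      exact ⟨⟨x, hx, x.2⟩, hxz⟩
  have hM : 0 < Nat.card (G ⊓ stab D : Subgroup (V ≃ₗ[F] V)) := Nat.card_pos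
  refine Nat.le_of_mul_le_mul_left ?_ hM
  calc Nat.card (G ⊓ stab D : Subgroup (V ≃ₗ[F] V)) * (Nat.card G * Nat.card Z)
      = Nat.card G * (Nat.card Z * Nat.card (G ⊓ stab D : Subgroup (V ≃ₗ[F] V))) := by ring
    _ ≤ Nat.card G * (Nat.card {x : V ≃ₗ[F] V | x ∈ G ∧ Irr x D} * Nat.card (Φ.on D).Iso) :=
      Nat.mul_le_mul_left _ h3
    _ = (Nat.card G * Nat.card {x : V ≃ₗ[F] V | x ∈ G ∧ Irr x D}) * Nat.card (Φ.on D).Iso := by ring
    _ ≤ (Nat.card (XX Φ G (finrank F D)) * Nat.card (G ⊓ stab D : Subgroup (V ≃ₗ[F] V))) *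
        Nat.card (Φ.on D).Iso := Nat.mul_le_mul_right _ (h1.trans (Nat.mul_le_mul_right _ h2))
    _ = _ := by ring

end Cfsg.Agent.H42.Bs
end

-- part: H42/Bs/Main
section
/-!
# S5733, BS35: the general theorem on groups with blocks (helper42)
-/

set_option autoImplicit false

namespace Cfsg.Agent.H42.Bs

open Cfsg.Agent.H847.Bs Cfsg.Agent.H358.Bs Module

variable {F V : Type*} [Field F] [AddCommGroup V] [Module F V] {Φ : Frm F V}

/-! ### glueing -/

section glue

variable {D U : Submodule F V}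

theorem glue_add (h : IsCompl D U) (x : D ≃ₗ[F] D) (y : U ≃ₗ[F] U) (d : D) (u : U) :
    glue h x y ((d : V) + u) = (x d : V) + y u := by
  have h1 : (Submodule.prodEquivOfIsCompl D U h).symm ((d : V) + u) = (d, u) := by
    rw [LinearEquiv.symm_apply_eq]
    rfl
  show (Submodule.prodEquivOfIsCompl D U h) ((x.prodCongr y) ((Submodule.prodEquivOfIsCompl D U h).symm ((d : V) + u))) = _
  rw [h1]
  rfl

theorem glue_left (h : IsCompl D U) (x : D ≃ₗ[F] D) (y : U ≃ₗ[F] U) (d : D) : glue h x y (d : V) = x d := by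
  have := glue_add h x y d 0
  rwa [Submodule.coe_zero, add_zero, map_zero, Submodule.coe_zero, add_zero] at this

theorem glue_right (h : IsCompl D U) (x : D ≃ₗ[F] D) (y : U ≃ₗ[F] U) (u : U) : glue h x y (u : V) = y u := by
  have := glue_add h x y 0 u
  rwa [Submodule.coe_zero, zero_add, map_zero, Submodule.coe_zero, zero_add] at this

theorem exists_decomp (h : IsCompl D U) (v : V) : ∃ (d : D) (u : U), (d : V) + u = v := by
  obtain ⟨d, hd, u, hu, e⟩ := Submodule.mem_sup.1 (show v ∈ D ⊔ U by rw [h.sup_eq_top]; trivial)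
  exact ⟨⟨d, hd⟩, ⟨u, hu⟩, e⟩

theorem ext_compl (h : IsCompl D U) {g k : V ≃ₗ[F] V} (h1 : ∀ d ∈ D, g d = k d) (h2 : ∀ u ∈ U, g u = k u) : g = k := by
  ext v
  obtain ⟨d, u, rfl⟩ := exists_decomp h v
  rw [map_add, map_add, h1 _ d.2, h2 _ u.2]

theorem glue_mem_Iso {κ : F} (hκ : ∀ x y, Φ.q (x + y) = Φ.q x + Φ.q y + κ * Φ.B x y) (h : Φ.Dec D U) {x : D ≃ₗ[F] D}
    {y : U ≃ₗ[F] U} (hx : x ∈ (Φ.on D).Iso) (hy : y ∈ (Φ.on U).Iso) : glue h.compl x y ∈ Φ.Iso := by
  have h0 : ∀ (d : D) (u : U), Φ.B (d : V) u = 0 := fun d u => h.orth _ d.2 _ u.2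
  have h0' : ∀ (d : D) (u : U), Φ.B (u : V) d = 0 := fun d u => Φ.refl _ _ (h0 d u)
  constructor
  · intro v w
    obtain ⟨d, u, rfl⟩ := exists_decomp h.compl v
    obtain ⟨d', u', rfl⟩ := exists_decomp h.compl w
    have e1 : Φ.B (x d : V) (x d') = Φ.B (d : V) d' := hx.1 d d'
    have e2 : Φ.B (y u : V) (y u') = Φ.B (u : V) u' := hy.1 u u'
    rw [glue_add, glue_add]
    simp only [Φ.add_left, Φ.add_right, h0, h0', e1, e2]
  · intro v
    obtain ⟨d, u, rfl⟩ := exists_decomp h.compl v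
    have e1 : Φ.q (x d : V) = Φ.q (d : V) := hx.2 d
    have e2 : Φ.q (y u : V) = Φ.q (u : V) := hy.2 u
    rw [glue_add]
    simp only [hκ, h0, e1, e2]

end glue

/-! ### the perpendicular space -/

/-- the perpendicular space -/
def perp (Φ : Frm F V) (D : Submodule F V) : Submodule F V where
  carrier := {v | ∀ d ∈ D, Φ.B v d = 0}
  add_mem' := by
    intro v w hv hw d hd
    rw [Φ.add_left, hv d hd, hw d hd, add_zero]
  zero_mem' := fun d _ => B_zero_left d
  smul_mem' := by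
    intro c v hv d hd
    rw [Φ.smul_left, hv d hd, mul_zero]

theorem mem_perp {D : Submodule F V} {v : V} : v ∈ perp Φ D ↔ ∀ d ∈ D, Φ.B v d = 0 := Iff.rfl

theorem dec_perp [Finite F] [FiniteDimensional F V] (hΦ : Good Φ) {D : Submodule F V} (hD : Φ.NdOn D) :
    Φ.Dec D (perp Φ D) := by
  have hg := hΦ.on hD
  refine ⟨⟨?_, ?_⟩, ?_⟩
  · rw [Submodule.disjoint_def]
    intro v hv hvp
    exact hD v hv hvp
  · rw [codisjoint_iff, eq_top_iff]
    intro v _
    let f : D →ₗ[F] F :=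
      { toFun := fun d => Φ.B d v
        map_add' := fun x y => Φ.add_left _ _ _
        map_smul' := fun c x => Φ.smul_left _ _ _ }
    obtain ⟨w, hw⟩ := hg.exists_repr f
    have hw' : ∀ d : D, Φ.B (d : V) v = Φ.B (d : V) w := hw
    rw [Submodule.mem_sup]
    refine ⟨w, w.2, v - w, ?_, by abel⟩
    intro d hd
    apply Φ.refl
    rw [B_sub_right, hw' ⟨d, hd⟩, sub_self]
  · intro d hd u hu
    exact Φ.refl _ _ (hu d hd)

/-- the element of primitive prime order -/
theorem exists_y [Finite F] [FiniteDimensional F V] (hΦ : Good Φ) {x : V ≃ₗ[F] V} (hx : x ∈ Φ.Iso)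
    {D : Submodule F V} (hD : Φ.NdOn D) (hi : Irr x D) (h2 : 2 ≤ finrank F D) {p N r : ℕ} (hp : p.Prime)
    (hcard : Nat.card D = p ^ N) (hr : r.Prime) (hprim : ∀ m, r ∣ p ^ m - 1 ↔ N ∣ m) :
    ∃ y ∈ Φ.Iso, y * x = x * y ∧ y ^ r = 1 ∧ y ≠ 1 ∧ (∀ v, y v - v ∈ D) ∧
      ∀ Y ≤ D, _root_.Cfsg.Agent.H847.Bs.Inv y Y → Y = ⊥ ∨ Y = D := by
  have hs : x ∈ stab D := stab_of_inv hi.inv
  obtain ⟨u, hu, hux, hur, hu1, hui⟩ := exists_torus (hΦ.on hD) (x := resHom D ⟨x, hs⟩) (res_mem_Iso hx) (irr_res.2 hi)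
    h2 hp hcard hr hprim
  have hdec := dec_perp hΦ hD
  obtain ⟨κ, hκ⟩ := hΦ.quad
  have hxp : ∀ w ∈ perp Φ D, x w ∈ perp Φ D := by
    intro w hw d hd
    obtain ⟨d', hd', rfl⟩ : ∃ d' ∈ D, x d' = d := by
      have h3 : D.map (x : V →ₗ[F] V) = D := hs
      rw [← h3] at hd
      exact hd
    rw [hx.1]
    exact hw d' hd'
  have hgl : ∀ (d : V) (hd : d ∈ D), glue hdec.compl u 1 d = u ⟨d, hd⟩ := fun d hd => glue_left hdec.compl u 1 ⟨d, hd⟩
  have hgr : ∀ w ∈ perp Φ D, glue hdec.compl u 1 w = w := fun w hw => glue_right hdec.compl u 1 ⟨w, hw⟩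
  have hpow : ∀ n : ℕ, (∀ d : D, ((glue hdec.compl u 1) ^ n) (d : V) = (u ^ n) d) ∧
      ∀ w ∈ perp Φ D, ((glue hdec.compl u 1) ^ n) w = w := by
    intro n
    induction n with
    | zero => exact ⟨fun _ => rfl, fun _ _ => rfl⟩
    | succ n ih =>
      constructor
      · intro d
        rw [pow_succ', pow_succ', LinearEquiv.mul_apply, LinearEquiv.mul_apply, ih.1]
        exact glue_left _ _ _ _
      · intro w hw
        rw [pow_succ', LinearEquiv.mul_apply, ih.2 w hw]
        exact hgr w hw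
  refine ⟨glue hdec.compl u 1, glue_mem_Iso hκ hdec hu (one_mem _), ?_, ?_, ?_, ?_, ?_⟩
  · apply ext_compl hdec.compl
    · intro d hd
      have h3 := LinearEquiv.congr_fun hux ⟨d, hd⟩
      have h4 := congrArg (fun z : D => (z : V)) h3
      show glue hdec.compl u 1 (x d) = x (glue hdec.compl u 1 d)
      rw [hgl d hd, hgl (x d) (hi.inv d hd)]
      exact h4
    · intro w hw
      show glue hdec.compl u 1 (x w) = x (glue hdec.compl u 1 w)
      rw [hgr w hw, hgr (x w) (hxp w hw)]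
  · apply ext_compl hdec.compl
    · intro d hd
      rw [(hpow r).1 ⟨d, hd⟩, hur]
      rfl
    · intro w hw
      rw [(hpow r).2 w hw]
      rfl
  · intro h
    apply hu1
    ext d
    rw [← glue_left hdec.compl u 1 d, h]
    rfl
  · intro v
    obtain ⟨d, w, rfl⟩ := exists_decomp hdec.compl v
    rw [glue_add]
    have e : (u d : V) + ((1 : perp Φ D ≃ₗ[F] perp Φ D) w : V) - ((d : V) + w) = (u d : V) - d := by
      show (u d : V) + (w : V) - ((d : V) + w) = _
      abel
    rw [e]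
    exact D.sub_mem (u d).2 d.2
  · intro Y hY hYi
    have h1 : _root_.Cfsg.Agent.H847.Bs.Inv u (Y.comap D.subtype) := by
      intro d hd
      have h3 := hYi _ hd
      have h4 : glue hdec.compl u 1 (D.subtype d) = u d := glue_left hdec.compl u 1 d
      rw [h4] at h3
      exact h3
    have hmap : (Y.comap D.subtype).map D.subtype = Y := by
      rw [Submodule.map_comap_subtype]
      exact inf_eq_right.2 hY
    rcases hui.min _ le_top h1 with h3 | h3
    · left
      rw [← hmap, h3, Submodule.map_bot]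
    · right
      rw [← hmap, h3, Submodule.map_subtype_top]

/-- the element `x` has its centraliser in no conjugate of `H` -/
theorem not_cent [Finite F] [FiniteDimensional F V] (hΦ : Good Φ) {G H : Subgroup (V ≃ₗ[F] V)} (hG : G ≤ Φ.Iso)
    (hGr : ∀ r, r.Prime → finrank F V < 2 * r → ¬ r ∣ Nat.card F - 1 → ∀ y ∈ Φ.Iso, y ^ r = 1 → y ∈ G)
    (hH : H ≤ G) (hirr : IrrG H) {D₀ : Submodule F V} (hD₀ : Blk Φ H D₀) (h2 : 2 ≤ finrank F D₀) {e : ℕ}
    (he7 : 7 ≤ e) (hev : finrank F V < 2 * e) {x : V ≃ₗ[F] V} (hx : x ∈ XX Φ G e) :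
    ¬ ∃ g ∈ G, ∀ c ∈ G, c * x = x * c → g * c * g⁻¹ ∈ H := by
  rintro ⟨g, hg, hc⟩
  obtain ⟨hxG, D, hD, rfl, hi⟩ := hx
  obtain ⟨p, f, hp, hf, hF⟩ : ∃ p f : ℕ, p.Prime ∧ 0 < f ∧ Nat.card F = p ^ f := by
    have := Fintype.ofFinite F
    obtain ⟨p, hch⟩ := CharP.exists F
    obtain ⟨f, hp, hcard⟩ := FiniteField.card F p
    exact ⟨p, f, hp, f.2, by rw [Nat.card_eq_fintype_card]; exact hcard⟩
  have hcard : Nat.card D = p ^ (f * finrank F D) := by
    rw [Module.natCard_eq_pow_finrank (K := F), hF, pow_mul]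
  have hN : 7 ≤ f * finrank F D := le_trans he7 (Nat.le_mul_of_pos_left _ hf)
  obtain ⟨r, hr, hprim, hr1, hrp⟩ := Cfsg.Agent.Lib.Zsigmondy.exists_primitive (a := p) (n := f * finrank F D)
    hp.two_le (by omega) (by omega) (by omega)
  have hrN : f * finrank F D < r := by
    have h3 := hr.two_le
    have h4 := Nat.le_of_dvd (by omega) hr1
    omega
  have hre : finrank F D ≤ f * finrank F D := Nat.le_mul_of_pos_left _ hf
  obtain ⟨y, hy, hyx, hyr, hy1, hym, hymin⟩ := exists_y hΦ (hG hxG) hD hi (by omega) hp hcard hr hprim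
  have hyG : y ∈ G := by
    refine hGr r hr (by omega) ?_ y hy hyr
    rw [hF, hprim]
    intro h3
    have h4 := Nat.le_of_dvd hf h3
    have h5 : f * 7 ≤ f * finrank F D := Nat.mul_le_mul_left _ he7
    omega
  have h3 := hc y hyG hyx
  refine geo (hH.trans hG) hirr hD₀ h2 hr hyr hy1 hym hymin hev (by omega) (g := g⁻¹) ?_
  rwa [inv_inv]

/-- **The general theorem on groups with blocks.** -/
theorem main [Finite F] [FiniteDimensional F V] (hΦ : Good Φ) {G H : Subgroup (V ≃ₗ[F] V)} (hG : G ≤ Φ.Iso)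
    (hGr : ∀ r, r.Prime → finrank F V < 2 * r → ¬ r ∣ Nat.card F - 1 → ∀ y ∈ Φ.Iso, y ^ r = 1 → y ∈ G)
    (hH : H ≤ G) (hirr : IrrG H) {D₀ : Submodule F V} (hD₀ : Blk Φ H D₀) (h2 : 2 ≤ finrank F D₀) (S : Finset ℕ)
    (hS7 : ∀ e ∈ S, 7 ≤ e) (hSV : ∀ e ∈ S, finrank F V < 2 * e) {C : ℕ}
    (hcount : ∀ e ∈ S, ∃ D : Submodule F V, Φ.NdOn D ∧ finrank F D = e ∧ ∃ Z ⊆ (Φ.on D).Bm,
      (∀ z ∈ Z, ∃ x : stab D, (x : V ≃ₗ[F] V) ∈ G ∧ resHom D x = z) ∧
        Nat.card (Φ.on D).Iso ≤ C * Nat.card Z) :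
    S.card * Nat.card G ≤ 2 * C * ndV G H := by
  classical
  have hfV : Finite V := Module.finite_of_finite F
  have hfGL : Finite (V ≃ₗ[F] V) := DFunLike.finite _
  have h1 : ∀ e ∈ S, Nat.card G ≤ C * Nat.card (XX Φ G e) := by
    intro e he
    obtain ⟨D, hD, rfl, Z, hZ, hZG, hle⟩ := hcount e he
    have hfGL' : Finite (D ≃ₗ[F] D) := DFunLike.finite _
    have h3 := card_XX hG hD (hSV _ he) hZ hZG
    have hZ0 : 0 < Nat.card Z := by
      rcases Nat.eq_zero_or_pos (Nat.card Z) with h0 | h0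
      · rw [h0, mul_zero] at hle
        have : 0 < Nat.card (Φ.on D).Iso := Nat.card_pos
        omega
      · exact h0
    refine Nat.le_of_mul_le_mul_right ?_ hZ0
    calc Nat.card G * Nat.card Z ≤ Nat.card (XX Φ G (finrank F D)) * Nat.card (Φ.on D).Iso := h3
      _ ≤ Nat.card (XX Φ G (finrank F D)) * (C * Nat.card Z) := Nat.mul_le_mul_left _ hle
      _ = _ := by ring
  -- the union
  have h4 : ∑ e ∈ S, Nat.card (XX Φ G e) ≤ 2 * ndV G H := by
    refine le_trans ?_ (card_noncentV_le (G := G) (H := H))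
    have hdisj : ∀ e ∈ S, ∀ e' ∈ S, ∀ x, x ∈ XX Φ G e → x ∈ XX Φ G e' → e = e' := by
      rintro e he e' he' x ⟨-, D, -, rfl, hi⟩ ⟨-, D', -, rfl, hi'⟩
      rw [irr_unique hi hi' (hSV _ he) (hSV _ he')]
    have h5 : ∑ e ∈ S, Nat.card (XX Φ G e) = Nat.card (Σ e : S, XX Φ G e) := by
      rw [Nat.card_sigma, ← Finset.sum_coe_sort S (fun e => Nat.card (XX Φ G e))]
    rw [h5]
    refine Nat.card_le_card_of_injective (fun p : (Σ e : S, XX Φ G e) => (⟨p.2.1, p.2.2.1, ?_⟩ :
      {x : V ≃ₗ[F] V // x ∈ G ∧ ¬ ∃ g ∈ G, ∀ c ∈ G, c * x = x * c → g * c * g⁻¹ ∈ H})) ?_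
    · exact not_cent hΦ hG hGr hH hirr hD₀ h2 (hS7 _ p.1.2) (hSV _ p.1.2) p.2.2
    · rintro ⟨⟨e, he⟩, x⟩ ⟨⟨e', he'⟩, x'⟩ h
      have h6 : (x : V ≃ₗ[F] V) = x' := congrArg Subtype.val h
      have h7 : e = e' := hdisj e he e' he' x x.2 (by rw [h6]; exact x'.2)
      subst h7
      have h8 : x = x' := Subtype.ext h6
      rw [h8]
  calc S.card * Nat.card G = ∑ _e ∈ S, Nat.card G := by rw [Finset.sum_const, smul_eq_mul]
    _ ≤ ∑ e ∈ S, C * Nat.card (XX Φ G e) := Finset.sum_le_sum h1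
    _ = C * ∑ e ∈ S, Nat.card (XX Φ G e) := by rw [Finset.mul_sum]
    _ ≤ C * (2 * ndV G H) := Nat.mul_le_mul_left _ h4
    _ = _ := by ring

end Cfsg.Agent.H42.Bs
end

-- part: H42/Bs/Inst
section
/-!
# S5733, BS35: symplectic, hermitian and quadratic forms (helper42)
-/

set_option autoImplicit false

namespace Cfsg.Agent.H42.Bs

open Cfsg.Agent.H847.Bs Cfsg.Agent.H358.Bs Module QuadraticMap
open Cfsg.Agent.LieClassical.OrthCore (O E Nondeg)

variable {F V : Type*} [Field F] [AddCommGroup V] [Module F V] {Φ : Frm F V}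

theorem good_of_sp (h : IsSp Φ) : Good Φ where
  nd := h.nd
  s_add a b := by rw [h.s, h.s, h.s]
  s_mul a b := by rw [h.s, h.s, h.s]
  s_s a := by rw [h.s, h.s]
  eps := by
    refine ⟨-1, by rw [h.s]; ring, fun x y => ?_⟩
    have h1 := h.alt (x + y)
    rw [Φ.add_left, Φ.add_right, Φ.add_right, h.alt, h.alt] at h1
    rw [h.s]
    linear_combination h1
  quad := ⟨0, fun x y => by rw [h.q, h.q, h.q]; ring⟩
  q_smul c x := by rw [h.q, h.q]; ring

theorem isSp_on (h : IsSp Φ) {D : Submodule F V} (hD : Φ.NdOn D) : IsSp (Φ.on D) where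
  nd := ((good_of_sp h).on hD).nd
  s := h.s
  q x := h.q x
  alt x := h.alt x

/-- the residue characteristic of the field of a hermitian form -/
theorem herm_add_pow [Finite F] {r : ℕ} (h : Nat.card F = r ^ 2) (a b : F) : (a + b) ^ r = a ^ r + b ^ r := by
  have := Fintype.ofFinite F
  obtain ⟨p, hch⟩ := CharP.exists F
  obtain ⟨f, hp, hcard⟩ := FiniteField.card F p
  rw [← Nat.card_eq_fintype_card, h] at hcard
  have h1 : r ∣ p ^ (f : ℕ) := by
    rw [← hcard]
    exact dvd_pow_self r (by norm_num)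
  obtain ⟨k, -, rfl⟩ := (Nat.dvd_prime_pow hp).1 h1
  have : Fact p.Prime := ⟨hp⟩
  exact add_pow_char_pow a b p k

theorem good_of_herm [Finite F] {r : ℕ} (h : IsHerm r Φ) : Good Φ where
  nd := h.nd
  s_add a b := by rw [h.s, h.s, h.s, herm_add_pow h.card]
  s_mul a b := by rw [h.s, h.s, h.s, mul_pow]
  s_s a := by
    rw [h.s, h.s, ← pow_mul, ← pow_two, ← h.card]
    have := Fintype.ofFinite F
    rw [Nat.card_eq_fintype_card]
    exact FiniteField.pow_card a
  eps := by
    refine ⟨1, by rw [h.s, one_pow, one_mul], fun x y => ?_⟩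
    rw [h.s, one_mul, h.symm]
  quad := ⟨0, fun x y => by rw [h.q, h.q, h.q]; ring⟩
  q_smul c x := by rw [h.q, h.q]; ring

theorem isHerm_on [Finite F] {r : ℕ} (h : IsHerm r Φ) {D : Submodule F V} (hD : Φ.NdOn D) : IsHerm r (Φ.on D) where
  nd := ((good_of_herm h).on hD).nd
  card := h.card
  s := h.s
  q x := h.q x
  symm x y := h.symm x y

theorem good_of_quad {Q : QuadraticForm F V} (h : Nondeg Q) : Good (frmQ Q) where
  nd := h
  s_add _ _ := rfl
  s_mul _ _ := rfl
  s_s _ := rfl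
  eps := ⟨1, by show (1 : F) * 1 = 1; rw [one_mul], fun x y => by
    show polar Q y x = 1 * polar Q x y
    rw [one_mul, polar_comm]⟩
  quad := ⟨1, fun x y => by
    show Q (x + y) = Q x + Q y + 1 * polar Q x y
    rw [one_mul]
    exact Cfsg.Agent.LieClassical.OrthCore.Q_add x y⟩
  q_smul c x := by
    show Q (c • x) = c * c * Q x
    rw [QuadraticMap.map_smul, smul_eq_mul]

theorem frmQ_on (Q : QuadraticForm F V) (D : Submodule F V) : (frmQ Q).on D = frmQ (Q.comp D.subtype) := rfl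

theorem nondeg_comp {Q : QuadraticForm F V} {D : Submodule F V} (hD : (frmQ Q).NdOn D) : Nondeg (Q.comp D.subtype) :=
  fun x hx => Subtype.ext (hD x x.2 fun y hy => hx ⟨y, hy⟩)

theorem Iso_frmQ (Q : QuadraticForm F V) : (frmQ Q).Iso = O Q := by
  ext g
  constructor
  · intro h
    exact h.2
  · intro h
    exact ⟨fun x y => Cfsg.Agent.LieClassical.OrthCore.polar_map h x y, h⟩

/-! ### subspaces -/

theorem ndOn_bot : Φ.NdOn (⊥ : Submodule F V) := fun _ hx _ => (Submodule.mem_bot F).1 hx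

theorem ndOn_perp [Finite F] [FiniteDimensional F V] (hΦ : Good Φ) {D : Submodule F V} (hD : Φ.NdOn D) :
    Φ.NdOn (perp Φ D) := by
  intro x hx h
  apply hΦ.nd
  intro y
  obtain ⟨d, u, rfl⟩ := exists_decomp (dec_perp hΦ hD).compl y
  rw [Φ.add_right, hx d d.2, h u u.2, add_zero]

theorem finrank_perp [Finite F] [FiniteDimensional F V] (hΦ : Good Φ) {D : Submodule F V} (hD : Φ.NdOn D) :
    finrank F D + finrank F (perp Φ D) = finrank F V :=
  Submodule.finrank_add_eq_of_isCompl (dec_perp hΦ hD).compl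

/-- adding a nondegenerate subspace of the perpendicular space -/
theorem ndOn_sup [FiniteDimensional F V] {D P : Submodule F V} (hD : Φ.NdOn D) (hP : Φ.NdOn P)
    (h : P ≤ perp Φ D) : Φ.NdOn (D ⊔ P) ∧ finrank F (D ⊔ P : Submodule F V) = finrank F D + finrank F P := by
  constructor
  · intro x hx hx0
    obtain ⟨d, hd, p, hp, rfl⟩ := Submodule.mem_sup.1 hx
    have h1 : d = 0 := by
      apply hD d hd
      intro y hy
      have h2 := hx0 y (Submodule.mem_sup_left hy)
      rw [Φ.add_left, h hp y hy, add_zero] at h2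
      exact h2
    have h3 : p = 0 := by
      apply hP p hp
      intro y hy
      have h2 := hx0 y (Submodule.mem_sup_right hy)
      rw [h1, zero_add] at h2
      exact h2
    rw [h1, h3, add_zero]
  · have h1 := Submodule.finrank_sup_add_finrank_inf_eq D P
    have h2 : D ⊓ P = ⊥ := by
      rw [Submodule.eq_bot_iff]
      rintro v ⟨hv, hv'⟩
      exact hD v hv (h hv')
    rw [h2, finrank_bot, add_zero] at h1
    exact h1

/-- nondegenerate subspaces of even dimension of a symplectic space -/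
theorem exists_sp [Finite F] [FiniteDimensional F V] (h : IsSp Φ) (j : ℕ) (hj : 2 * j ≤ finrank F V) :
    ∃ D, Φ.NdOn D ∧ finrank F D = 2 * j := by
  induction j with
  | zero => exact ⟨⊥, ndOn_bot, by rw [finrank_bot]⟩
  | succ j ih =>
    obtain ⟨D, hD, hd⟩ := ih (by omega)
    have hg := good_of_sp h
    have h1 := finrank_perp hg hD
    have h2 := ndOn_perp hg hD
    have h3 : perp Φ D ≠ ⊥ := by
      intro h0
      rw [h0, finrank_bot] at h1
      omega
    obtain ⟨v, hv, hv0⟩ := Submodule.exists_mem_ne_zero_of_ne_bot h3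
    obtain ⟨w, hw, hvw⟩ : ∃ w ∈ perp Φ D, Φ.B v w ≠ 0 := by
      by_contra hcon
      push Not at hcon
      exact hv0 (h2 v hv hcon)
    have hwv : Φ.B w v ≠ 0 := fun h0 => hvw (Φ.refl _ _ h0)
    have hli : LinearIndependent F ![v, w] := by
      rw [LinearIndependent.pair_iff]
      intro a b hab
      have e1 : Φ.B (a • v + b • w) w = 0 := by rw [hab, B_zero_left]
      have e2 : Φ.B (a • v + b • w) v = 0 := by rw [hab, B_zero_left]
      rw [Φ.add_left, Φ.smul_left, Φ.smul_left, h.alt, mul_zero, add_zero] at e1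
      rw [Φ.add_left, Φ.smul_left, Φ.smul_left, h.alt, mul_zero, zero_add] at e2
      exact ⟨(mul_eq_zero.1 e1).resolve_right hvw, (mul_eq_zero.1 e2).resolve_right hwv⟩
    have hP2 : finrank F (Submodule.span F (Set.range ![v, w])) = 2 := by
      rw [finrank_span_eq_card hli, Fintype.card_fin]
    have hP : Φ.NdOn (Submodule.span F (Set.range ![v, w])) := by
      intro x hx hx0
      have hr : Set.range ![v, w] = {v, w} := by
        rw [Matrix.range_cons, Matrix.range_cons, Matrix.range_empty, Set.union_empty]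
        rfl
      rw [hr] at hx hx0
      obtain ⟨a, b, rfl⟩ := Submodule.mem_span_pair.1 hx
      have e1 := hx0 w (Submodule.subset_span (by simp))
      have e2 := hx0 v (Submodule.subset_span (by simp))
      rw [Φ.add_left, Φ.smul_left, Φ.smul_left, h.alt, mul_zero, add_zero] at e1
      rw [Φ.add_left, Φ.smul_left, Φ.smul_left, h.alt, mul_zero, zero_add] at e2
      rw [(mul_eq_zero.1 e1).resolve_right hvw, (mul_eq_zero.1 e2).resolve_right hwv, zero_smul, zero_smul, add_zero]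
    have hle : Submodule.span F (Set.range ![v, w]) ≤ perp Φ D := by
      rw [Submodule.span_le]
      rintro _ ⟨i, rfl⟩
      fin_cases i
      · exact hv
      · exact hw
    obtain ⟨h4, h5⟩ := ndOn_sup hD hP hle
    exact ⟨_, h4, by rw [h5, hd, hP2]; ring⟩

/-- nonisotropic vectors in nonzero nondegenerate subspaces of hermitian spaces -/
theorem exists_nonisotropic [Finite F] {r : ℕ} (h : IsHerm r Φ) {W : Submodule F V}
    (hW : Φ.NdOn W) (hW0 : W ≠ ⊥) : ∃ v ∈ W, Φ.B v v ≠ 0 := by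
  have hg := good_of_herm h
  by_contra hcon
  push Not at hcon
  obtain ⟨v, hv, hv0⟩ := Submodule.exists_mem_ne_zero_of_ne_bot hW0
  obtain ⟨w, hw, hvw⟩ : ∃ w ∈ W, Φ.B v w ≠ 0 := by
    by_contra hcon
    push Not at hcon
    exact hv0 (hW v hv hcon)
  -- `μ + μ ^ r = 0` for all `μ`
  have h1 : ∀ μ : F, μ + μ ^ r = 0 := by
    intro μ
    set a := μ * (Φ.B v w)⁻¹ with ha
    have e1 := hcon (a • v + w) (W.add_mem (W.smul_mem a hv) hw)
    have e2 := hcon (a • v) (W.smul_mem a hv)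
    rw [Φ.add_left, Φ.add_right, Φ.add_right, e2, hcon w hw, h.symm (a • v) w, Φ.smul_left, ha,
      inv_mul_cancel_right₀ hvw] at e1
    linear_combination e1
  have hr : r ≠ 0 := by
    rintro rfl
    have h2 := h.card
    have h3 : 0 < Nat.card F := Nat.card_pos
    rw [h2] at h3
    simp at h3
  have h5 : Nat.card F ≤ r := by
    have := Fintype.ofFinite F
    have hr1 : r ≠ 1 := by
      rintro rfl
      have h2 := h.card
      have h3 : 1 < Nat.card F := Finite.one_lt_card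
      rw [h2] at h3
      simp at h3
    have hdeg : (Polynomial.X ^ r + Polynomial.X : Polynomial F).natDegree = r := by
      compute_degree!
      · rw [if_neg (Ne.symm hr1)]
        simp only [_root_.add_zero, _root_.Nat.cast_one, _root_.one_ne_zero, _root_.not_false_eq_true]
      · omega
    have hne : (Polynomial.X ^ r + Polynomial.X : Polynomial F) ≠ 0 := by
      intro h0
      rw [h0, Polynomial.natDegree_zero] at hdeg
      exact hr hdeg.symm
    have h6 : (Finset.univ : Finset F).card ≤ (Polynomial.X ^ r + Polynomial.X : Polynomial F).natDegree := by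
      apply Polynomial.card_le_degree_of_subset_roots
      intro μ _
      rw [Polynomial.mem_roots hne, Polynomial.IsRoot.def]
      simp only [Polynomial.eval_add, Polynomial.eval_pow, Polynomial.eval_X]
      rw [add_comm]
      exact h1 μ
    rw [hdeg, Finset.card_univ, ← Nat.card_eq_fintype_card] at h6
    exact h6
  have h6 := h.card
  have h7 : 1 < Nat.card F := Finite.one_lt_card
  have h8 : r * r ≤ r * 1 := by rw [mul_one, ← pow_two, ← h6]; exact h5
  have h9 := Nat.le_of_mul_le_mul_left h8 (Nat.pos_of_ne_zero hr)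
  have h10 : r = 1 := by omega
  rw [h10] at h6
  omega

/-- nondegenerate subspaces of a hermitian space -/
theorem exists_herm [Finite F] [FiniteDimensional F V] {r : ℕ} (h : IsHerm r Φ) (j : ℕ) (hj : j ≤ finrank F V) :
    ∃ D, Φ.NdOn D ∧ finrank F D = j := by
  induction j with
  | zero => exact ⟨⊥, ndOn_bot, by rw [finrank_bot]⟩
  | succ j ih =>
    obtain ⟨D, hD, hd⟩ := ih (by omega)
    have hg := good_of_herm h
    have h1 := finrank_perp hg hD
    have h2 := ndOn_perp hg hD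
    have h3 : perp Φ D ≠ ⊥ := by
      intro h0
      rw [h0, finrank_bot] at h1
      omega
    obtain ⟨v, hv, hvv⟩ := exists_nonisotropic h h2 h3
    have hv0 : v ≠ 0 := by
      rintro rfl
      exact hvv (B_zero_left _)
    have hP : Φ.NdOn (Submodule.span F {v}) := by
      intro x hx hx0
      obtain ⟨a, rfl⟩ := Submodule.mem_span_singleton.1 hx
      have e1 := hx0 v (Submodule.mem_span_singleton_self v)
      rw [Φ.smul_left] at e1
      rw [(mul_eq_zero.1 e1).resolve_right hvv, zero_smul]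
    have hle : Submodule.span F {v} ≤ perp Φ D := by
      rw [Submodule.span_le]
      rintro _ rfl
      exact hv
    obtain ⟨h4, h5⟩ := ndOn_sup hD hP hle
    exact ⟨_, h4, by rw [h5, hd, finrank_span_singleton hv0]⟩

end Cfsg.Agent.H42.Bs
end

-- part: H42/Bs/Herm
section
/-!
# S5733, BS35: determinants of isometries of hermitian spaces (helper42)
-/

set_option autoImplicit false

namespace Cfsg.Agent.H42.Bs

open Cfsg.Agent.H847.Bs Cfsg.Agent.H358.Bs Module

variable {F V : Type*} [Field F] [AddCommGroup V] [Module F V] {Φ : Frm F V}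

theorem det_glue [FiniteDimensional F V] {D U : Submodule F V} (h : IsCompl D U) (x : D ≃ₗ[F] D) (y : U ≃ₗ[F] U) :
    LinearMap.det ((glue h x y : V ≃ₗ[F] V) : V →ₗ[F] V) =
      LinearMap.det (x : D →ₗ[F] D) * LinearMap.det (y : U →ₗ[F] U) := by
  have h1 : ((glue h x y : V ≃ₗ[F] V) : V →ₗ[F] V) =
      ((Submodule.prodEquivOfIsCompl D U h : (D × U) ≃ₗ[F] V) : (D × U) →ₗ[F] V) ∘ₗ
        ((x : D →ₗ[F] D).prodMap (y : U →ₗ[F] U)) ∘ₗ ((Submodule.prodEquivOfIsCompl D U h).symm : V →ₗ[F] (D × U)) := by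
    ext v
    rfl
  rw [h1, LinearMap.det_conj, LinearMap.det_prodMap]

/-- the field automorphism of a form -/
def Good.ringHom (h : Good Φ) : F →+* F where
  toFun := Φ.s
  map_one' := by
    have h1 := h.s_mul 1 1
    rw [one_mul] at h1
    have h2 : Φ.s 1 ≠ 0 := by
      intro h0
      have h3 := h.s_s 1
      rw [h0, h.s_zero] at h3
      exact zero_ne_one h3
    exact (mul_eq_left₀ h2).1 h1.symm
  map_mul' := h.s_mul
  map_zero' := h.s_zero
  map_add' := h.s_add

theorem Good.B_sum_left (ι : Type*) (t : Finset ι) (f : ι → V) (w : V) :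
    Φ.B (∑ i ∈ t, f i) w = ∑ i ∈ t, Φ.B (f i) w := by
  classical
  induction t using Finset.induction_on with
  | empty => rw [Finset.sum_empty, Finset.sum_empty, B_zero_left]
  | insert a t ha ih => rw [Finset.sum_insert ha, Finset.sum_insert ha, Φ.add_left, ih]

theorem Good.B_sum_right (ι : Type*) (t : Finset ι) (f : ι → V) (w : V) :
    Φ.B w (∑ i ∈ t, f i) = ∑ i ∈ t, Φ.B w (f i) := by
  classical
  induction t using Finset.induction_on with
  | empty => rw [Finset.sum_empty, Finset.sum_empty, B_zero_right]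
  | insert a t ha ih => rw [Finset.sum_insert ha, Finset.sum_insert ha, Φ.add_right, ih]

/-- **The determinant of an isometry has norm one.** -/
theorem det_norm [FiniteDimensional F V] (h : Good Φ) {g : V ≃ₗ[F] V} (hg : g ∈ Φ.Iso) :
    LinearMap.det (g : V →ₗ[F] V) * Φ.s (LinearMap.det (g : V →ₗ[F] V)) = 1 := by
  classical
  let b := Module.finBasis F V
  let J : Matrix (Fin (finrank F V)) (Fin (finrank F V)) F := Matrix.of fun i j => Φ.B (b i) (b j)
  let A := LinearMap.toMatrix b b (g : V →ₗ[F] V)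
  have hgb : ∀ j, g (b j) = ∑ i, A i j • b i := by
    intro j
    have h1 := b.sum_repr (g (b j))
    rw [← h1]
    apply Finset.sum_congr rfl
    intro i _
    have h2 : A i j = b.repr (g (b j)) i := LinearMap.toMatrix_apply b b _ i j
    rw [h2]
  have h1 : A.transpose * J * A.map h.ringHom = J := by
    ext j l
    have h2 : Φ.B (g (b j)) (g (b l)) = J j l := hg.1 _ _
    rw [← h2, hgb, hgb, Good.B_sum_left, Matrix.mul_assoc, Matrix.mul_apply]
    apply Finset.sum_congr rfl
    intro i _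
    rw [Good.B_sum_right, Matrix.transpose_apply, Matrix.mul_apply, Finset.mul_sum]
    apply Finset.sum_congr rfl
    intro k _
    rw [Φ.smul_left, Φ.smul_right]
    show A i j * (Φ.B (b i) (b k) * Φ.s (A k l)) = _
    ring
  have hJ : J.det ≠ 0 := by
    intro h0
    obtain ⟨v, hv, hv0⟩ := Matrix.exists_vecMul_eq_zero_iff.2 h0
    apply hv
    have h3 : ∑ i, v i • b i = 0 := by
      apply h.nd
      intro y
      rw [← b.sum_repr y, Good.B_sum_right]
      apply Finset.sum_eq_zero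
      intro j _
      rw [Φ.smul_right, Good.B_sum_left]
      have h4 := congrFun hv0 j
      have h5 : ∑ i, Φ.B (v i • b i) (b j) = 0 := by
        rw [Pi.zero_apply] at h4
        rw [← h4]
        simp only [Matrix.vecMul, dotProduct, Φ.smul_left]
        rfl
      rw [h5, mul_zero]
    ext i
    have h4 := Fintype.linearIndependent_iff.1 b.linearIndependent v h3 i
    exact h4
  have h2 := congrArg Matrix.det h1
  rw [Matrix.det_mul, Matrix.det_mul, Matrix.det_transpose] at h2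
  have h3 : (A.map h.ringHom).det = Φ.s A.det := by
    have h4 := RingHom.map_det h.ringHom A
    exact h4.symm
  have h4 : A.det = LinearMap.det (g : V →ₗ[F] V) := LinearMap.det_toMatrix b _
  rw [h3, h4] at h2
  apply mul_left_cancel₀ hJ
  linear_combination h2

/-- isometries with given determinant -/
theorem exists_det [Finite F] [FiniteDimensional F V] {r : ℕ} (h : IsHerm r Φ) (h1 : 1 ≤ finrank F V) {μ : F}
    (hμ : μ * μ ^ r = 1) : ∃ w ∈ Φ.Iso, LinearMap.det (w : V →ₗ[F] V) = μ := by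
  have hg := good_of_herm h
  have htop : Φ.NdOn (⊤ : Submodule F V) := fun x _ hx => hg.nd x fun y => hx y trivial
  have hne : (⊤ : Submodule F V) ≠ ⊥ := by
    intro h0
    have h2 := finrank_top F V
    rw [h0, finrank_bot] at h2
    omega
  obtain ⟨a, -, ha⟩ := exists_nonisotropic h htop hne
  have ha0 : a ≠ 0 := by
    rintro rfl
    exact ha (B_zero_left _)
  have hP : Φ.NdOn (Submodule.span F {a}) := by
    intro x hx hx0
    obtain ⟨c, rfl⟩ := Submodule.mem_span_singleton.1 hx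
    have e1 := hx0 a (Submodule.mem_span_singleton_self a)
    rw [Φ.smul_left] at e1
    rw [(mul_eq_zero.1 e1).resolve_right ha, zero_smul]
  have hdec := dec_perp hg hP
  have hμ0 : μ ≠ 0 := by
    rintro rfl
    rw [zero_mul] at hμ
    exact zero_ne_one hμ
  let x : (Submodule.span F {a}) ≃ₗ[F] (Submodule.span F {a}) := LinearEquiv.smulOfNeZero F _ μ hμ0
  have hx : x ∈ (Φ.on (Submodule.span F {a})).Iso := by
    constructor
    · intro v w
      show Φ.B (μ • (v : V)) (μ • (w : V)) = Φ.B (v : V) w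
      rw [Φ.smul_left, Φ.smul_right, h.s, ← mul_assoc, hμ, one_mul]
    · intro v
      show Φ.q _ = Φ.q _
      rw [h.q, h.q]
  obtain ⟨κ, hκ⟩ := hg.quad
  refine ⟨glue hdec.compl x 1, glue_mem_Iso hκ hdec hx (one_mem _), ?_⟩
  rw [det_glue]
  have e1 : LinearMap.det ((1 : perp Φ (Submodule.span F {a}) ≃ₗ[F] perp Φ (Submodule.span F {a})) :
      perp Φ (Submodule.span F {a}) →ₗ[F] perp Φ (Submodule.span F {a})) = 1 := LinearMap.det_id
  have e2 : (x : (Submodule.span F {a}) →ₗ[F] (Submodule.span F {a})) = μ • LinearMap.id := by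
    ext v
    rfl
  rw [e1, e2, LinearMap.det_smul, LinearMap.det_id, finrank_span_singleton ha0, pow_one, mul_one, mul_one]

end Cfsg.Agent.H42.Bs
end
end

-- part: H59/Bs/SpMinus
section
prune_inst 0x204004002000000000000506220004205200010200030400a400028206c184a2c0402620b78020000a020004083c0000008800200040000004000400011c00800080100431400000000010000000000000000000010000000000000000000000000000000
set_option linter.all false
open scoped Cfsg.Agent.FastGrp

-- part: H59/Bs/Pairs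
section
/-!
# S5733, BS07: counting conjugates by pairs, transport along isometries (helper59)
-/

set_option autoImplicit false

namespace Cfsg.Agent.H59.Bs

open Cfsg.Agent.H847.Bs

/-- **counting conjugates** -/
theorem card_pairs {𝒢 : Type*} [Group 𝒢] [Finite 𝒢] (G : Subgroup 𝒢) (E B : Set 𝒢) (M : ℕ)
    (hM : ∀ x ∈ E, Nat.card {h : 𝒢 // h ∈ G ∧ h * x * h⁻¹ ∈ E} ≤ M)
    (hB : ∀ g ∈ G, ∀ x ∈ E, g * x * g⁻¹ ∈ B) : Nat.card G * Nat.card E ≤ Nat.card B * M := by
  classical
  have := Fintype.ofFinite 𝒢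
  let f : G × E → B := fun z => ⟨z.1.1 * z.2.1 * z.1.1⁻¹, hB _ z.1.2 _ z.2.2⟩
  rw [← Nat.card_prod]
  have h1 : Nat.card (G × E) = ∑ b : B, Nat.card {z : G × E // f z = b} := by
    rw [← Nat.card_sigma]
    exact Nat.card_congr (Equiv.sigmaFiberEquiv f).symm
  rw [h1, Nat.card_eq_fintype_card (α := B), ← smul_eq_mul, ← Finset.card_univ]
  refine Finset.sum_le_card_nsmul _ _ _ fun b _ => ?_
  by_cases hne : Nonempty {z : G × E // f z = b}
  · obtain ⟨⟨⟨g0, x0⟩, h0⟩⟩ := hne
    refine le_trans ?_ (hM x0.1 x0.2)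
    have hb : b.1 = g0.1 * x0.1 * g0.1⁻¹ := by rw [← h0]
    refine Nat.card_le_card_of_injective (fun z => ⟨z.1.1.1⁻¹ * g0.1, G.mul_mem (G.inv_mem z.1.1.2) g0.2, ?_⟩) ?_
    · have h2 : b.1 = z.1.1.1 * z.1.2.1 * z.1.1.1⁻¹ := (congrArg Subtype.val z.2).symm
      have h3 : z.1.1.1⁻¹ * g0.1 * x0.1 * (z.1.1.1⁻¹ * g0.1)⁻¹ = z.1.2.1 := by
        have h4 : g0.1 * x0.1 * g0.1⁻¹ = z.1.1.1 * z.1.2.1 * z.1.1.1⁻¹ := by rw [← hb, ← h2]
        calc z.1.1.1⁻¹ * g0.1 * x0.1 * (z.1.1.1⁻¹ * g0.1)⁻¹ = z.1.1.1⁻¹ * (g0.1 * x0.1 * g0.1⁻¹) * z.1.1.1 := by group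
          _ = z.1.2.1 := by rw [h4]; group
      rw [h3]
      exact z.1.2.2
    · intro z z' hzz
      have h5 : z.1.1.1⁻¹ * g0.1 = z'.1.1.1⁻¹ * g0.1 := congrArg Subtype.val hzz
      have h6 : z.1.1.1 = z'.1.1.1 := inv_injective (mul_right_cancel h5)
      have h2 : b.1 = z.1.1.1 * z.1.2.1 * z.1.1.1⁻¹ := (congrArg Subtype.val z.2).symm
      have h2' : b.1 = z'.1.1.1 * z'.1.2.1 * z'.1.1.1⁻¹ := (congrArg Subtype.val z'.2).symm
      rw [h6, h2'] at h2
      have h7 : z'.1.2.1 = z.1.2.1 := mul_left_cancel (mul_right_cancel h2)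
      exact Subtype.ext (Prod.ext (Subtype.ext h6) (Subtype.ext h7.symm))
  · rw [not_nonempty_iff] at hne
    rw [Nat.card_of_isEmpty]
    exact Nat.zero_le _

section Transport

variable {F V V' : Type*} [Field F] [AddCommGroup V] [Module F V] [AddCommGroup V'] [Module F V']

/-- conjugation with a linear isomorphism -/
def cj (e : V ≃ₗ[F] V') (x : V ≃ₗ[F] V) : V' ≃ₗ[F] V' := e.symm ≪≫ₗ x ≪≫ₗ e

theorem cj_apply (e : V ≃ₗ[F] V') (x : V ≃ₗ[F] V) (v : V) : cj e x (e v) = e (x v) := by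
  simp [cj]

theorem cj_injective (e : V ≃ₗ[F] V') : Function.Injective (cj e) := by
  intro x y h
  ext v
  apply e.injective
  rw [← cj_apply, ← cj_apply, h]

theorem Inv_cj {e : V ≃ₗ[F] V'} {x : V ≃ₗ[F] V} {Y : Submodule F V} :
    _root_.Cfsg.Agent.H847.Bs.Inv (cj e x) (Y.map (e : V →ₗ[F] V')) ↔ _root_.Cfsg.Agent.H847.Bs.Inv x Y := by
  constructor
  · intro h v hv
    obtain ⟨w, hw, hw'⟩ := h (e v) ⟨v, hv, rfl⟩
    rw [cj_apply] at hw'
    have : w = x v := e.injective hw'
    rwa [← this]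
  · rintro h _ ⟨v, hv, rfl⟩
    exact ⟨x v, h v hv, (cj_apply e x v).symm⟩

theorem Irr_cj {e : V ≃ₗ[F] V'} {x : V ≃ₗ[F] V} {X : Submodule F V} (h : Irr x X) :
    Irr (cj e x) (X.map (e : V →ₗ[F] V')) := by
  refine ⟨Inv_cj.2 h.inv, ?_, ?_⟩
  · rw [Ne, Submodule.map_eq_bot_iff]
    exact h.ne_bot
  · intro Y hY hi
    have hYe : (Y.comap (e : V →ₗ[F] V')).map (e : V →ₗ[F] V') = Y :=
      Submodule.map_comap_eq_of_surjective e.surjective Y
    rw [← hYe] at hi
    rcases h.min (Y.comap (e : V →ₗ[F] V')) (by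
      intro v hv
      obtain ⟨w, hw, hw'⟩ := hY hv
      have : w = v := e.injective hw'
      rwa [← this]) (Inv_cj.1 hi) with h1 | h1
    · left
      rw [← hYe, h1, Submodule.map_bot]
    · right
      rw [← hYe, h1]

variable {Φ : Frm F V} {Φ' : Frm F V'} {e : V ≃ₗ[F] V'}

theorem Iso_cj (hB : ∀ x y, Φ'.B (e x) (e y) = Φ.B x y) (hq : ∀ x, Φ'.q (e x) = Φ.q x) {x : V ≃ₗ[F] V}
    (hx : x ∈ Φ.Iso) : cj e x ∈ Φ'.Iso := by
  obtain ⟨h1, h2⟩ := hx
  refine ⟨fun u v => ?_, fun u => ?_⟩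
  · obtain ⟨u, rfl⟩ := e.surjective u
    obtain ⟨v, rfl⟩ := e.surjective v
    rw [cj_apply, cj_apply, hB, h1, hB]
  · obtain ⟨u, rfl⟩ := e.surjective u
    rw [cj_apply, hq, h2, hq]

theorem card_Iso_le [Finite V'] (hB : ∀ x y, Φ'.B (e x) (e y) = Φ.B x y) (hq : ∀ x, Φ'.q (e x) = Φ.q x) :
    Nat.card Φ.Iso ≤ Nat.card Φ'.Iso :=
  have : Finite (V' ≃ₗ[F] V') := Finite.of_injective _ DFunLike.coe_injective
  Nat.card_le_card_of_injective (fun x => ⟨cj e x.1, Iso_cj hB hq x.2⟩)
    fun _ _ h => Subtype.ext (cj_injective e (congrArg Subtype.val h))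

theorem Bm_cj (hB : ∀ x y, Φ'.B (e x) (e y) = Φ.B x y) (hq : ∀ x, Φ'.q (e x) = Φ.q x) {x : V ≃ₗ[F] V}
    (hx : x ∈ Φ.Bm) : cj e x ∈ Φ'.Bm := by
  refine ⟨Iso_cj hB hq hx.1, ?_⟩
  have h1 := Irr_cj (e := e) hx.2
  rwa [Submodule.map_top, LinearMap.range_eq_top.2 e.surjective] at h1

theorem TI_cj (hB : ∀ x y, Φ'.B (e x) (e y) = Φ.B x y) (hq : ∀ x, Φ'.q (e x) = Φ.q x) {A : Submodule F V}
    (hA : Φ.TI A) : Φ'.TI (A.map (e : V →ₗ[F] V')) := by
  refine ⟨?_, ?_⟩
  · rintro _ ⟨x, hx, rfl⟩ _ ⟨y, hy, rfl⟩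
    exact (hB x y).trans (hA.1 x hx y hy)
  · rintro _ ⟨x, hx, rfl⟩
    exact (hq x).trans (hA.2 x hx)

theorem Bp_cj (hB : ∀ x y, Φ'.B (e x) (e y) = Φ.B x y) (hq : ∀ x, Φ'.q (e x) = Φ.q x) {x : V ≃ₗ[F] V}
    (hx : x ∈ Φ.Bp) : cj e x ∈ Φ'.Bp := by
  obtain ⟨h0, A, A', hc, hA, hA', hi, hi', hr, hn⟩ := hx
  refine ⟨Iso_cj hB hq h0, A.map (e : V →ₗ[F] V'), A'.map (e : V →ₗ[F] V'), ?_, TI_cj hB hq hA, TI_cj hB hq hA', Irr_cj hi,
    Irr_cj hi', ?_, ?_⟩
  · exact (Submodule.orderIsoMapComap e).isCompl_iff.1 hc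
  · rw [LinearEquiv.finrank_map_eq, LinearEquiv.finrank_map_eq, hr]
  · rintro ⟨φ, hφ⟩
    apply hn
    let i : A ≃ₗ[F] A.map (e : V →ₗ[F] V') := e.submoduleMap A
    let i' : A' ≃ₗ[F] A'.map (e : V →ₗ[F] V') := e.submoduleMap A'
    refine ⟨i ≪≫ₗ φ ≪≫ₗ i'.symm, fun a ha => ?_⟩
    apply e.injective
    have h1 : ∀ b : A, e (((i ≪≫ₗ φ ≪≫ₗ i'.symm) b : A') : V) = ((φ (i b) : A'.map (e : V →ₗ[F] V')) : V') := by
      intro b
      have h2 : i' ((i ≪≫ₗ φ ≪≫ₗ i'.symm) b) = φ (i b) := by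
        simp
      have h3 : ((i' ((i ≪≫ₗ φ ≪≫ₗ i'.symm) b) : A'.map (e : V →ₗ[F] V')) : V') =
          e (((i ≪≫ₗ φ ≪≫ₗ i'.symm) b : A') : V) := rfl
      rw [← h3, h2]
    rw [h1]
    have h4 : cj e x ((i a : A.map (e : V →ₗ[F] V')) : V') ∈ A.map (e : V →ₗ[F] V') := by
      have h5 : ((i a : A.map (e : V →ₗ[F] V')) : V') = e a := rfl
      rw [h5, cj_apply]
      exact ⟨_, ha, rfl⟩
    have h6 := hφ (i a) h4
    have h7 : (⟨cj e x ((i a : A.map (e : V →ₗ[F] V')) : V'), h4⟩ : A.map (e : V →ₗ[F] V')) = i ⟨x a, ha⟩ := by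
      apply Subtype.ext
      have h5 : ((i a : A.map (e : V →ₗ[F] V')) : V') = e a := rfl
      show cj e x ((i a : A.map (e : V →ₗ[F] V')) : V') = e (x a)
      rw [h5, cj_apply]
    rw [h7] at h6
    rw [h6, ← h1, cj_apply]

end Transport

end Cfsg.Agent.H59.Bs
end

-- part: H59/Bs/Tor
section
/-!
# S5733, BS07: elements of a torus `F_{q^{2j}}ˣ ∩ {t^(q^j+1) = 1}` (helper59)
-/

set_option autoImplicit false
set_option linter.unusedSectionVars false

namespace Cfsg.Agent.H59.Bs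

open Cfsg.Agent.H847.Bs Module
open scoped IntermediateField

theorem card_le_mul {α β : Type*} [Finite α] [Finite β] (f : α → β) (m : ℕ)
    (h : ∀ b, Nat.card {a // f a = b} ≤ m) : Nat.card α ≤ Nat.card β * m := by
  classical
  have := Fintype.ofFinite β
  have h1 : Nat.card α = ∑ b : β, Nat.card {a // f a = b} := by
    rw [← Nat.card_sigma]
    exact Nat.card_congr (Equiv.sigmaFiberEquiv f).symm
  rw [h1, Nat.card_eq_fintype_card (α := β), ← smul_eq_mul, ← Finset.card_univ]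
  exact Finset.sum_le_card_nsmul _ _ _ fun b _ => h b

section Field

variable {F L : Type*} [Field F] [Field L] [Algebra F L] [Finite L]

/-- multiplication by a unit -/
noncomputable def mulE (F : Type*) {L : Type*} [Field F] [Field L] [Algebra F L] (t : Lˣ) : L ≃ₗ[F] L :=
  DistribMulAction.toLinearEquiv F L t

theorem mulE_apply (t : Lˣ) (x : L) : mulE F t x = t * x := rfl

theorem mulE_injective : Function.Injective (mulE F (L := L)) := by
  intro t u h
  apply Units.ext
  have h1 := congrArg (fun g : L ≃ₗ[F] L => g 1) h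
  simpa [mulE_apply] using h1

theorem pow_card_of_mem {t : L} {K : IntermediateField F L} (ht : t ∈ K) : t ^ Nat.card K = t := by
  have := Fintype.ofFinite K
  have h := FiniteField.pow_card (⟨t, ht⟩ : K)
  rw [← Nat.card_eq_fintype_card] at h
  exact congrArg Subtype.val h

theorem exists_aeval {t : L} (h : F⟮t⟯ = ⊤) (y : L) : ∃ p : Polynomial F, Polynomial.aeval t p = y := by
  have hF : Finite F := Finite.of_injective _ (algebraMap F L).injective
  have hint : IsIntegral F t := Algebra.IsIntegral.isIntegral t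
  have h1 : y ∈ Algebra.adjoin F {t} := by
    rw [← IntermediateField.adjoin_simple_toSubalgebra_of_isAlgebraic hint.isAlgebraic, h]
    exact IntermediateField.mem_top
  rw [Algebra.adjoin_singleton_eq_range_aeval] at h1
  obtain ⟨p, hp⟩ := h1
  exact ⟨p, hp⟩

/-- a generating element is irreducible -/
theorem irr_mulE {t : Lˣ} (h : F⟮(t : L)⟯ = ⊤) : Irr (mulE F t) ⊤ := by
  refine ⟨fun _ _ => Submodule.mem_top, ?_, ?_⟩
  · rw [Ne, Submodule.eq_bot_iff]
    push Not
    exact ⟨1, Submodule.mem_top, one_ne_zero⟩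
  · intro Y _ hY
    by_cases h0 : Y = ⊥
    · exact Or.inl h0
    · right
      obtain ⟨y, hy, hy0⟩ := Submodule.exists_mem_ne_zero_of_ne_bot h0
      rw [eq_top_iff]
      intro z _
      obtain ⟨p, hp⟩ := exists_aeval h (z * y⁻¹)
      have h1 : z = Polynomial.aeval (t : L) p * y := by
        rw [hp, inv_mul_cancel_right₀ hy0]
      rw [h1]
      clear h1 hp
      induction p using Polynomial.induction_on' with
      | add p r hp hr => rw [map_add, add_mul]; exact Y.add_mem hp hr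
      | monomial n c =>
        rw [Polynomial.aeval_monomial, mul_assoc, ← Algebra.smul_def]
        apply Y.smul_mem
        induction n with
        | zero => simpa using hy
        | succ n ih =>
          rw [pow_succ', mul_assoc]
          exact hY _ ih

/-- **the elements conjugating a generating torus element into the torus** -/
theorem card_conj_le (G : Subgroup (L ≃ₗ[F] L)) (T : Set Lˣ) (hT : ∀ c : Lˣ, mulE F c ∈ G → c ∈ T) {t : Lˣ}
    (ht : F⟮(t : L)⟯ = ⊤) (E : Set (L ≃ₗ[F] L)) (hE : ∀ x ∈ E, ∃ u : Lˣ, x = mulE F u) :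
    Nat.card {h : L ≃ₗ[F] L // h ∈ G ∧ h * mulE F t * h⁻¹ ∈ E} ≤ finrank F L * Nat.card T := by
  classical
  have hF : Finite F := Finite.of_injective _ (algebraMap F L).injective
  have hfd : FiniteDimensional F L := Module.Finite.of_finite
  have hfe : Finite (L ≃ₗ[F] L) := Finite.of_injective _ DFunLike.coe_injective
  set P := minpoly F (t : L) with hP
  have hP0 : P ≠ 0 := minpoly.ne_zero (Algebra.IsIntegral.isIntegral _)
  have key : ∀ z : {h : L ≃ₗ[F] L // h ∈ G ∧ h * mulE F t * h⁻¹ ∈ E},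
      ∃ u : Lˣ, z.1 * mulE F t * z.1⁻¹ = mulE F u := fun z => hE _ z.2.2
  choose u hu using key
  have hcomm : ∀ z x, z.1 ((t : L) * x) = (u z : L) * z.1 x := by
    intro z x
    have h1 : z.1 * mulE F t = mulE F (u z) * z.1 := by rw [← hu z]; group
    exact congrArg (fun g : L ≃ₗ[F] L => g x) h1
  have hpoly : ∀ z (p : Polynomial F) x, z.1 (Polynomial.aeval (t : L) p * x) =
      Polynomial.aeval (u z : L) p * z.1 x := by
    intro z p
    induction p using Polynomial.induction_on' with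
    | add p r hp hr => intro x; rw [map_add, map_add, add_mul, map_add, hp, hr, add_mul]
    | monomial n c =>
      intro x
      rw [Polynomial.aeval_monomial, Polynomial.aeval_monomial, mul_assoc, mul_assoc, ← Algebra.smul_def,
        ← Algebra.smul_def, map_smul]
      congr 1
      induction n generalizing x with
      | zero => simp
      | succ n ih => rw [pow_succ', mul_assoc, hcomm, ih, pow_succ', mul_assoc]
  have hroot : ∀ z, (u z : L) ∈ (P.map (algebraMap F L)).roots.toFinset := by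
    intro z
    rw [Multiset.mem_toFinset, Polynomial.mem_roots (Polynomial.map_ne_zero hP0), Polynomial.IsRoot.def,
      Polynomial.eval_map_algebraMap]
    have h1 := hpoly z P 1
    rw [hP, minpoly.aeval, zero_mul, map_zero] at h1
    rcases mul_eq_zero.1 h1.symm with h2 | h2
    · exact h2
    · exact absurd (z.1.map_eq_zero_iff.1 h2) one_ne_zero
  let f : {h : L ≃ₗ[F] L // h ∈ G ∧ h * mulE F t * h⁻¹ ∈ E} → (P.map (algebraMap F L)).roots.toFinset :=
    fun z => ⟨u z, hroot z⟩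
  have h1 := card_le_mul f (Nat.card T) ?_
  · refine h1.trans (Nat.mul_le_mul_right _ ?_)
    rw [Nat.card_eq_fintype_card, Fintype.card_coe]
    refine (Multiset.toFinset_card_le _).trans ((Polynomial.card_roots' _).trans ?_)
    rw [Polynomial.natDegree_map]
    exact minpoly.natDegree_le _
  · intro b
    by_cases hne : Nonempty {a // f a = b}
    · obtain ⟨z0⟩ := hne
      have hz1 : ∀ z : {a // f a = b}, z.1.1 1 ≠ 0 := fun z h0 =>
        one_ne_zero (z.1.1.map_eq_zero_iff.1 h0)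
      have hc : ∀ z : {a // f a = b}, z.1.1 * z0.1.1⁻¹ = mulE F (Units.mk0 (z.1.1 1 / z0.1.1 1) (div_ne_zero (hz1 z) (hz1 z0))) := by
        intro z
        have hzz : (u z.1 : L) = u z0.1 := by
          have h2 : f z.1 = f z0.1 := z.2.trans z0.2.symm
          exact congrArg Subtype.val h2
        rw [mul_inv_eq_iff_eq_mul]
        ext x
        obtain ⟨p, hp⟩ := exists_aeval ht x
        have h2 := hpoly z.1 p 1
        have h3 := hpoly z0.1 p 1
        rw [mul_one, hp] at h2 h3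
        show z.1.1 x = (z.1.1 1 / z0.1.1 1) * z0.1.1 x
        rw [h2, h3, hzz]
        field_simp [hz1 z0]
      refine Nat.card_le_card_of_injective (fun z => (⟨Units.mk0 (z.1.1 1 / z0.1.1 1) (div_ne_zero (hz1 z) (hz1 z0)),
        hT _ ?_⟩ : T)) ?_
      · rw [← hc z]
        exact G.mul_mem z.1.2.1 (G.inv_mem z0.1.2.1)
      · intro z z' hzz
        have h4 := congrArg Subtype.val hzz
        have h5 : z.1.1 * z0.1.1⁻¹ = z'.1.1 * z0.1.1⁻¹ := by
          rw [hc z, hc z']
          exact congrArg _ h4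
        exact Subtype.ext (Subtype.ext (mul_right_cancel h5))
    · rw [not_nonempty_iff] at hne
      rw [Nat.card_of_isEmpty]
      exact Nat.zero_le _

/-- the norm one torus is large -/
theorem card_tor {Q : ℕ} (hQ : 1 < Q) (hL : Nat.card L = Q ^ 2) : Q + 1 ≤ Nat.card {t : Lˣ // t ^ (Q + 1) = 1} := by
  classical
  have := Fintype.ofFinite L
  have hc : Nat.card Lˣ = (Q - 1) * (Q + 1) := by
    rw [Nat.card_units, hL]
    obtain ⟨m, rfl⟩ : ∃ m, Q = m + 1 := ⟨Q - 1, by omega⟩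
    rw [Nat.add_sub_cancel]
    apply Nat.sub_eq_of_eq_add
    ring
  have h1 := card_le_mul (α := Lˣ) (β := {t : Lˣ // t ^ (Q + 1) = 1}) (fun x => ⟨x ^ (Q - 1), by
    rw [← pow_mul, ← hc, pow_card_eq_one']⟩) (Q - 1) ?_
  · rw [hc, mul_comm] at h1
    exact Nat.le_of_mul_le_mul_right h1 (by omega)
  · intro b
    by_cases hne : Nonempty {a : Lˣ // (⟨a ^ (Q - 1), by rw [← pow_mul, ← hc, pow_card_eq_one']⟩ :
        {t : Lˣ // t ^ (Q + 1) = 1}) = b}
    · obtain ⟨z0⟩ := hne
      have h2 : Nat.card {a : Lˣ // a ^ (Q - 1) = 1} ≤ Q - 1 := by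
        have h3 : Nat.card (rootsOfUnity (Q - 1) L) ≤ Q - 1 := by
          have : NeZero (Q - 1) := ⟨by omega⟩
          exact card_rootsOfUnity L (Q - 1)
        exact h3
      refine le_trans ?_ h2
      refine Nat.card_le_card_of_injective (fun z => ⟨z.1 * z0.1⁻¹, ?_⟩) ?_
      · rw [mul_pow, inv_pow]
        have h4 := congrArg Subtype.val (z.2.trans z0.2.symm)
        have h5 : z.1 ^ (Q - 1) = z0.1 ^ (Q - 1) := h4
        rw [h5, mul_inv_cancel]
      · intro z z' h
        exact Subtype.ext (mul_right_cancel (congrArg Subtype.val h))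
    · rw [not_nonempty_iff] at hne
      rw [Nat.card_of_isEmpty]
      exact Nat.zero_le _

theorem card_pow_le (m : ℕ) (hm : 0 < m) : Nat.card {t : Lˣ // t ^ m = 1} ≤ m := by
  have := Fintype.ofFinite L
  have h3 : Nat.card (rootsOfUnity m L) ≤ m := by
    have : NeZero m := ⟨by omega⟩
    exact card_rootsOfUnity L m
  exact h3

theorem pow_pow_eq {t : Lˣ} {q e : ℕ} (h : t ^ q ^ e = t) (m : ℕ) : t ^ q ^ (e * m) = t := by
  induction m with
  | zero => simp
  | succ m ih => rw [mul_add, mul_one, pow_add, pow_mul, ih, h]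

/-- a non-generating element of the torus -/
theorem nongen {j : ℕ} (hj : finrank F L = 2 * j) (hj0 : 0 < j) {t : Lˣ} (ht : t ^ (Nat.card F ^ j + 1) = 1)
    (hg : F⟮(t : L)⟯ ≠ ⊤) : t ^ 2 = 1 ∨ ∃ e ∈ Finset.Icc 1 (j / 3), t ^ (Nat.card F ^ e + 1) = 1 := by
  have hF : Finite F := Finite.of_injective _ (algebraMap F L).injective
  have hfd : FiniteDimensional F L := Module.Finite.of_finite
  set q := Nat.card F with hq
  set e := finrank F F⟮(t : L)⟯ with he
  have h0 : e * finrank F⟮(t : L)⟯ L = 2 * j := by rw [← hj]; exact Module.finrank_mul_finrank _ _ _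
  have h1 : t ^ q ^ e = t := by
    apply Units.ext
    have h2 := pow_card_of_mem (IntermediateField.mem_adjoin_simple_self F (t : L))
    rw [Module.natCard_eq_pow_finrank (K := F)] at h2
    rw [Units.val_pow_eq_pow_val]
    exact h2
  obtain ⟨m, hm⟩ : ∃ m, e * m = 2 * j := ⟨_, h0⟩
  have hm1 : m ≠ 1 := by
    rintro rfl
    apply hg
    rw [mul_one] at hm
    have h3 : finrank F F⟮(t : L)⟯ = finrank F L := by rw [hj, ← hm]
    exact IntermediateField.eq_of_le_of_finrank_eq le_top (by rw [h3, IntermediateField.finrank_top'])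
  rcases Nat.even_or_odd m with ⟨m', hm'⟩ | ⟨m', hm'⟩
  · left
    have h4 : e * m' = j := by
      have : 2 * (e * m') = 2 * j := by rw [← hm, hm']; ring
      omega
    have h5 := pow_pow_eq h1 m'
    rw [h4] at h5
    rw [pow_succ, h5, ← pow_two] at ht
    exact ht
  · right
    have h6 : Even e := by
      by_contra h7
      rw [Nat.not_even_iff_odd] at h7
      have h8 : Odd (e * m) := h7.mul ⟨m', hm'⟩
      rw [hm] at h8
      exact (Nat.not_odd_iff_even.2 (even_two_mul j)) h8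
    obtain ⟨e', he'⟩ := h6
    have h9 : e' * m = j := by
      have : 2 * (e' * m) = 2 * j := by rw [← hm, he']; ring
      omega
    have hm3 : 3 ≤ m := by omega
    have he0 : e' ≠ 0 := by
      rintro rfl
      omega
    refine ⟨e', Finset.mem_Icc.2 ⟨by omega, ?_⟩, ?_⟩
    · rw [Nat.le_div_iff_mul_le (by norm_num)]
      calc e' * 3 ≤ e' * m := Nat.mul_le_mul_left _ hm3
        _ = j := h9
    · have h10 : j = e * m' + e' := by rw [← h9, hm', he']; ring
      have h11 : t ^ q ^ j = t ^ q ^ e' := by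
        rw [h10, pow_add, pow_mul, pow_pow_eq h1]
      rw [pow_succ, h11, ← pow_succ] at ht
      exact ht

theorem card_bad {j : ℕ} (hj : finrank F L = 2 * j) (hj0 : 0 < j) :
    Nat.card {t : Lˣ // t ^ (Nat.card F ^ j + 1) = 1 ∧ F⟮(t : L)⟯ ≠ ⊤} ≤
      2 + ∑ e ∈ Finset.Icc 1 (j / 3), (Nat.card F ^ e + 1) := by
  classical
  have := Fintype.ofFinite L
  let S : Finset Lˣ := (Finset.univ.filter fun t : Lˣ => t ^ 2 = 1) ∪
    (Finset.Icc 1 (j / 3)).biUnion fun e => Finset.univ.filter fun t : Lˣ => t ^ (Nat.card F ^ e + 1) = 1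
  have hc : ∀ m : ℕ, 0 < m → (Finset.univ.filter fun t : Lˣ => t ^ m = 1).card ≤ m := by
    intro m hm
    have h := card_pow_le (L := L) m hm
    rwa [Nat.card_eq_fintype_card, Fintype.card_subtype] at h
  have h1 : S.card ≤ 2 + ∑ e ∈ Finset.Icc 1 (j / 3), (Nat.card F ^ e + 1) := by
    refine (Finset.card_union_le _ _).trans (Nat.add_le_add (hc 2 (by norm_num)) ?_)
    exact Finset.card_biUnion_le.trans (Finset.sum_le_sum fun e _ => hc _ (by omega))
  refine le_trans ?_ h1
  rw [← Fintype.card_coe, ← Nat.card_eq_fintype_card]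
  refine Nat.card_le_card_of_injective (fun t => (⟨t.1, ?_⟩ : S)) fun t t' h => Subtype.ext
    (congrArg (fun z : S => z.1) h)
  rw [Finset.mem_union]
  rcases nongen hj hj0 t.2.1 t.2.2 with h | ⟨e, he, h⟩
  · exact Or.inl (Finset.mem_filter.2 ⟨Finset.mem_univ _, h⟩)
  · exact Or.inr (Finset.mem_biUnion.2 ⟨e, he, Finset.mem_filter.2 ⟨Finset.mem_univ _, h⟩⟩)

end Field

theorem sum_le {q : ℕ} (hq : 2 ≤ q) (m : ℕ) : ∑ e ∈ Finset.Icc 1 m, (q ^ e + 1) + 2 ≤ 2 * q ^ m + m := by
  induction m with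
  | zero => simp
  | succ m ih =>
    rw [Finset.sum_Icc_succ_top (by omega)]
    have h1 : 2 * q ^ m ≤ q ^ (m + 1) := by
      rw [pow_succ, mul_comm]
      exact Nat.mul_le_mul_left _ hq
    omega

/-- numerical estimate -/
theorem num {q j : ℕ} (hq : 2 ≤ q) :
    ((2 + ∑ e ∈ Finset.Icc 1 (j / 3), (q ^ e + 1) : ℕ) : ℝ) ≤ 16 * (4 / 5 : ℝ) ^ j * (q ^ j + 1) := by
  obtain ⟨m, r, hr, rfl⟩ : ∃ m r, r < 3 ∧ j = 3 * m + r := ⟨j / 3, j % 3, Nat.mod_lt _ (by norm_num), (Nat.div_add_mod j 3).symm⟩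
  have h3 : (3 * m + r) / 3 = m := by omega
  rw [h3]
  have h1 : 2 + ∑ e ∈ Finset.Icc 1 m, (q ^ e + 1) ≤ 2 * q ^ m + m := by
    have := sum_le hq m
    omega
  have h2 : m + 1 ≤ q ^ m := Nat.lt_pow_self hq
  have h4 : 2 + ∑ e ∈ Finset.Icc 1 m, (q ^ e + 1) ≤ 3 * q ^ m := by omega
  have h5 : ((2 + ∑ e ∈ Finset.Icc 1 m, (q ^ e + 1) : ℕ) : ℝ) ≤ 3 * (q : ℝ) ^ m := by exact_mod_cast h4
  refine h5.trans ?_
  have hq' : (2 : ℝ) ≤ q := by exact_mod_cast hq
  have h6 : (q : ℝ) ≤ (4 / 5 * q) ^ 3 := by nlinarith only [hq', sq_nonneg ((q : ℝ) - 2), sq_nonneg (q : ℝ)]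
  have h7 : (1 : ℝ) ≤ 4 / 5 * q := by linarith only [hq']
  have h8 : (q : ℝ) ^ m ≤ (4 / 5 * q) ^ (3 * m + r) := by
    calc (q : ℝ) ^ m ≤ ((4 / 5 * q) ^ 3) ^ m := pow_le_pow_left₀ (by linarith only [hq']) h6 m
      _ = (4 / 5 * q) ^ (3 * m) := by rw [← pow_mul]
      _ ≤ (4 / 5 * q) ^ (3 * m + r) := pow_le_pow_right₀ h7 (by omega)
  rw [mul_pow] at h8
  have h9 : (0 : ℝ) < (4 / 5 : ℝ) ^ (3 * m + r) := by positivity
  linarith only [h5, h8, h9]

end Cfsg.Agent.H59.Bs
end

-- part: H59/Bs/SpMinus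
section
/-!
# S5733, BS07: symplectic blocks of type minus (helper59)
-/

set_option autoImplicit false
set_option linter.unusedSectionVars false

namespace Cfsg.Agent.H59.Bs

open Cfsg.Agent.H847.Bs Module
open scoped IntermediateField

section Equiv

variable {F V V' : Type*} [Field F] [AddCommGroup V] [Module F V] [AddCommGroup V'] [Module F V']

/-- the bilinear form of a symplectic space -/
noncomputable def bil {Φ : Frm F V} (h : IsSp Φ) : LinearMap.BilinForm F V :=
  LinearMap.mk₂ F Φ.B Φ.add_left Φ.smul_left Φ.add_right fun a x y => by rw [Φ.smul_right, h.s, smul_eq_mul]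

theorem bil_alt {Φ : Frm F V} (h : IsSp Φ) : (bil h).IsAlt := fun x => h.alt x

theorem bil_nd {Φ : Frm F V} (h : IsSp Φ) : (bil h).Nondegenerate := by
  constructor
  · intro x hx
    exact h.nd x hx
  · intro x hx
    exact h.nd x fun y => Φ.refl _ _ (hx y)

/-- symplectic spaces of the same dimension are isometric -/
theorem exists_equiv [FiniteDimensional F V] [FiniteDimensional F V'] {Φ : Frm F V} {Φ' : Frm F V'} (h : IsSp Φ)
    (h' : IsSp Φ') (hd : finrank F V = finrank F V') :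
    ∃ e : V ≃ₗ[F] V', (∀ x y, Φ'.B (e x) (e y) = Φ.B x y) ∧ ∀ x, Φ'.q (e x) = Φ.q x := by
  obtain ⟨e, he⟩ := Cfsg.Agent.H177.InvolOrth.exists_alt_equiv (bil h) (bil h') (bil_alt h) (bil_alt h') (bil_nd h)
    (bil_nd h') hd
  exact ⟨e, he, fun x => by rw [h'.q, h.q]⟩

theorem symm_isom {Φ : Frm F V} {Φ' : Frm F V'} {e : V ≃ₗ[F] V'} (hB : ∀ x y, Φ'.B (e x) (e y) = Φ.B x y)
    (hq : ∀ x, Φ'.q (e x) = Φ.q x) : (∀ x y, Φ.B (e.symm x) (e.symm y) = Φ'.B x y) ∧ ∀ x, Φ.q (e.symm x) = Φ'.q x := by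
  refine ⟨fun x y => ?_, fun x => ?_⟩
  · rw [← hB, e.apply_symm_apply, e.apply_symm_apply]
  · rw [← hq, e.apply_symm_apply]

end Equiv

section Field

variable {F L : Type*} [Field F] [Field L] [Algebra F L] [Finite L]

/-- the symplectic form on `L` -/
noncomputable def frmL (τ : L ≃ₐ[F] L) (hτ : ∀ x, τ (τ x) = x) (b : L) : Frm F L where
  B x y := Algebra.trace F L ((b - τ b) * x * τ y)
  q _ := 0
  s a := a
  add_left x y z := by rw [← map_add]; congr 1; ring
  add_right x y z := by rw [← map_add, map_add]; congr 1; ring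
  smul_left a x y := by
    have h : (b - τ b) * (a • x) * τ y = a • ((b - τ b) * x * τ y) := by rw [mul_smul_comm, smul_mul_assoc]
    rw [h, LinearMap.map_smul, smul_eq_mul]
  smul_right a x y := by
    have h : (b - τ b) * x * τ (a • y) = a • ((b - τ b) * x * τ y) := by
      rw [show τ (a • y) = a • τ y from τ.toLinearMap.map_smul a y, mul_smul_comm]
    rw [h, LinearMap.map_smul, smul_eq_mul]
  refl x y h := by
    rw [← Algebra.trace_eq_of_algEquiv τ]
    have h1 : τ ((b - τ b) * y * τ x) = - ((b - τ b) * x * τ y) := by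
      rw [map_mul, map_mul, map_sub, hτ, hτ]
      ring
    rw [h1, map_neg, h, neg_zero]
  q_add _ _ _ := (add_zero _).symm

variable {τ : L ≃ₐ[F] L} {hτ : ∀ x, τ (τ x) = x} {b : L}

theorem trace_nd (h : ∀ y, Algebra.trace F L (b * τ y) = 0) : b = 0 := by
  have hF : Finite F := Finite.of_injective _ (algebraMap F L).injective
  have hfd : FiniteDimensional F L := Module.Finite.of_finite
  refine (traceForm_nondegenerate F L).1 b fun z => ?_
  rw [Algebra.traceForm_apply]
  have := h (τ.symm z)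
  rwa [τ.apply_symm_apply] at this

theorem isSp_frmL (hb : τ b ≠ b) : IsSp (frmL τ hτ b) where
  nd x hx := by
    have h1 := trace_nd (b := (b - τ b) * x) hx
    rcases mul_eq_zero.1 h1 with h2 | h2
    · exact absurd (sub_eq_zero.1 h2).symm hb
    · exact h2
  s _ := rfl
  q _ := rfl
  alt x := by
    show Algebra.trace F L ((b - τ b) * x * τ x) = 0
    have h1 : (b - τ b) * x * τ x = b * (x * τ x) - τ (b * (x * τ x)) := by
      rw [map_mul, map_mul, hτ]
      ring
    rw [h1, map_sub, Algebra.trace_eq_of_algEquiv, sub_self]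

theorem mulE_mem (t : Lˣ) (ht : (t : L) * τ t = 1) : mulE F t ∈ (frmL τ hτ b).Iso := by
  refine ⟨fun x y => ?_, fun _ => rfl⟩
  show Algebra.trace F L ((b - τ b) * (t * x) * τ (t * y)) = Algebra.trace F L ((b - τ b) * x * τ y)
  congr 1
  rw [map_mul]
  calc (b - τ b) * (↑t * x) * (τ ↑t * τ y) = (t * τ t) * ((b - τ b) * x * τ y) := by ring
    _ = _ := by rw [ht, one_mul]

theorem of_mulE_mem (hb : τ b ≠ b) {t : Lˣ} (h : mulE F t ∈ (frmL τ hτ b).Iso) : (t : L) * τ t = 1 := by
  have h1 : ∀ y, Algebra.trace F L ((b - τ b) * (t * τ t - 1) * τ y) = 0 := by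
    intro y
    have h2 : Algebra.trace F L ((b - τ b) * (t * 1) * τ (t * y)) = Algebra.trace F L ((b - τ b) * 1 * τ y) := h.1 1 y
    rw [← sub_eq_zero, ← map_sub] at h2
    rw [← h2]
    congr 1
    rw [map_mul]
    ring
  rcases mul_eq_zero.1 (trace_nd h1) with h2 | h2
  · exact absurd (sub_eq_zero.1 h2).symm hb
  · exact sub_eq_zero.1 h2

/-- the count on `L` -/
theorem minus_L {j : ℕ} (hj : finrank F L = 2 * j) (hj0 : 0 < j) (hτq : ∀ x, τ x = x ^ Nat.card F ^ j) (hb : τ b ≠ b) :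
    ar j / (2 * j) * Nat.card (frmL τ hτ b).Iso ≤ (Nat.card (frmL τ hτ b).Bm : ℝ) := by
  classical
  have hF : Finite F := Finite.of_injective _ (algebraMap F L).injective
  have hfd : FiniteDimensional F L := Module.Finite.of_finite
  have hfe : Finite (L ≃ₗ[F] L) := Finite.of_injective _ DFunLike.coe_injective
  set q := Nat.card F with hq
  have hq2 : 2 ≤ q := Finite.one_lt_card
  set G := (frmL τ hτ b).Iso with hG
  have hTeq : ∀ t : Lˣ, t ^ (q ^ j + 1) = 1 ↔ (t : L) * τ t = 1 := by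
    intro t
    rw [hτq, ← pow_succ', ← Units.val_inj]
    simp only [_root_.Units.val_pow_eq_pow_val, _root_.Units.val_one]
  let T : Set Lˣ := {t | t ^ (q ^ j + 1) = 1}
  let S : Set Lˣ := {t | t ^ (q ^ j + 1) = 1 ∧ F⟮(t : L)⟯ = ⊤}
  let E : Set (L ≃ₗ[F] L) := (mulE F) '' S
  have hES : Nat.card E = Nat.card S := Nat.card_image_of_injective mulE_injective S
  have key := card_pairs G E (frmL τ hτ b).Bm (2 * j * Nat.card T) (by
      rintro _ ⟨t, ht, rfl⟩
      have h1 := card_conj_le G T (fun c hc => (hTeq c).2 (of_mulE_mem hb hc)) ht.2 E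
        (by rintro _ ⟨u, _, rfl⟩; exact ⟨u, rfl⟩)
      rwa [hj] at h1) (by
      rintro g hg _ ⟨t, ht, rfl⟩
      refine ⟨G.mul_mem (G.mul_mem hg (mulE_mem t ((hTeq t).1 ht.1))) (G.inv_mem hg), ?_⟩
      have h2 := Irr_cj (e := g) (irr_mulE ht.2)
      rw [Submodule.map_top, LinearMap.range_eq_top.2 g.surjective] at h2
      exact h2)
  rw [hES] at key
  have hL : Nat.card L = (q ^ j) ^ 2 := by
    rw [Module.natCard_eq_pow_finrank (K := F), hj, ← pow_mul, mul_comm 2 j]
  have hQ1 : 1 < q ^ j := Nat.one_lt_pow hj0.ne' hq2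
  have hT : q ^ j + 1 ≤ Nat.card T := card_tor hQ1 hL
  have hbad := card_bad (F := F) (L := L) hj hj0
  have hsplit : Nat.card T ≤ Nat.card S + Nat.card {t : Lˣ // t ^ (q ^ j + 1) = 1 ∧ F⟮(t : L)⟯ ≠ ⊤} := by
    have h3 : T = S ∪ {t | t ^ (q ^ j + 1) = 1 ∧ F⟮(t : L)⟯ ≠ ⊤} := by
      ext t
      constructor
      · intro ht
        by_cases h : F⟮(t : L)⟯ = ⊤
        · exact Or.inl ⟨ht, h⟩
        · exact Or.inr ⟨ht, h⟩
      · rintro (h | h)
        · exact h.1
        · exact h.1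
    rw [h3]
    exact Set.ncard_union_le _ _
  have hnum := num (j := j) hq2
  have hSr : ar j * Nat.card T ≤ (Nat.card S : ℝ) := by
    have h4 : (Nat.card T : ℝ) ≤ Nat.card S + (16 * (4 / 5 : ℝ) ^ j * (q ^ j + 1)) := by
      have h5 : (Nat.card T : ℝ) ≤ Nat.card S + ((2 + ∑ e ∈ Finset.Icc 1 (j / 3), (q ^ e + 1) : ℕ) : ℝ) := by
        exact_mod_cast hsplit.trans (Nat.add_le_add_left hbad _)
      linarith only [hnum, h5]
    have h6 : (16 * (4 / 5 : ℝ) ^ j * (q ^ j + 1)) ≤ 16 * (4 / 5 : ℝ) ^ j * Nat.card T := by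
      apply mul_le_mul_of_nonneg_left _ (by positivity)
      exact_mod_cast hT
    unfold ar
    linarith only [h4, h6]
  have hTpos : (0 : ℝ) < Nat.card T := by
    have : 0 < Nat.card T := by omega
    exact_mod_cast this
  have hjpos : (0 : ℝ) < j := by exact_mod_cast hj0
  have keyr : (Nat.card G : ℝ) * Nat.card S ≤ Nat.card (frmL τ hτ b).Bm * (2 * j * Nat.card T) := by exact_mod_cast key
  have h7 : (Nat.card G : ℝ) * (ar j * Nat.card T) ≤ Nat.card (frmL τ hτ b).Bm * (2 * j * Nat.card T) :=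
    (mul_le_mul_of_nonneg_left hSr (Nat.cast_nonneg _)).trans keyr
  rw [div_mul_eq_mul_div, div_le_iff₀ (by positivity)]
  have h8 : (ar j * Nat.card G) * Nat.card T ≤ (Nat.card (frmL τ hτ b).Bm * (2 * j)) * Nat.card T := by
    calc (ar j * Nat.card G) * Nat.card T = (Nat.card G : ℝ) * (ar j * Nat.card T) := by ring
      _ ≤ _ := h7
      _ = _ := by ring
  exact le_of_mul_le_mul_right h8 hTpos

end Field

/-- **blocks of type minus, symplectic case** -/
theorem sp_minus {F V : Type*} [Field F] [Finite F] [AddCommGroup V] [Module F V] [FiniteDimensional F V] {Φ : Frm F V}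
    (hΦ : IsSp Φ) {j : ℕ} (hj : 1 ≤ j) (hd : finrank F V = 2 * j) :
    ar j / (2 * j) * Nat.card Φ.Iso ≤ (Nat.card Φ.Bm : ℝ) := by
  obtain ⟨p, hp⟩ := CharP.exists F
  have hpp : Fact p.Prime := ⟨(CharP.char_is_prime_or_zero F p).resolve_right (CharP.char_ne_zero_of_finite F p)⟩
  have hnz : NeZero (2 * j) := ⟨by omega⟩
  let L := FiniteField.Extension F p (2 * j)
  let τ : L ≃ₐ[F] L := FiniteField.Extension.frob F p (2 * j) ^ j
  have hLf : finrank F L = 2 * j := FiniteField.finrank_extension F p (2 * j)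
  have hLc : Nat.card L = Nat.card F ^ (2 * j) := FiniteField.natCard_extension F p (2 * j)
  have hτq : ∀ x, τ x = x ^ Nat.card F ^ j := fun x => FiniteField.Extension.frob_iterate_apply F p (2 * j) j
  have hττ : ∀ x, τ (τ x) = x := by
    intro x
    have := Fintype.ofFinite L
    rw [hτq, hτq, ← pow_mul, ← pow_add, ← two_mul, ← hLc, Nat.card_eq_fintype_card]
    exact FiniteField.pow_card x
  have hq2 : 2 ≤ Nat.card F := Finite.one_lt_card
  obtain ⟨b, hb⟩ : ∃ b, τ b ≠ b := by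
    by_contra hno
    push Not at hno
    have h1 : ∀ x : Lˣ, x ^ (Nat.card F ^ j - 1) = 1 := by
      intro x
      have h2 := hno x
      rw [hτq] at h2
      apply Units.ext
      rw [Units.val_pow_eq_pow_val, Units.val_one]
      have h3 : (x : L) ^ Nat.card F ^ j = x ^ (Nat.card F ^ j - 1) * x := by
        rw [← pow_succ, Nat.sub_add_cancel (Nat.one_le_pow _ _ (by omega))]
      rw [h3] at h2
      exact mul_right_cancel₀ x.ne_zero (by rw [h2, one_mul])
    have h4 := card_pow_le (L := L) (Nat.card F ^ j - 1) (by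
      have := Nat.one_lt_pow (n := j) (by omega) hq2
      omega)
    have h5 : Nat.card {t : Lˣ // t ^ (Nat.card F ^ j - 1) = 1} = Nat.card Lˣ :=
      Nat.card_congr (Equiv.subtypeUnivEquiv h1)
    rw [h5, Nat.card_units, hLc] at h4
    have h6 : Nat.card F ^ j < Nat.card F ^ (2 * j) := Nat.pow_lt_pow_right hq2 (by omega)
    have h7 := Nat.one_le_pow j (Nat.card F) (by omega)
    omega
  have hsp : IsSp (frmL τ hττ b) := isSp_frmL hb
  have hfd : FiniteDimensional F L := Module.Finite.of_finite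
  have hV : Finite V := Module.finite_of_finite F
  obtain ⟨e, he, hq⟩ := exists_equiv hΦ hsp (hd.trans hLf.symm)
  obtain ⟨he', hq'⟩ := symm_isom he hq
  have h1 := minus_L (F := F) (L := L) (hτ := hττ) hLf (by omega) hτq hb
  have h2 : Nat.card Φ.Iso ≤ Nat.card (frmL τ hττ b).Iso := card_Iso_le he hq
  have h3 : Nat.card (frmL τ hττ b).Bm ≤ Nat.card Φ.Bm := by
    have hfe : Finite (V ≃ₗ[F] V) := Finite.of_injective _ DFunLike.coe_injective
    exact Nat.card_le_card_of_injective (fun x => (⟨cj e.symm x.1, Bm_cj he' hq' x.2⟩ : Φ.Bm))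
      fun _ _ h => Subtype.ext (cj_injective e.symm (congrArg Subtype.val h))
  by_cases har : ar j ≤ 0
  · refine le_trans ?_ (Nat.cast_nonneg _)
    exact mul_nonpos_of_nonpos_of_nonneg (div_nonpos_of_nonpos_of_nonneg har (by positivity)) (Nat.cast_nonneg _)
  · push Not at har
    calc ar j / (2 * j) * (Nat.card Φ.Iso : ℝ) ≤ ar j / (2 * j) * Nat.card (frmL τ hττ b).Iso :=
          mul_le_mul_of_nonneg_left (by exact_mod_cast h2) (by (clear * - hj har; positivity))
      _ ≤ _ := h1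
      _ ≤ _ := by exact_mod_cast h3

end Cfsg.Agent.H59.Bs
end

private theorem dce_d790f5cb38b7 : _root_.True := by
  try have : _root_.True := by simp only [_root_.Cfsg.Agent.H59.Bs.frmL.congr_simp]
  try have : _root_.True := by simp only [_root_.Cfsg.Agent.H59.Bs.cj.eq_1]
  exact _root_.True.intro
end

-- part: H447/Bs/OMinus
section
prune_inst 0x10407500050002000000050422001c44f2000422004b8400842002800ec00a8240c20e21b5b024114aa608844834000811880020020000000a200400011c01800080100430000000020018000000000000000000310000000000000000000000000000000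
set_option linter.all false
open scoped Cfsg.Agent.FastGrp

-- part: H39/Bs/Norm
section
/-!
# S5733, BS08 (helper39): the norm form of a quadratic extension and its trace form (minus type)

* `qN K L` : the norm form of a quadratic extension `L / K` of finite fields, a quadratic form over `K`;
* `sg_qN` : it has sign `-1`;
* `not_pl_of_sg` : a form of sign `-1` is not of plus type.
-/

set_option autoImplicit false

namespace Cfsg.Agent.H39.Bs

open QuadraticMap Module
open Cfsg.Agent.LieClassical.OrthCore Cfsg.Agent.LieClassical.OrthForms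
open Cfsg.Agent.H403.Classify Cfsg.Agent.H182.Sign

section Norm

variable {K L : Type*} [Field K] [Field L] [Finite L] [Algebra K L]

theorem fin_base (K L : Type*) [Field K] [Field L] [Finite L] [Algebra K L] : Finite K :=
  Finite.of_injective _ (algebraMap K L).injective

theorem add_pow_card (x y : L) : (x + y) ^ Nat.card K = x ^ Nat.card K + y ^ Nat.card K := by
  have := fin_base K L
  have := Fintype.ofFinite K
  have h := map_add (FiniteField.frobeniusAlgEquivOfAlgebraic K L) x y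
  simp only [FiniteField.coe_frobeniusAlgEquivOfAlgebraic] at h
  rw [Nat.card_eq_fintype_card]
  exact h

variable (h2 : finrank K L = 2)

include h2

theorem norm_two (x : L) : algebraMap K L (Algebra.norm K x) = x * x ^ Nat.card K := by
  rw [FiniteField.algebraMap_norm_eq_prod_pow, h2, Finset.prod_range_succ, Finset.prod_range_one, pow_zero,
    pow_one, pow_one]

theorem trace_two (x : L) : algebraMap K L (Algebra.trace K L x) = x + x ^ Nat.card K := by
  rw [FiniteField.algebraMap_trace_eq_sum_pow, h2, Finset.sum_range_succ, Finset.sum_range_one, pow_zero,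
    pow_one, pow_one]

theorem pow_card_card (x : L) : (x ^ Nat.card K) ^ Nat.card K = x := by
  have := fin_base K L
  have := Fintype.ofFinite L
  have h3 : Nat.card L = Nat.card K ^ 2 := by rw [Module.natCard_eq_pow_finrank (K := K), h2]
  rw [← pow_mul, ← pow_two, ← h3, Nat.card_eq_fintype_card, FiniteField.pow_card]

theorem norm_add (x y : L) : Algebra.norm K (x + y) =
    Algebra.norm K x + Algebra.norm K y + Algebra.trace K L (x * y ^ Nat.card K) := by
  apply (algebraMap K L).injective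
  rw [(algebraMap K L).map_add, (algebraMap K L).map_add, norm_two h2, norm_two h2, norm_two h2, trace_two h2,
    add_pow_card, mul_pow, pow_card_card h2]
  ring

theorem polar_norm (x y : L) : polar (fun z : L => Algebra.norm K z) x y = Algebra.trace K L (x * y ^ Nat.card K) := by
  rw [polar, norm_add h2]
  ring

omit h2 in
/-- the norm form -/
noncomputable def qN (h2 : finrank K L = 2) : QuadraticForm K L :=
  QuadraticMap.ofPolar (fun x => Algebra.norm K x)
    (fun a x => by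
      have := fin_base K L
      rw [Algebra.smul_def, map_mul, Algebra.norm_algebraMap, h2, smul_eq_mul, pow_two])
    (fun x x' y => by rw [polar_norm h2, polar_norm h2, polar_norm h2, add_mul, map_add])
    (fun a x y => by rw [polar_norm h2, polar_norm h2, smul_mul_assoc, map_smul])

theorem qN_apply (x : L) : qN h2 x = Algebra.norm K x := rfl

theorem polar_qN (x y : L) : polar (qN h2) x y = Algebra.trace K L (x * y ^ Nat.card K) := polar_norm h2 x y

theorem sg_qN [Finite K] : Sg (qN h2) 1 (-1) := by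
  have han : ∀ x : L, x ≠ 0 → qN h2 x ≠ 0 := by
    intro x hx h
    rw [qN_apply] at h
    exact hx (Algebra.norm_eq_zero_iff.1 h)
  obtain ⟨a, b, hab, e, he⟩ := isMinus_of_aniso (qN h2) h2 han
  exact (sg_minusForm 0 hab).congr e he

end Norm

/-- a form of sign `-1` is not of plus type -/
theorem not_pl_of_sg {F V : Type*} [Field F] [Finite F] [AddCommGroup V] [Module F V] [Finite V]
    {Q : QuadraticForm F V} {n : ℕ} (h : Sg Q n (-1)) : ¬ Cfsg.Agent.H932.Pl Q := by
  intro hpl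
  have hpl' : Cfsg.Agent.H932.Pl (plusForm n F) := by
    let ι : (Fin n → F) →ₗ[F] (Fin n ⊕ Fin n → F) :=
      (LinearEquiv.sumArrowLequivProdArrow (Fin n) (Fin n) F F).symm.toLinearMap ∘ₗ LinearMap.inl F _ _
    have hι : Function.Injective ι :=
      (LinearEquiv.sumArrowLequivProdArrow (Fin n) (Fin n) F F).symm.injective.comp LinearMap.inl_injective
    refine ⟨LinearMap.range ι, ?_, ?_⟩
    · rintro _ ⟨w, rfl⟩
      have h1 : ∀ i, ι w (.inr i) = 0 := fun i => rfl
      show (⇑(plusForm n F)) (ι w) = 0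
      rw [coe_plusForm, quadFormPlus_apply]
      simp only [h1, mul_zero, Finset.sum_const_zero]
    · rw [LinearMap.finrank_range_of_inj hι, (sg_plusForm n).dim, Module.finrank_fin_fun]
  obtain ⟨e, he⟩ := Cfsg.Agent.H932.exists_isometry h.nondeg (nondeg_plusForm (F := F) n)
    ⟨n, by rw [h.dim, two_mul]⟩ (by rw [h.dim, (sg_plusForm n).dim]) ⟨fun _ => hpl', fun _ => hpl⟩
  have h1 := h.sign.congr e.toEquiv he
  have h2 := (h1.unique (hasSign_plusForm n) (Or.inr rfl) (Or.inl rfl)).2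
  norm_num at h2

end Cfsg.Agent.H39.Bs
end

-- part: H447/Bs/OMinus
section
/-!
# S5733, BS08 (a): orthogonal blocks of type minus (helper447)

The number of irreducible isometries in `nQ Q` of a nondegenerate quadratic form `Q` of minus type in dimension `2j` over a finite field is
at least `ar j / (2 j)` times the order of the orthogonal group.
-/

set_option autoImplicit false
set_option linter.unusedSectionVars false

namespace Cfsg.Agent.H447.Bs

open Cfsg.Agent.H847.Bs Cfsg.Agent.H59.Bs Cfsg.Agent.H39.Bs Module QuadraticMap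
open Cfsg.Agent.LieClassical.OrthCore Cfsg.Agent.LieClassical.OrthTrans Cfsg.Agent.H182.Sign
open scoped IntermediateField

section Transport

variable {F V V' : Type*} [Field F] [AddCommGroup V] [Module F V] [AddCommGroup V'] [Module F V']
  {Q : QuadraticForm F V} {Q' : QuadraticForm F V'} {e : V ≃ₗ[F] V'}

theorem polar_e (he : ∀ v, Q' (e v) = Q v) (x y : V) : polar Q' (e x) (e y) = polar Q x y := by
  rw [polar, polar, ← map_add, he, he, he]

theorem cj_mul (x y : V ≃ₗ[F] V) : cj e (x * y) = cj e x * cj e y := by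
  ext v
  simp only [cj, _root_.LinearEquiv.trans_apply, _root_.LinearEquiv.mul_apply, _root_.LinearEquiv.symm_apply_apply]

theorem cj_one : cj e (1 : V ≃ₗ[F] V) = 1 := by
  ext v
  simp [cj]

theorem cj_inv (x : V ≃ₗ[F] V) : cj e x⁻¹ = (cj e x)⁻¹ := by
  rw [eq_inv_iff_mul_eq_one, ← cj_mul, inv_mul_cancel, cj_one]

theorem cj_mem_E (he : ∀ v, Q' (e v) = Q v) {g : V ≃ₗ[F] V} (hg : g ∈ E Q) : cj e g ∈ E Q' := by
  induction hg using Subgroup.closure_induction with
  | mem x hx =>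
    obtain ⟨u, w, hu, hw, rfl⟩ := hx
    have hu' : Q' (e u) = 0 := by rw [he, hu]
    have hw' : polar Q' (e u) (e w) = 0 := by rw [polar_e he, hw]
    have h1 : cj e (siegel Q u w hu hw) = siegel Q' (e u) (e w) hu' hw' := by
      refine LinearEquiv.ext fun v => ?_
      obtain ⟨v, rfl⟩ := e.surjective v
      rw [cj_apply, siegel_apply, siegel_apply, polar_e he, polar_e he, he]
      simp only [map_add, map_sub, map_smul]
    rw [h1]
    exact siegel_mem_E hu' hw'
  | one => rw [cj_one]; exact one_mem _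
  | mul x y _ _ hx hy => rw [cj_mul]; exact mul_mem hx hy
  | inv x _ hx => rw [cj_inv]; exact inv_mem hx

theorem cj_mem_O (he : ∀ v, Q' (e v) = Q v) {g : V ≃ₗ[F] V} (hg : g ∈ O Q) : cj e g ∈ O Q' := by
  intro v
  obtain ⟨v, rfl⟩ := e.surjective v
  rw [cj_apply, he, he, mem_O.1 hg]

theorem cj_mem_sl {g : V ≃ₗ[F] V} (hg : g ∈ slV F V) : cj e g ∈ slV F V' := by
  have h1 : ((cj e g : V' ≃ₗ[F] V') : V' →ₗ[F] V') = (e : V →ₗ[F] V') ∘ₗ (g : V →ₗ[F] V) ∘ₗ (e.symm : V' →ₗ[F] V) := rfl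
  show LinearMap.det _ = 1
  rw [h1, LinearMap.det_conj]
  exact hg

/-- transport of `nQ` -/
theorem cj_mem_nQ (he : ∀ v, Q' (e v) = Q v) {g : V ≃ₗ[F] V} (hg : g ∈ nQ Q) : cj e g ∈ nQ Q' := by
  unfold nQ at hg ⊢
  split_ifs at hg ⊢ with h
  · exact cj_mem_E he hg
  · exact ⟨cj_mem_O he hg.1, cj_mem_sl hg.2⟩

/-- `nQ` is normalised by the orthogonal group -/
theorem conj_mem_nQ {g h : V ≃ₗ[F] V} (hg : g ∈ O Q) (hh : h ∈ nQ Q) : g * h * g⁻¹ ∈ nQ Q := by
  have h1 : g * h * g⁻¹ = cj g h := by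
    refine LinearEquiv.ext fun v => ?_
    obtain ⟨v, rfl⟩ := g.surjective v
    rw [cj_apply, LinearEquiv.mul_apply, LinearEquiv.mul_apply]
    congr 2
    exact g.symm_apply_apply v
  rw [h1]
  exact cj_mem_nQ (fun v => hg v) hh

theorem mem_Iso_frmQ {g : V ≃ₗ[F] V} : g ∈ (frmQ Q).Iso ↔ g ∈ O Q := by
  constructor
  · intro h
    exact h.2
  · intro h
    exact ⟨fun x y => polar_map h x y, h⟩

end Transport

section Field

variable {F K L : Type*} [Field F] [Field K] [Field L] [Finite L] [Algebra F K] [Algebra K L] [Algebra F L]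
  [IsScalarTower F K L] (h2 : finrank K L = 2)

theorem qM_apply (x : L) : traceForm F (qN h2) x = Algebra.trace F K (Algebra.norm K x) := rfl

theorem polar_qM (x y : L) : polar (traceForm F (qN h2)) x y = Algebra.trace F L (x * y ^ Nat.card K) := by
  have h0 : ∀ z, traceForm F (qN h2) z = Algebra.trace F K (qN h2 z) := fun _ => rfl
  have h1 : polar (traceForm F (qN h2)) x y = Algebra.trace F K (polar (qN h2) x y) := by
    rw [polar, polar, h0, h0, h0, map_sub, map_sub]
  have hK : Finite K := fin_base K L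
  have hfK : FiniteDimensional F K := Module.Finite.of_finite
  have hfL : FiniteDimensional K L := Module.Finite.of_finite
  rw [h1, polar_qN, Algebra.trace_trace]

include h2 in
theorem norm_eq_one {t : Lˣ} (ht : t ^ (Nat.card K + 1) = 1) : Algebra.norm K (t : L) = 1 := by
  apply (algebraMap K L).injective
  rw [norm_two h2, map_one, ← pow_succ', ← Units.val_pow_eq_pow_val, ht, Units.val_one]

theorem mulE_mem_O {t : Lˣ} (ht : t ^ (Nat.card K + 1) = 1) : mulE F t ∈ O (traceForm F (qN h2)) := by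
  intro x
  rw [qM_apply, qM_apply, mulE_apply, map_mul, norm_eq_one h2 ht, one_mul]

theorem pow_eq_of_mulE_mem {t : Lˣ} (h : mulE F t ∈ O (traceForm F (qN h2))) : t ^ (Nat.card K + 1) = 1 := by
  have hF : Finite F := Finite.of_injective _ (algebraMap F L).injective
  have hfd : FiniteDimensional F L := Module.Finite.of_finite
  have h1 : ∀ y : L, Algebra.trace F L (((t : L) * t ^ Nat.card K - 1) * y) = 0 := by
    intro y
    obtain ⟨z, rfl⟩ : ∃ z : L, z ^ Nat.card K = y := ⟨y ^ Nat.card K, pow_card_card h2 y⟩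
    have h3 := polar_map h 1 z
    rw [polar_qM, polar_qM, mulE_apply, mulE_apply, mul_one, one_mul, mul_pow] at h3
    rw [← sub_eq_zero, ← map_sub] at h3
    rw [← h3]
    congr 1
    ring
  have h4 : (t : L) * t ^ Nat.card K - 1 = 0 := by
    refine (traceForm_nondegenerate F L).1 _ fun z => ?_
    rw [Algebra.traceForm_apply]
    exact h1 z
  apply Units.ext
  rw [Units.val_pow_eq_pow_val, pow_succ', Units.val_one]
  exact sub_eq_zero.1 h4

include h2 in
theorem mulE_mem_sl {t : Lˣ} (ht : t ^ (Nat.card K + 1) = 1) : mulE F t ∈ slV F L := by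
  have hK : Finite K := fin_base K L
  have hF : Finite F := Finite.of_injective _ (algebraMap F L).injective
  have hfK : FiniteDimensional F K := Module.Finite.of_finite
  have hfL : FiniteDimensional K L := Module.Finite.of_finite
  show LinearMap.det ((mulE F t : L ≃ₗ[F] L) : L →ₗ[F] L) = 1
  have h1 : ((mulE F t : L ≃ₗ[F] L) : L →ₗ[F] L) = Algebra.lmul F L (t : L) := by
    ext; rfl
  rw [h1, ← Algebra.norm_apply, ← Algebra.norm_norm (S := K), norm_eq_one h2 ht, map_one]

theorem mulE_mul (s t : Lˣ) : mulE F (s * t) = mulE F s * mulE F t := by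
  refine LinearEquiv.ext fun x => ?_
  rw [LinearEquiv.mul_apply, mulE_apply, mulE_apply, mulE_apply, Units.val_mul, mul_assoc]

theorem mulE_mem_nQ (hG : (2 : F) = 0 → Good (traceForm F (qN h2))) {t : Lˣ} (ht : t ^ (Nat.card K + 1) = 1) :
    mulE F t ∈ nQ (traceForm F (qN h2)) := by
  have hK : Finite K := fin_base K L
  have hF : Finite F := Finite.of_injective _ (algebraMap F L).injective
  have hfd : FiniteDimensional F L := Module.Finite.of_finite
  unfold nQ
  split_ifs with h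
  · -- squares
    have hodd : Even (Nat.card K) := by
      have h3 : (2 : K) = 0 := by rw [← map_ofNat (algebraMap F K) 2, h, map_zero]
      have h4 : addOrderOf (1 : K) = 2 := by
        apply addOrderOf_eq_prime
        · rw [nsmul_one]
          exact h3
        · exact one_ne_zero
      exact even_iff_two_dvd.2 (h4 ▸ addOrderOf_dvd_natCard (1 : K))
    obtain ⟨m, hm⟩ := hodd
    have h3 : t = (t ^ (m + 1)) * (t ^ (m + 1)) := by
      rw [← pow_add, show m + 1 + (m + 1) = (Nat.card K + 1) + 1 by omega, pow_succ, ht, one_mul]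
    rw [h3, mulE_mul]
    refine Cfsg.Agent.H749.sq_mem_E (hG h) (mulE_mem_O h2 ?_)
    rw [← pow_mul, mul_comm, pow_mul, ht, one_pow]
  · exact ⟨mulE_mem_O h2 ht, mulE_mem_sl h2 ht⟩

/-- the count on `L` -/
theorem minus_L (hG : (2 : F) = 0 → Good (traceForm F (qN h2))) {j : ℕ} (hj : finrank F L = 2 * j) (hj0 : 0 < j)
    (hK : Nat.card K = Nat.card F ^ j) :
    ar j / (2 * j) * Nat.card (frmQ (traceForm F (qN h2))).Iso ≤
      (Nat.card {x // x ∈ (frmQ (traceForm F (qN h2))).Bm ∧ x ∈ nQ (traceForm F (qN h2))} : ℝ) := by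
  classical
  have hF : Finite F := Finite.of_injective _ (algebraMap F L).injective
  have hfd : FiniteDimensional F L := Module.Finite.of_finite
  have hfe : Finite (L ≃ₗ[F] L) := Finite.of_injective _ DFunLike.coe_injective
  set q := Nat.card F with hq
  have hq2 : 2 ≤ q := Finite.one_lt_card
  set G := (frmQ (traceForm F (qN h2))).Iso with hG'
  set B : Set (L ≃ₗ[F] L) := {x | x ∈ (frmQ (traceForm F (qN h2))).Bm ∧ x ∈ nQ (traceForm F (qN h2))} with hB
  have hBc : Nat.card {x // x ∈ (frmQ (traceForm F (qN h2))).Bm ∧ x ∈ nQ (traceForm F (qN h2))} = Nat.card B := rfl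
  rw [hBc]
  let T : Set Lˣ := {t | t ^ (q ^ j + 1) = 1}
  let S : Set Lˣ := {t | t ^ (q ^ j + 1) = 1 ∧ F⟮(t : L)⟯ = ⊤}
  let E : Set (L ≃ₗ[F] L) := (mulE F) '' S
  have hES : Nat.card E = Nat.card S := Nat.card_image_of_injective mulE_injective S
  have hTK : ∀ {t : Lˣ}, t ^ (q ^ j + 1) = 1 → t ^ (Nat.card K + 1) = 1 := fun h => by rwa [hK]
  have key := card_pairs G E B (2 * j * Nat.card T) (by
      rintro _ ⟨t, ht, rfl⟩
      have h1 := card_conj_le G T (fun c hc => by
        have h3 := pow_eq_of_mulE_mem h2 (mem_Iso_frmQ.1 hc)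
        rw [hK] at h3
        exact h3) ht.2 E (by rintro _ ⟨u, _, rfl⟩; exact ⟨u, rfl⟩)
      rwa [hj] at h1) (by
      rintro g hg _ ⟨t, ht, rfl⟩
      have hO := mulE_mem_O (F := F) h2 (hTK ht.1)
      refine ⟨⟨G.mul_mem (G.mul_mem hg (mem_Iso_frmQ.2 hO)) (G.inv_mem hg), ?_⟩, ?_⟩
      · have h3 := Irr_cj (e := g) (irr_mulE ht.2)
        rw [Submodule.map_top, LinearMap.range_eq_top.2 g.surjective] at h3
        exact h3
      · exact conj_mem_nQ (mem_Iso_frmQ.1 hg) (mulE_mem_nQ h2 hG (hTK ht.1)))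
  rw [hES] at key
  have hL : Nat.card L = (q ^ j) ^ 2 := by
    rw [Module.natCard_eq_pow_finrank (K := F), hj, ← pow_mul, mul_comm 2 j]
  have hQ1 : 1 < q ^ j := Nat.one_lt_pow hj0.ne' hq2
  have hT : q ^ j + 1 ≤ Nat.card T := card_tor hQ1 hL
  have hbad := card_bad (F := F) (L := L) hj hj0
  have hsplit : Nat.card T ≤ Nat.card S + Nat.card {t : Lˣ // t ^ (q ^ j + 1) = 1 ∧ F⟮(t : L)⟯ ≠ ⊤} := by
    have h3 : T = S ∪ {t | t ^ (q ^ j + 1) = 1 ∧ F⟮(t : L)⟯ ≠ ⊤} := by
      ext t
      constructor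
      · intro ht
        by_cases h : F⟮(t : L)⟯ = ⊤
        · exact Or.inl ⟨ht, h⟩
        · exact Or.inr ⟨ht, h⟩
      · rintro (h | h)
        · exact h.1
        · exact h.1
    rw [h3]
    exact Set.ncard_union_le _ _
  have hnum := num (j := j) hq2
  have hSr : ar j * Nat.card T ≤ (Nat.card S : ℝ) := by
    have h4 : (Nat.card T : ℝ) ≤ Nat.card S + (16 * (4 / 5 : ℝ) ^ j * (q ^ j + 1)) := by
      have h5 : (Nat.card T : ℝ) ≤ Nat.card S + ((2 + ∑ e ∈ Finset.Icc 1 (j / 3), (q ^ e + 1) : ℕ) : ℝ) := by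
        exact_mod_cast hsplit.trans (Nat.add_le_add_left hbad _)
      linarith only [hnum, h5]
    have h6 : (16 * (4 / 5 : ℝ) ^ j * (q ^ j + 1)) ≤ 16 * (4 / 5 : ℝ) ^ j * Nat.card T := by
      apply mul_le_mul_of_nonneg_left _ (by positivity)
      exact_mod_cast hT
    unfold ar
    linarith only [h4, h6]
  have hTpos : (0 : ℝ) < Nat.card T := by
    have : 0 < Nat.card T := by omega
    exact_mod_cast this
  have hjpos : (0 : ℝ) < j := by exact_mod_cast hj0
  have keyr : (Nat.card G : ℝ) * Nat.card S ≤ Nat.card B * (2 * j * Nat.card T) := by exact_mod_cast key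
  have h7 : (Nat.card G : ℝ) * (ar j * Nat.card T) ≤ Nat.card B * (2 * j * Nat.card T) :=
    (mul_le_mul_of_nonneg_left hSr (Nat.cast_nonneg _)).trans keyr
  rw [div_mul_eq_mul_div, div_le_iff₀ (by positivity)]
  have h8 : (ar j * Nat.card G) * Nat.card T ≤ (Nat.card B * (2 * j)) * Nat.card T := by
    calc (ar j * Nat.card G) * Nat.card T = (Nat.card G : ℝ) * (ar j * Nat.card T) := by ring
      _ ≤ _ := h7
      _ = _ := by ring
  exact le_of_mul_le_mul_right h8 hTpos

end Field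

theorem pl_iff {F V : Type*} [Field F] [AddCommGroup V] [Module F V] {Q : QuadraticForm F V} :
    Cfsg.Agent.H932.Pl Q ↔ PlusT Q := by
  constructor
  · rintro ⟨A, hA, hd⟩
    refine ⟨A, ⟨fun x hx y hy => ?_, hA⟩, hd⟩
    show polar Q x y = 0
    rw [polar, hA _ (A.add_mem hx hy), hA _ hx, hA _ hy]
    simp
  · rintro ⟨A, hA, hd⟩
    exact ⟨A, hA.2, hd⟩

/-- **blocks of type minus, orthogonal case** -/
theorem o_minus {F V : Type*} [Field F] [Finite F] [AddCommGroup V] [Module F V] [FiniteDimensional F V]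
    {Q : QuadraticForm F V} (hQ : Nondeg Q) (hmin : ¬ PlusT Q) {j : ℕ} (hj : 1 ≤ j) (hd : finrank F V = 2 * j) :
    ar j / (2 * j) * Nat.card (frmQ Q).Iso ≤ (Nat.card {x // x ∈ (frmQ Q).Bm ∧ x ∈ nQ Q} : ℝ) := by
  by_cases har : ar j ≤ 0
  · refine le_trans ?_ (Nat.cast_nonneg _)
    exact mul_nonpos_of_nonpos_of_nonneg (div_nonpos_of_nonpos_of_nonneg har (by positivity)) (Nat.cast_nonneg _)
  push Not at har
  have hj3 : 3 ≤ j := by
    by_contra hlt
    have hj12 : j = 1 ∨ j = 2 := by omega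
    unfold ar at har
    rcases hj12 with rfl | rfl <;> norm_num at har
  obtain ⟨p, hp⟩ := CharP.exists F
  have hpp : Fact p.Prime := ⟨(CharP.char_is_prime_or_zero F p).resolve_right (CharP.char_ne_zero_of_finite F p)⟩
  have hnz : NeZero j := ⟨by omega⟩
  let K := FiniteField.Extension F p j
  have hcK : CharP K p := charP_of_injective_algebraMap (algebraMap F K).injective p
  let L := FiniteField.Extension K p 2
  let _ : Algebra F L := ((algebraMap K L).comp (algebraMap F K)).toAlgebra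
  have htower : IsScalarTower F K L := IsScalarTower.of_algebraMap_eq' rfl
  have hKf : finrank F K = j := FiniteField.finrank_extension F p j
  have h2 : finrank K L = 2 := FiniteField.finrank_extension K p 2
  have hKc : Nat.card K = Nat.card F ^ j := FiniteField.natCard_extension F p j
  have hfL : FiniteDimensional F L := Module.Finite.of_finite
  have hfK : FiniteDimensional F K := Module.Finite.of_finite
  have hLf : finrank F L = 2 * j := by rw [← Module.finrank_mul_finrank F K L, hKf, h2, mul_comm]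
  have hsg : Sg (traceForm F (qN h2)) (finrank F K * 1) (-1) := (sg_qN h2).res
  have hV : Finite V := Module.finite_of_finite F
  obtain ⟨e, he⟩ := Cfsg.Agent.H932.exists_isometry hQ hsg.nondeg ⟨j, by rw [hd, two_mul]⟩ (hd.trans hLf.symm)
    (iff_of_false (fun h => hmin (pl_iff.1 h)) (not_pl_of_sg hsg))
  have he' : ∀ v, Q (e.symm v) = traceForm F (qN h2) v := fun v => by rw [← he, e.apply_symm_apply]
  have hG : (2 : F) = 0 → Good (traceForm F (qN h2)) := fun _ =>
    Cfsg.Agent.LieClassical.OrthFinite.good_of_finite hsg.nondeg (by omega)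
  have h1 := minus_L (F := F) (K := K) (L := L) h2 hG hLf (by omega) hKc
  have h3 : Nat.card (frmQ Q).Iso ≤ Nat.card (frmQ (traceForm F (qN h2))).Iso :=
    card_Iso_le (e := e) (polar_e he) he
  have h4 : Nat.card {x // x ∈ (frmQ (traceForm F (qN h2))).Bm ∧ x ∈ nQ (traceForm F (qN h2))} ≤
      Nat.card {x // x ∈ (frmQ Q).Bm ∧ x ∈ nQ Q} := by
    have hfe : Finite (V ≃ₗ[F] V) := Finite.of_injective _ DFunLike.coe_injective
    exact Nat.card_le_card_of_injective (fun x => ⟨cj e.symm x.1, Bm_cj (polar_e he') he' x.2.1, cj_mem_nQ he' x.2.2⟩)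
      fun _ _ h => Subtype.ext (cj_injective e.symm (congrArg Subtype.val h))
  have hjpos : (0 : ℝ) < j := by exact_mod_cast hj
  calc ar j / (2 * j) * (Nat.card (frmQ Q).Iso : ℝ) ≤ ar j / (2 * j) * Nat.card (frmQ (traceForm F (qN h2))).Iso :=
        mul_le_mul_of_nonneg_left (by exact_mod_cast h3) (by positivity)
    _ ≤ _ := h1
    _ ≤ _ := by exact_mod_cast h4

end Cfsg.Agent.H447.Bs
end

private theorem dce_25f76e55c484 : _root_.True := by
  try have : _root_.True := by simp only [_root_.Cfsg.Agent.H39.Bs.qN.congr_simp]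
  exact _root_.True.intro
end

-- part: H181/Bs/Sp
section
prune_inst 0x20403040214002000018001632201c26c6000522004b8400ed6003820ec1cea2e0c32e61bfb037054a3294c5603d0048128800000000000020200400411d01a080805206b36ca10406009f800800000000000000310000000000000000000000000000000
set_option linter.all false
open scoped Cfsg.Agent.FastGrp

-- part: H181/Bs/Glue
section
/-!
# S5733, BS25: glueing, invariant subspaces of small dimension, counting conjugates

* `glue_left`, `glue_right`, `glue_mem_iso`, `glue_injective`;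
* `LB K y` : every nonzero `y`-invariant subspace has dimension greater than `K`;
* `le_left` : an invariant subspace of `glue x y` of dimension at most `K` lies in `D`, if `LB K y`;
* `card_conj` : the number of conjugates of a set `E` with the (TI) property;
* `card_cset` : `|Iso V| |X| ≤ |Iso U| |cset Iso(V) (Iso D) X|` if all elements of `X` satisfy `LB K` and `dim D ≤ K`.
-/

set_option autoImplicit false

namespace Cfsg.Agent.H181.Bs

open Cfsg.Agent.H847.Bs Module

universe u v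

variable {F : Type u} {V : Type v} [Field F] [AddCommGroup V] [Module F V]

section Glue

variable {D U : Submodule F V}

theorem glue_left (h : IsCompl D U) (x : D ≃ₗ[F] D) (y : U ≃ₗ[F] U) (d : D) :
    glue h x y (d : V) = (x d : V) := by
  simp [glue]

theorem glue_right (h : IsCompl D U) (x : D ≃ₗ[F] D) (y : U ≃ₗ[F] U) (u : U) :
    glue h x y (u : V) = (y u : V) := by
  simp [glue]

theorem glue_add (h : IsCompl D U) (x : D ≃ₗ[F] D) (y : U ≃ₗ[F] U) (d : D) (u : U) :
    glue h x y ((d : V) + (u : V)) = (x d : V) + (y u : V) := by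
  rw [map_add, glue_left, glue_right]

theorem exists_add (h : IsCompl D U) (v : V) : ∃ (d : D) (u : U), (d : V) + (u : V) = v := by
  have h1 : v ∈ D ⊔ U := by rw [h.sup_eq_top]; trivial
  obtain ⟨d, hd, u, hu, e⟩ := Submodule.mem_sup.mp h1
  exact ⟨⟨d, hd⟩, ⟨u, hu⟩, e⟩

theorem glue_inj (h : IsCompl D U) {x x' : D ≃ₗ[F] D} {y y' : U ≃ₗ[F] U} (e : glue h x y = glue h x' y') :
    x = x' ∧ y = y' := by
  constructor
  · ext d
    have h1 := congrArg (fun f => f (d : V)) e
    simp only [glue_left] at h1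
    exact h1
  · ext d
    have h1 := congrArg (fun f => f (d : V)) e
    simp only [glue_right] at h1
    exact h1

theorem inv_glue_left (h : IsCompl D U) (x : D ≃ₗ[F] D) (y : U ≃ₗ[F] U) : _root_.Cfsg.Agent.H847.Bs.Inv (glue h x y) D := by
  intro v hv
  have h1 := glue_left h x y ⟨v, hv⟩
  rw [show v = ((⟨v, hv⟩ : D) : V) from rfl, h1]
  exact (x _).2

/-- every nonzero invariant subspace of `y` has dimension greater than `K` -/
def LB {U : Type*} [AddCommGroup U] [Module F U] (K : ℕ) (y : U ≃ₗ[F] U) : Prop :=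
  ∀ Z : Submodule F U, _root_.Cfsg.Agent.H847.Bs.Inv y Z → Z ≠ ⊥ → K < finrank F Z

theorem proj_glue (h : IsCompl D U) (x : D ≃ₗ[F] D) (y : U ≃ₗ[F] U) (v : V) :
    Submodule.projectionOnto U D h.symm (glue h x y v) = y (Submodule.projectionOnto U D h.symm v) := by
  obtain ⟨d, u, rfl⟩ := exists_add h v
  rw [glue_add, map_add, map_add, Submodule.projectionOnto_apply_left, Submodule.projectionOnto_apply_left,
    Submodule.projectionOnto_apply_right, Submodule.projectionOnto_apply_right, zero_add, zero_add]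

theorem le_left [Module.Finite F V] (h : IsCompl D U) {x : D ≃ₗ[F] D} {y : U ≃ₗ[F] U} {K : ℕ} (hy : LB K y)
    {Y : Submodule F V} (hY : _root_.Cfsg.Agent.H847.Bs.Inv (glue h x y) Y) (hK : finrank F Y ≤ K) : Y ≤ D := by
  have h1 : _root_.Cfsg.Agent.H847.Bs.Inv y (Y.map (Submodule.projectionOnto U D h.symm)) := by
    rintro _ ⟨v, hv, rfl⟩
    rw [← proj_glue h x y v]
    exact Submodule.mem_map_of_mem (hY v hv)
  have h2 : Y.map (Submodule.projectionOnto U D h.symm) = ⊥ := by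
    by_contra hne
    have h3 := hy _ h1 hne
    have h4 := Submodule.finrank_map_le (Submodule.projectionOnto U D h.symm) Y
    omega
  intro v hv
  have h5 : Submodule.projectionOnto U D h.symm v ∈ Y.map (Submodule.projectionOnto U D h.symm) :=
    Submodule.mem_map_of_mem hv
  rw [h2, Submodule.mem_bot] at h5
  exact (Submodule.projectionOnto_apply_eq_zero_iff h.symm).mp h5

end Glue

/-- invariant subspaces of a conjugate -/
theorem inv_conj {g z : V ≃ₗ[F] V} {Y : Submodule F V} (h : _root_.Cfsg.Agent.H847.Bs.Inv (g * z * g⁻¹) Y) :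
    _root_.Cfsg.Agent.H847.Bs.Inv z (Y.map ((g⁻¹ : V ≃ₗ[F] V) : V →ₗ[F] V)) := by
  rintro _ ⟨v, hv, rfl⟩
  refine ⟨(g * z * g⁻¹) v, h v hv, ?_⟩
  show g⁻¹ (g (z (g⁻¹ v))) = z (g⁻¹ v)
  exact g.symm_apply_apply _

theorem inv_conj' {g z : V ≃ₗ[F] V} {Y : Submodule F V} (h : _root_.Cfsg.Agent.H847.Bs.Inv z Y) :
    _root_.Cfsg.Agent.H847.Bs.Inv (g * z * g⁻¹) (Y.map (g : V →ₗ[F] V)) := by
  rintro _ ⟨v, hv, rfl⟩
  refine ⟨z v, h v hv, ?_⟩
  show g (z v) = g (z (g⁻¹ (g v)))
  congr 2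
  exact (g.symm_apply_apply v).symm

theorem finrank_map_equiv (g : V ≃ₗ[F] V) (Y : Submodule F V) :
    finrank F (Y.map (g : V →ₗ[F] V)) = finrank F Y :=
  LinearEquiv.finrank_map_eq g Y

/-- invariant subspaces are mapped onto themselves -/
theorem map_eq_of_inv [Module.Finite F V] {g : V ≃ₗ[F] V} {Y : Submodule F V} (h : _root_.Cfsg.Agent.H847.Bs.Inv g Y) :
    Y.map (g : V →ₗ[F] V) = Y := by
  refine Submodule.eq_of_le_of_finrank_eq ?_ (finrank_map_equiv g Y)
  rintro _ ⟨v, hv, rfl⟩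
  exact h v hv

theorem inv_symm [Module.Finite F V] {g : V ≃ₗ[F] V} {Y : Submodule F V} (h : _root_.Cfsg.Agent.H847.Bs.Inv g Y) : _root_.Cfsg.Agent.H847.Bs.Inv g⁻¹ Y := by
  intro v hv
  rw [← map_eq_of_inv h] at hv
  obtain ⟨w, hw, rfl⟩ := hv
  have : g⁻¹ ((g : V →ₗ[F] V) w) = w := g.symm_apply_apply w
  rw [this]
  exact hw

section Count

/-- the number of conjugates of a set with the (TI) property -/
theorem card_conj {G : Type*} [Group G] [Finite G] (Γ M : Subgroup G) (E : Set G)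
    (hTI : ∀ g ∈ Γ, ∀ x ∈ E, g * x * g⁻¹ ∈ E → g ∈ M) :
    Nat.card Γ * Nat.card E ≤ Nat.card {z : G // ∃ g ∈ Γ, ∃ x ∈ E, z = g * x * g⁻¹} * Nat.card M := by
  classical
  rw [← Nat.card_prod, ← Nat.card_prod]
  let Z := {z : G // ∃ g ∈ Γ, ∃ x ∈ E, z = g * x * g⁻¹}
  have hz : ∀ z : Z, ∃ p : G × G, p.1 ∈ Γ ∧ p.2 ∈ E ∧ z.1 = p.1 * p.2 * p.1⁻¹ := by
    rintro ⟨z, g, hg, x, hx, e⟩
    exact ⟨(g, x), hg, hx, e⟩
  choose r hr1 hr2 hr3 using hz
  let fz : Γ × E → Z := fun p => ⟨p.1.1 * p.2.1 * p.1.1⁻¹, p.1.1, p.1.2, p.2.1, p.2.2, rfl⟩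
  have hm : ∀ p : Γ × E, (r (fz p)).1⁻¹ * p.1.1 ∈ M := by
    intro p
    refine hTI _ (Γ.mul_mem (Γ.inv_mem (hr1 _)) p.1.2) p.2.1 p.2.2 ?_
    have h1 : p.1.1 * p.2.1 * p.1.1⁻¹ = (r (fz p)).1 * (r (fz p)).2 * (r (fz p)).1⁻¹ := hr3 (fz p)
    have h2 : (r (fz p)).1⁻¹ * p.1.1 * p.2.1 * ((r (fz p)).1⁻¹ * p.1.1)⁻¹ = (r (fz p)).2 := by
      rw [mul_inv_rev, inv_inv]
      calc (r (fz p)).1⁻¹ * p.1.1 * p.2.1 * (p.1.1⁻¹ * (r (fz p)).1)
          = (r (fz p)).1⁻¹ * (p.1.1 * p.2.1 * p.1.1⁻¹) * (r (fz p)).1 := by group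
        _ = (r (fz p)).2 := by rw [h1]; group
    rw [h2]
    exact hr2 _
  refine Nat.card_le_card_of_injective (fun p : Γ × E => ((fz p, ⟨_, hm p⟩) : Z × M)) ?_
  intro p p' h
  have h1 : fz p = fz p' := congrArg Prod.fst h
  have h2 : (r (fz p)).1⁻¹ * p.1.1 = (r (fz p')).1⁻¹ * p'.1.1 := congrArg (fun q => (q.2 : G)) h
  rw [h1] at h2
  have h3 : p.1.1 = p'.1.1 := mul_left_cancel h2
  have h4 : p.1.1 * p.2.1 * p.1.1⁻¹ = p'.1.1 * p'.2.1 * p'.1.1⁻¹ := congrArg Subtype.val h1
  rw [h3] at h4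
  have h5 : p.2.1 = p'.2.1 := mul_left_cancel (mul_right_cancel h4)
  exact Prod.ext (Subtype.ext h3) (Subtype.ext h5)

end Count

instance finite_gl [Finite V] : Finite (V ≃ₗ[F] V) :=
  Finite.of_injective (fun g : V ≃ₗ[F] V => (g : V → V)) DFunLike.coe_injective

section Form

variable (Φ : Frm F V) {D U : Submodule F V}

theorem glue_mem_iso (h : Φ.Dec D U) {x : D ≃ₗ[F] D} {y : U ≃ₗ[F] U} (hx : x ∈ (Φ.on D).Iso)
    (hy : y ∈ (Φ.on U).Iso) : glue h.compl x y ∈ Φ.Iso := by
  have hor : ∀ (d : D) (u : U), Φ.B (d : V) (u : V) = 0 := fun d u => h.orth _ d.2 _ u.2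
  have hor' : ∀ (d : D) (u : U), Φ.B (u : V) (d : V) = 0 := fun d u => Φ.refl _ _ (hor d u)
  refine ⟨?_, ?_⟩
  · intro v w
    obtain ⟨d, u, rfl⟩ := exists_add h.compl v
    obtain ⟨d', u', rfl⟩ := exists_add h.compl w
    rw [glue_add, glue_add]
    simp only [Φ.add_left, Φ.add_right, hor, hor', zero_add, add_zero]
    rw [show Φ.B (x d : V) (x d' : V) = Φ.B (d : V) (d' : V) from hx.1 d d',
      show Φ.B (y u : V) (y u' : V) = Φ.B (u : V) (u' : V) from hy.1 u u']
  · intro v
    obtain ⟨d, u, rfl⟩ := exists_add h.compl v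
    rw [glue_add, Φ.q_add _ _ (hor _ _), Φ.q_add _ _ (hor _ _)]
    rw [show Φ.q (x d : V) = Φ.q (d : V) from hx.2 d, show Φ.q (y u : V) = Φ.q (u : V) from hy.2 u]

/-- the elements of `M` are glued from their restrictions -/
theorem exists_glue [Module.Finite F V] (h : Φ.Dec D U) {g : V ≃ₗ[F] V} (hg : g ∈ Φ.Iso) (hD : _root_.Cfsg.Agent.H847.Bs.Inv g D) (hU : _root_.Cfsg.Agent.H847.Bs.Inv g U) :
    ∃ x ∈ (Φ.on D).Iso, ∃ y ∈ (Φ.on U).Iso, g = glue h.compl x y := by
  have hinj : ∀ (W : Submodule F V) (hW : _root_.Cfsg.Agent.H847.Bs.Inv g W), Function.Injective ((g : V →ₗ[F] V).restrict hW) := by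
    intro W hW a b hab
    apply Subtype.ext
    exact g.injective (congrArg Subtype.val hab)
  let x : D ≃ₗ[F] D := LinearEquiv.ofInjectiveEndo ((g : V →ₗ[F] V).restrict hD) (hinj D hD)
  let y : U ≃ₗ[F] U := LinearEquiv.ofInjectiveEndo ((g : V →ₗ[F] V).restrict hU) (hinj U hU)
  have hx : ∀ d : D, ((x d : D) : V) = g d := fun d => rfl
  have hy : ∀ d : U, ((y d : U) : V) = g d := fun d => rfl
  refine ⟨x, ⟨fun a b => ?_, fun a => ?_⟩, y, ⟨fun a b => ?_, fun a => ?_⟩, ?_⟩
  · show Φ.B (x a : V) (x b : V) = Φ.B a b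
    rw [hx, hx, hg.1]
  · show Φ.q (x a : V) = Φ.q a
    rw [hx, hg.2]
  · show Φ.B (y a : V) (y b : V) = Φ.B a b
    rw [hy, hy, hg.1]
  · show Φ.q (y a : V) = Φ.q a
    rw [hy, hg.2]
  · ext v
    obtain ⟨d, u, rfl⟩ := exists_add h.compl v
    rw [glue_add, map_add, hx, hy]

/-- `U` is the orthogonal complement of `D` -/
theorem mem_right_iff (hnd : Φ.Nd) (h : Φ.Dec D U) (v : V) : v ∈ U ↔ ∀ d ∈ D, Φ.B d v = 0 := by
  constructor
  · intro hv d hd
    exact h.orth d hd v hv
  · intro hv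
    obtain ⟨d, u, rfl⟩ := exists_add h.compl v
    have h1 : ∀ d' ∈ D, Φ.B d' (d : V) = 0 := by
      intro d' hd'
      have h2 := hv d' hd'
      rw [Φ.add_right, h.orth d' hd' _ u.2, add_zero] at h2
      exact h2
    have h3 : (d : V) = 0 := by
      refine hnd _ fun w => ?_
      obtain ⟨d', u', rfl⟩ := exists_add h.compl w
      rw [Φ.add_right, Φ.refl _ _ (h1 _ d'.2), h.orth _ d.2 _ u'.2, add_zero]
    rw [h3, zero_add]
    exact u.2

theorem inv_right (hnd : Φ.Nd) [Module.Finite F V] (h : Φ.Dec D U) {g : V ≃ₗ[F] V} (hg : g ∈ Φ.Iso) (hD : _root_.Cfsg.Agent.H847.Bs.Inv g D) :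
    _root_.Cfsg.Agent.H847.Bs.Inv g U := by
  intro v hv
  rw [mem_right_iff Φ hnd h] at hv ⊢
  intro d hd
  have h1 : d = g (g⁻¹ d) := (g.apply_symm_apply d).symm
  rw [h1, hg.1]
  exact hv _ (inv_symm hD d hd)

variable [Finite V] [Module.Finite F V]

/-- counting the conjugates of `glue x y`, `x ∈ Iso D`, `y ∈ X` -/
theorem card_cset (hnd : Φ.Nd) (h : Φ.Dec D U) {K : ℕ} (hK : finrank F D ≤ K) {X : Set (U ≃ₗ[F] U)}
    (hX : ∀ y ∈ X, y ∈ (Φ.on U).Iso ∧ LB K y) :
    Nat.card Φ.Iso * Nat.card X ≤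
      Nat.card (cset Φ.Iso h.compl ((Φ.on D).Iso : Set (D ≃ₗ[F] D)) X) * Nat.card (Φ.on U).Iso := by
  classical
  let E : Set (V ≃ₗ[F] V) := {z | ∃ x ∈ (Φ.on D).Iso, ∃ y ∈ X, z = glue h.compl x y}
  let M : Subgroup (V ≃ₗ[F] V) :=
    { carrier := {g | g ∈ Φ.Iso ∧ _root_.Cfsg.Agent.H847.Bs.Inv g D}
      mul_mem' := by
        rintro a b ⟨ha1, ha2⟩ ⟨hb1, hb2⟩
        exact ⟨Φ.Iso.mul_mem ha1 hb1, fun v hv => ha2 _ (hb2 v hv)⟩
      one_mem' := ⟨Φ.Iso.one_mem, fun v hv => hv⟩
      inv_mem' := by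
        rintro a ⟨ha1, ha2⟩
        exact ⟨Φ.Iso.inv_mem ha1, inv_symm ha2⟩ }
  have hTI : ∀ g ∈ Φ.Iso, ∀ x ∈ E, g * x * g⁻¹ ∈ E → g ∈ M := by
    rintro g hg z ⟨x, hx, y, hy, rfl⟩ ⟨x', hx', y', hy', e⟩
    refine ⟨hg, ?_⟩
    have h1 : _root_.Cfsg.Agent.H847.Bs.Inv (g * glue h.compl x y * g⁻¹) (D.map (g : V →ₗ[F] V)) := inv_conj' (inv_glue_left h.compl x y)
    rw [e] at h1
    have h2 := le_left h.compl (hX y' hy').2 h1 (by rw [finrank_map_equiv]; exact hK)
    intro v hv
    exact h2 (Submodule.mem_map_of_mem hv)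
  have h1 := card_conj Φ.Iso M E hTI
  -- the size of `E`
  have h2 : Nat.card (Φ.on D).Iso * Nat.card X ≤ Nat.card E := by
    rw [← Nat.card_prod]
    refine Nat.card_le_card_of_injective
      (fun p : (Φ.on D).Iso × X => (⟨glue h.compl p.1.1 p.2.1, p.1.1, p.1.2, p.2.1, p.2.2, rfl⟩ : E)) ?_
    intro p p' e
    obtain ⟨e1, e2⟩ := glue_inj h.compl (congrArg Subtype.val e)
    exact Prod.ext (Subtype.ext e1) (Subtype.ext e2)
  -- the size of `M`
  have h3 : Nat.card M ≤ Nat.card (Φ.on D).Iso * Nat.card (Φ.on U).Iso := by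
    rw [← Nat.card_prod]
    have hex : ∀ g : M, ∃ p : (Φ.on D).Iso × (Φ.on U).Iso, g.1 = glue h.compl p.1.1 p.2.1 := by
      rintro ⟨g, hg1, hg2⟩
      obtain ⟨x, hx, y, hy, e⟩ := exists_glue Φ h hg1 hg2 (inv_right Φ hnd h hg1 hg2)
      exact ⟨(⟨x, hx⟩, ⟨y, hy⟩), e⟩
    choose f hf using hex
    refine Nat.card_le_card_of_injective f ?_
    intro g g' e
    apply Subtype.ext
    rw [hf g, hf g', e]
  have h4 : Nat.card {z : V ≃ₗ[F] V // ∃ g ∈ Φ.Iso, ∃ x ∈ E, z = g * x * g⁻¹} =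
      Nat.card (cset Φ.Iso h.compl ((Φ.on D).Iso : Set (D ≃ₗ[F] D)) X) := by
    refine Nat.card_congr (Equiv.setCongr ?_)
    ext z
    constructor
    · rintro ⟨g, hg, _, ⟨x, hx, y, hy, rfl⟩, e⟩
      exact ⟨g, hg, x, hx, y, hy, e⟩
    · rintro ⟨g, hg, x, hx, y, hy, e⟩
      exact ⟨g, hg, _, ⟨x, hx, y, hy, rfl⟩, e⟩
  rw [h4] at h1
  have h5 : 0 < Nat.card (Φ.on D).Iso := Nat.card_pos
  have h6 : Nat.card (Φ.on D).Iso * (Nat.card Φ.Iso * Nat.card X) ≤
      Nat.card (Φ.on D).Iso *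
        (Nat.card (cset Φ.Iso h.compl ((Φ.on D).Iso : Set (D ≃ₗ[F] D)) X) * Nat.card (Φ.on U).Iso) := by
    calc Nat.card (Φ.on D).Iso * (Nat.card Φ.Iso * Nat.card X)
        = Nat.card Φ.Iso * (Nat.card (Φ.on D).Iso * Nat.card X) := by ring
      _ ≤ Nat.card Φ.Iso * Nat.card E := Nat.mul_le_mul_left _ h2
      _ ≤ _ := h1
      _ ≤ Nat.card (cset Φ.Iso h.compl ((Φ.on D).Iso : Set (D ≃ₗ[F] D)) X) *
          (Nat.card (Φ.on D).Iso * Nat.card (Φ.on U).Iso) := Nat.mul_le_mul_left _ h3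
      _ = _ := by ring
  exact Nat.le_of_mul_le_mul_left h6 h5

end Form

end Cfsg.Agent.H181.Bs
end

-- part: H181/Bs/Sp
section
/-!
# S5733, BS25: symplectic spaces

* `bil`, `perp`, `dec_perp`, `ndOn_right`, `isSp_on`;
* `exists_dec` : nondegenerate subspaces of every even dimension;
* `even_finrank`;
* `two_finrank_le_of_ti` : totally isotropic subspaces of nondegenerate spaces;
* `sum_le` : the main counting inequality.
-/

set_option autoImplicit false

namespace Cfsg.Agent.H181.Bs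

open Cfsg.Agent.H847.Bs Module

universe u v

variable {F : Type u} {V : Type v} [Field F] [AddCommGroup V] [Module F V] {Φ : Frm F V}

/-- the bilinear form -/
def bil (hs : ∀ a, Φ.s a = a) : LinearMap.BilinForm F V :=
  LinearMap.mk₂ F Φ.B Φ.add_left (fun a x y => by rw [Φ.smul_left]; rfl) Φ.add_right
    (fun a x y => by rw [Φ.smul_right, hs]; rfl)

theorem bil_refl (hs : ∀ a, Φ.s a = a) : (bil hs).IsRefl := fun x y h => Φ.refl x y h

theorem bil_nd (hs : ∀ a, Φ.s a = a) (hnd : Φ.Nd) : (bil hs).Nondegenerate :=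
  (LinearMap.IsRefl.nondegenerate_iff_separatingLeft (bil_refl hs)).mpr hnd

/-- the orthogonal complement -/
def perp (hs : ∀ a, Φ.s a = a) (Y : Submodule F V) : Submodule F V := (bil hs).orthogonal Y

theorem mem_perp (hs : ∀ a, Φ.s a = a) {Y : Submodule F V} {v : V} :
    v ∈ perp hs Y ↔ ∀ y ∈ Y, Φ.B y v = 0 := by
  rw [perp, LinearMap.BilinForm.mem_orthogonal_iff]
  rfl

theorem dec_perp (hs : ∀ a, Φ.s a = a) [Module.Finite F V] {Y : Submodule F V} (hY : Φ.NdOn Y) :
    Φ.Dec Y (perp hs Y) where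
  compl := by
    refine ((bil hs).isCompl_orthogonal_iff_disjoint (bil_refl hs)).mpr ?_
    rw [disjoint_iff, eq_bot_iff]
    rintro x ⟨hx1, hx2⟩
    rw [Submodule.mem_bot]
    refine hY x hx1 fun y hy => Φ.refl _ _ ?_
    exact (mem_perp hs).mp hx2 y hy
  orth := fun x hx y hy => (mem_perp hs).mp hy x hx

theorem ndOn_right (hnd : Φ.Nd) {D U : Submodule F V} (h : Φ.Dec D U) : Φ.NdOn U := by
  intro x hx hxy
  refine hnd x fun w => ?_
  obtain ⟨d, u, rfl⟩ := exists_add h.compl w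
  rw [Φ.add_right, Φ.refl _ _ (h.orth _ d.2 _ hx), hxy _ u.2, add_zero]

theorem ndOn_left (hnd : Φ.Nd) {D U : Submodule F V} (h : Φ.Dec D U) : Φ.NdOn D := by
  intro x hx hxy
  refine hnd x fun w => ?_
  obtain ⟨d, u, rfl⟩ := exists_add h.compl w
  rw [Φ.add_right, h.orth _ hx _ u.2, hxy _ d.2, add_zero]

theorem isSp_on (hΦ : IsSp Φ) {D : Submodule F V} (hD : Φ.NdOn D) : IsSp (Φ.on D) where
  nd := by
    intro x hx
    apply Subtype.ext
    exact hD x.1 x.2 fun y hy => hx ⟨y, hy⟩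
  s := hΦ.s
  q := fun x => hΦ.q x.1
  alt := fun x => hΦ.alt x.1

theorem alt_swap (hΦ : IsSp Φ) (x y : V) : Φ.B y x = - Φ.B x y := by
  have h := hΦ.alt (x + y)
  rw [Φ.add_left, Φ.add_right, Φ.add_right, hΦ.alt, hΦ.alt, zero_add, add_zero] at h
  exact eq_neg_of_add_eq_zero_right h

theorem exists_dec (hΦ : IsSp Φ) [Module.Finite F V] (s : ℕ) (hs : 2 * s ≤ finrank F V) :
    ∃ W U : Submodule F V, Φ.Dec W U ∧ finrank F W = 2 * s := by
  induction s with
  | zero =>
    refine ⟨⊥, ⊤, ⟨isCompl_bot_top, ?_⟩, by simp⟩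
    intro x hx y _
    rw [Submodule.mem_bot] at hx
    rw [hx]
    have := Φ.smul_left 0 0 y
    rwa [zero_smul, zero_mul] at this
  | succ s ih =>
    obtain ⟨W, U, hd, hW⟩ := ih (by omega)
    have hWnd := ndOn_left hΦ.nd hd
    have hUnd := ndOn_right hΦ.nd hd
    have hU : finrank F W + finrank F U = finrank F V := Submodule.finrank_add_eq_of_isCompl hd.compl
    have hU0 : U ≠ ⊥ := by
      rintro rfl
      rw [finrank_bot] at hU
      omega
    obtain ⟨x, hx, hx0⟩ := Submodule.exists_mem_ne_zero_of_ne_bot hU0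
    obtain ⟨y, hy, hxy⟩ : ∃ y ∈ U, Φ.B x y ≠ 0 := by
      by_contra hno
      push Not at hno
      exact hx0 (hUnd x hx hno)
    set P : Submodule F V := Submodule.span F {x, y} with hP
    have hPU : P ≤ U := by
      rw [hP, Submodule.span_le]
      rintro z (rfl | hz)
      · exact hx
      · rw [Set.mem_singleton_iff] at hz
        rw [hz]
        exact hy
    have hxP : x ∈ P := Submodule.subset_span (by simp)
    have hyP : y ∈ P := Submodule.subset_span (by simp)
    have hkey : ∀ a b : F, Φ.B (a • x + b • y) x = b * Φ.B y x ∧ Φ.B (a • x + b • y) y = a * Φ.B x y := by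
      intro a b
      refine ⟨?_, ?_⟩
      · rw [Φ.add_left, Φ.smul_left, Φ.smul_left, hΦ.alt, mul_zero, zero_add]
      · rw [Φ.add_left, Φ.smul_left, Φ.smul_left, hΦ.alt, mul_zero, add_zero]
    have hyx : Φ.B y x ≠ 0 := by
      rw [alt_swap hΦ]
      exact neg_ne_zero.mpr hxy
    have hPnd : Φ.NdOn P := by
      intro z hz hz2
      obtain ⟨a, b, rfl⟩ := Submodule.mem_span_pair.mp hz
      have h1 := (hkey a b).1
      have h2 := (hkey a b).2
      rw [hz2 x hxP] at h1
      rw [hz2 y hyP] at h2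
      have hb : b = 0 := (mul_eq_zero.mp h1.symm).resolve_right hyx
      have ha : a = 0 := (mul_eq_zero.mp h2.symm).resolve_right hxy
      rw [ha, hb, zero_smul, zero_smul, add_zero]
    have hli : LinearIndependent F ![x, y] := by
      rw [LinearIndependent.pair_iff]
      intro a b hab
      have h0 : ∀ w, Φ.B (0 : V) w = 0 := by
        intro w
        have := Φ.smul_left 0 0 w
        rwa [zero_smul, zero_mul] at this
      have h1 := (hkey a b).1
      have h2 := (hkey a b).2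
      rw [hab, h0] at h1 h2
      exact ⟨(mul_eq_zero.mp h2.symm).resolve_right hxy, (mul_eq_zero.mp h1.symm).resolve_right hyx⟩
    have hPr : finrank F P = 2 := by
      have h1 := finrank_span_eq_card hli
      rw [Fintype.card_fin] at h1
      have h2 : Set.range ![x, y] = {x, y} := by simp [Set.pair_comm]
      rw [h2] at h1
      exact h1
    have hdisj : W ⊓ P = ⊥ := by
      rw [eq_bot_iff]
      calc W ⊓ P ≤ W ⊓ U := inf_le_inf_left _ hPU
        _ = ⊥ := hd.compl.inf_eq_bot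
    have hsum := Submodule.finrank_sup_add_finrank_inf_eq W P
    rw [hdisj, finrank_bot, hW, hPr] at hsum
    have hnd : Φ.NdOn (W ⊔ P) := by
      intro z hz hz2
      obtain ⟨w, hw, p, hp, rfl⟩ := Submodule.mem_sup.mp hz
      have h1 : w = 0 := by
        refine hWnd w hw fun w' hw' => ?_
        have h2 := hz2 w' (Submodule.mem_sup_left hw')
        rw [Φ.add_left, Φ.refl _ _ (hd.orth w' hw' p (hPU hp)), add_zero] at h2
        exact h2
      have h3 : p = 0 := by
        refine hPnd p hp fun p' hp' => ?_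
        have h2 := hz2 p' (Submodule.mem_sup_right hp')
        rw [Φ.add_left, hd.orth w hw p' (hPU hp'), zero_add] at h2
        exact h2
      rw [h1, h3, add_zero]
    exact ⟨W ⊔ P, perp hΦ.s (W ⊔ P), dec_perp hΦ.s hnd, by omega⟩

theorem exists_finrank_eq (hΦ : IsSp Φ) [Module.Finite F V] : ∃ n, finrank F V = 2 * n := by
  obtain ⟨W, U, hd, hW⟩ := exists_dec hΦ (finrank F V / 2) (by omega)
  have hU : finrank F W + finrank F U = finrank F V := Submodule.finrank_add_eq_of_isCompl hd.compl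
  refine ⟨finrank F V / 2, ?_⟩
  by_contra hne
  have hU1 : finrank F U = 1 := by omega
  obtain ⟨x, hx0, hx⟩ := finrank_eq_one_iff'.mp hU1
  apply hx0
  apply Subtype.ext
  refine ndOn_right hΦ.nd hd x.1 x.2 fun y hy => ?_
  obtain ⟨c, hc⟩ := hx ⟨y, hy⟩
  have h1 : c • (x : V) = y := congrArg Subtype.val hc
  rw [← h1, Φ.smul_right, hΦ.alt, mul_zero]

theorem exists_finrank_ndOn (hΦ : IsSp Φ) [Module.Finite F V] {Y : Submodule F V} (hY : Φ.NdOn Y) :
    ∃ n, finrank F Y = 2 * n := exists_finrank_eq (isSp_on hΦ hY)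

theorem two_finrank_le_of_ti (hΦ : IsSp Φ) [Module.Finite F V] {A W : Submodule F V} (hA : Φ.TI A) (hAW : A ≤ W)
    (hW : Φ.NdOn W) : 2 * finrank F A ≤ finrank F W := by
  have h1 := isSp_on hΦ hW
  set A' : Submodule F W := A.comap W.subtype with hA'
  have h2 : finrank F A' = finrank F A := by
    exact LinearEquiv.finrank_eq (Submodule.comapSubtypeEquivOfLe hAW)
  have h3 : A' ≤ (bil h1.s).orthogonal A' := by
    intro a ha
    rw [LinearMap.BilinForm.mem_orthogonal_iff]
    intro b hb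
    exact hA.1 _ hb _ ha
  have h4 := Submodule.finrank_mono h3
  rw [LinearMap.BilinForm.finrank_orthogonal (bil_nd h1.s h1.nd), h2] at h4
  have h5 := Submodule.finrank_mono hAW
  omega

theorem ti_map {A : Submodule F V} (hA : Φ.TI A) {g : V ≃ₗ[F] V} (hg : g ∈ Φ.Iso) :
    Φ.TI (A.map (g : V →ₗ[F] V)) := by
  refine ⟨?_, ?_⟩
  · rintro _ ⟨x, hx, rfl⟩ _ ⟨y, hy, rfl⟩
    show Φ.B (g x) (g y) = 0
    rw [hg.1]
    exact hA.1 x hx y hy
  · rintro _ ⟨x, hx, rfl⟩
    show Φ.q (g x) = 0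
    rw [hg.2]
    exact hA.2 x hx

variable [Finite V] [Module.Finite F V]

/-- the main counting inequality -/
theorem sum_le (hΦ : IsSp Φ) {n K k : ℕ} (hn : finrank F V = 2 * n) (T : Finset ℕ) (p : ℕ → ℝ)
    (hT : ∀ s ∈ T, 2 * s ≤ K ∧ s < k ∧ s ≤ n) (Y₀ : Submodule F V) (hY : finrank F Y₀ ≤ K)
    (hk : ∀ W, Φ.NdOn W → finrank F W < 2 * k → ∀ g ∈ Φ.Iso, ¬ Y₀.map ((g : V ≃ₗ[F] V) : V →ₗ[F] V) ≤ W)
    (hp : ∀ s ∈ T, ∀ U : Submodule F V, Φ.NdOn U → finrank F U = 2 * (n - s) →
      p s * Nat.card (Φ.on U).Iso ≤ Nat.card ↥{y : U ≃ₗ[F] U | y ∈ (Φ.on U).Iso ∧ LB K y}) :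
    (∑ s ∈ T, p s) * Nat.card Φ.Iso ≤
      Nat.card {x : V ≃ₗ[F] V // x ∈ Φ.Iso ∧ ∀ g ∈ Φ.Iso, ¬ _root_.Cfsg.Agent.H847.Bs.Inv x (Y₀.map ((g : V ≃ₗ[F] V) : V →ₗ[F] V))} := by
  classical
  have hex : ∀ s : T, ∃ W U : Submodule F V, Φ.Dec W U ∧ finrank F W = 2 * s.1 := by
    rintro ⟨s, hs⟩
    exact exists_dec hΦ s (by rw [hn]; have := (hT s hs).2.2; omega)
  choose W U hd hW using hex
  let X : (s : T) → Set (U s ≃ₗ[F] U s) := fun s => {y | y ∈ (Φ.on (U s)).Iso ∧ LB K y}
  let C : T → Set (V ≃ₗ[F] V) := fun s =>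
    cset Φ.Iso (hd s).compl ((Φ.on (W s)).Iso : Set (W s ≃ₗ[F] W s)) (X s)
  -- the elements of `C s` have a largest small invariant subspace
  have hbig : ∀ s : T, ∀ z ∈ C s, z ∈ Φ.Iso ∧ ∃ W' : Submodule F V, finrank F W' = 2 * s.1 ∧ _root_.Cfsg.Agent.H847.Bs.Inv z W' ∧ Φ.NdOn W' ∧
      ∀ Y : Submodule F V, _root_.Cfsg.Agent.H847.Bs.Inv z Y → finrank F Y ≤ K → Y ≤ W' := by
    rintro s z ⟨g, hg, x, hx, y, ⟨hy1, hy2⟩, rfl⟩
    refine ⟨Φ.Iso.mul_mem (Φ.Iso.mul_mem hg (glue_mem_iso Φ (hd s) hx hy1)) (Φ.Iso.inv_mem hg), ?_⟩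
    refine ⟨(W s).map (g : V →ₗ[F] V), ?_, inv_conj' (inv_glue_left _ _ _), ?_, ?_⟩
    · rw [finrank_map_equiv, hW]
    · rintro _ ⟨w, hw, rfl⟩ h2
      have h3 : w = 0 := by
        refine ndOn_left hΦ.nd (hd s) w hw fun w' hw' => ?_
        have h4 := h2 (g w') (Submodule.mem_map_of_mem hw')
        have h5 : Φ.B (g w) (g w') = 0 := h4
        rwa [hg.1] at h5
      rw [h3, map_zero]
    · intro Y hYi hYK
      have h1 := inv_conj hYi
      have h2 := le_left (hd s).compl hy2 h1 (by rw [finrank_map_equiv]; exact hYK)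
      intro v hv
      refine ⟨g⁻¹ v, h2 (Submodule.mem_map_of_mem hv), ?_⟩
      exact g.apply_symm_apply v
  -- sizes
  have hsize : ∀ s : T, p s.1 * Nat.card Φ.Iso ≤ Nat.card (C s) := by
    intro s
    have hs := hT s.1 s.2
    have h1 := card_cset Φ hΦ.nd (hd s) (K := K) (by rw [hW]; exact hs.1) (X := X s) (fun y hy => hy)
    have hUr : finrank F (U s) = 2 * (n - s.1) := by
      have h2 : finrank F (W s) + finrank F (U s) = finrank F V := Submodule.finrank_add_eq_of_isCompl (hd s).compl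
      rw [hW, hn] at h2
      omega
    have h3 := hp s.1 s.2 (U s) (ndOn_right hΦ.nd (hd s)) hUr
    have h4 : (0 : ℝ) < Nat.card (Φ.on (U s)).Iso := by
      exact_mod_cast (Nat.card_pos : 0 < Nat.card (Φ.on (U s)).Iso)
    have h5 : (Nat.card Φ.Iso : ℝ) * Nat.card (X s) ≤ Nat.card (C s) * Nat.card (Φ.on (U s)).Iso := by
      exact_mod_cast h1
    have h6 : (0 : ℝ) ≤ Nat.card Φ.Iso := Nat.cast_nonneg _
    have h7 : (p s.1 * Nat.card Φ.Iso) * Nat.card (Φ.on (U s)).Iso ≤
        Nat.card (C s) * Nat.card (Φ.on (U s)).Iso := by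
      calc (p s.1 * Nat.card Φ.Iso) * Nat.card (Φ.on (U s)).Iso
          = Nat.card Φ.Iso * (p s.1 * Nat.card (Φ.on (U s)).Iso) := by ring
        _ ≤ Nat.card Φ.Iso * Nat.card (X s) := mul_le_mul_of_nonneg_left h3 h6
        _ ≤ _ := h5
    exact le_of_mul_le_mul_right h7 h4
  -- the union
  have hle : ∑ s : T, Nat.card (C s) ≤
      Nat.card {x : V ≃ₗ[F] V // x ∈ Φ.Iso ∧ ∀ g ∈ Φ.Iso, ¬ _root_.Cfsg.Agent.H847.Bs.Inv x (Y₀.map ((g : V ≃ₗ[F] V) : V →ₗ[F] V))} := by
    rw [← Nat.card_sigma]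
    refine Nat.card_le_card_of_injective (fun q : (Σ s : T, C s) => ⟨q.2.1, ?_, ?_⟩) ?_
    · exact (hbig q.1 q.2.1 q.2.2).1
    · intro g hg hinv
      obtain ⟨-, W', hW', -, hWnd, hmax⟩ := hbig q.1 q.2.1 q.2.2
      have h1 := hmax _ hinv (by rw [finrank_map_equiv]; exact hY)
      exact hk W' hWnd (by rw [hW']; have := (hT q.1.1 q.1.2).2.1; omega) g hg h1
    · rintro ⟨s, z, hz⟩ ⟨s', z', hz'⟩ e
      have e1 : z = z' := congrArg Subtype.val e
      subst e1
      obtain ⟨-, W1, hW1, hi1, -, hmax1⟩ := hbig s z hz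
      obtain ⟨-, W2, hW2, hi2, -, hmax2⟩ := hbig s' z hz'
      have h1 := hmax2 W1 hi1 (by rw [hW1]; exact (hT s.1 s.2).1)
      have h2 := hmax1 W2 hi2 (by rw [hW2]; exact (hT s'.1 s'.2).1)
      have h3 : W1 = W2 := le_antisymm h1 h2
      rw [h3, hW2] at hW1
      have h4 : s = s' := Subtype.ext (by omega)
      subst h4
      rfl
  have hle' : ((∑ s : T, Nat.card (C s) : ℕ) : ℝ) ≤
      Nat.card {x : V ≃ₗ[F] V // x ∈ Φ.Iso ∧ ∀ g ∈ Φ.Iso, ¬ _root_.Cfsg.Agent.H847.Bs.Inv x (Y₀.map ((g : V ≃ₗ[F] V) : V →ₗ[F] V))} := by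
    exact_mod_cast hle
  refine le_trans ?_ hle'
  rw [Finset.sum_mul, ← Finset.sum_coe_sort T, Nat.cast_sum]
  exact Finset.sum_le_sum fun s _ => hsize s

end Cfsg.Agent.H181.Bs
end

private theorem dce_9564e9f8c3ac : _root_.True := by
  try have : _root_.True := by simp only [_root_.Cfsg.Agent.H847.Bs.glue.congr_simp]
  try have : _root_.True := by simp only [_root_.Cfsg.Agent.H847.Bs.cset.congr_simp]
  try have : _root_.True := by simp only [_root_.Cfsg.Agent.H847.Bs.glue.eq_1]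
  try have : _root_.True := by simp only [_root_.Cfsg.Agent.H181.Bs.perp.eq_1]
  exact _root_.True.intro
end

-- part: H440/Bs/Trans
section
prune_inst 0x310000000000000000000000000000000
set_option linter.all false
open scoped Cfsg.Agent.FastGrp

/-!
# S5733, BS03: transport along isometries of spaces, trivial cases (helper440)

* `IsoTo Φ Φ' e` : `e : V ≃ V'` is an isometry; `tr e` the isomorphism of the linear groups;
* `tr_mem_iso`, `tr_mem_SS`, `tr_mem_Bm`, `tr_mem_Bp`; `card_iso`, `card_SS`, `card_Bm`, `card_Bp`;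
* `card_SS_zero` : spaces of dimension zero.
-/

set_option autoImplicit false

namespace Cfsg.Agent.H440.Bs

open Cfsg.Agent.H847.Bs Module

variable {F V V' : Type*} [Field F] [AddCommGroup V] [Module F V] [AddCommGroup V'] [Module F V']
  {Φ : Frm F V} {Φ' : Frm F V'}

/-- `e` is an isometry -/
structure IsoTo (Φ : Frm F V) (Φ' : Frm F V') (e : V ≃ₗ[F] V') : Prop where
  B : ∀ x y, Φ'.B (e x) (e y) = Φ.B x y
  q : ∀ x, Φ'.q (e x) = Φ.q x

/-- the isomorphism of the linear groups -/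
def tr (e : V ≃ₗ[F] V') : (V ≃ₗ[F] V) ≃* (V' ≃ₗ[F] V') where
  toFun g := e.symm ≪≫ₗ g ≪≫ₗ e
  invFun g := e ≪≫ₗ g ≪≫ₗ e.symm
  left_inv g := by ext v; simp
  right_inv g := by ext v; simp
  map_mul' g k := by
    ext v
    show e (g (k (e.symm v))) = e (g (e.symm (e (k (e.symm v)))))
    rw [e.symm_apply_apply]

theorem tr_apply (e : V ≃ₗ[F] V') (g : V ≃ₗ[F] V) (v : V') : tr e g v = e (g (e.symm v)) := rfl

theorem tr_apply' (e : V ≃ₗ[F] V') (g : V ≃ₗ[F] V) (v : V) : tr e g (e v) = e (g v) := by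
  rw [tr_apply, e.symm_apply_apply]

theorem tr_symm_tr (e : V ≃ₗ[F] V') (g : V ≃ₗ[F] V) : tr e.symm (tr e g) = g := by
  ext v
  rw [tr_apply, tr_apply]
  simp

theorem IsoTo.symm {e : V ≃ₗ[F] V'} (h : IsoTo Φ Φ' e) : IsoTo Φ' Φ e.symm := by
  refine ⟨fun x y => ?_, fun x => ?_⟩
  · rw [← h.B, e.apply_symm_apply, e.apply_symm_apply]
  · rw [← h.q, e.apply_symm_apply]

theorem IsoTo.refl : IsoTo Φ Φ (LinearEquiv.refl F V) := ⟨fun _ _ => rfl, fun _ => rfl⟩

theorem IsoTo.trans {V'' : Type*} [AddCommGroup V''] [Module F V''] {Φ'' : Frm F V''} {e : V ≃ₗ[F] V'}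
    {e' : V' ≃ₗ[F] V''} (h : IsoTo Φ Φ' e) (h' : IsoTo Φ' Φ'' e') : IsoTo Φ Φ'' (e.trans e') :=
  ⟨fun x y => by rw [LinearEquiv.trans_apply, LinearEquiv.trans_apply, h'.B, h.B],
    fun x => by rw [LinearEquiv.trans_apply, h'.q, h.q]⟩

theorem tr_mem_iso {e : V ≃ₗ[F] V'} (h : IsoTo Φ Φ' e) {g : V ≃ₗ[F] V} (hg : g ∈ Φ.Iso) : tr e g ∈ Φ'.Iso := by
  refine ⟨fun x y => ?_, fun x => ?_⟩
  · rw [tr_apply, tr_apply, h.B, hg.1, ← h.B, e.apply_symm_apply, e.apply_symm_apply]
  · rw [tr_apply, h.q, hg.2, ← h.q, e.apply_symm_apply]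

theorem tr_mem_iso_iff {e : V ≃ₗ[F] V'} (h : IsoTo Φ Φ' e) {g : V ≃ₗ[F] V} : tr e g ∈ Φ'.Iso ↔ g ∈ Φ.Iso := by
  refine ⟨fun h1 => ?_, tr_mem_iso h⟩
  have := tr_mem_iso h.symm h1
  rwa [tr_symm_tr] at this

theorem Inv.tr {e : V ≃ₗ[F] V'} {g : V ≃ₗ[F] V} {Y : Submodule F V} (h : _root_.Cfsg.Agent.H847.Bs.Inv g Y) :
    _root_.Cfsg.Agent.H847.Bs.Inv (tr e g) (Y.map (e : V →ₗ[F] V')) := by
  rintro _ ⟨v, hv, rfl⟩
  exact ⟨g v, h v hv, (tr_apply' e g v).symm⟩

theorem map_map_symm (e : V ≃ₗ[F] V') (Y : Submodule F V) :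
    (Y.map (e : V →ₗ[F] V')).map (e.symm : V' →ₗ[F] V) = Y := by
  rw [← Submodule.map_comp]
  have : (e.symm : V' →ₗ[F] V) ∘ₗ (e : V →ₗ[F] V') = LinearMap.id := by
    ext v
    exact e.symm_apply_apply v
  rw [this, Submodule.map_id]

theorem map_symm_map (e : V ≃ₗ[F] V') (Y : Submodule F V') :
    (Y.map (e.symm : V' →ₗ[F] V)).map (e : V →ₗ[F] V') = Y := map_map_symm e.symm Y

theorem Inv.tr' {e : V ≃ₗ[F] V'} {g : V ≃ₗ[F] V} {Y : Submodule F V'} (h : _root_.Cfsg.Agent.H847.Bs.Inv (Cfsg.Agent.H440.Bs.tr e g) Y) :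
    _root_.Cfsg.Agent.H847.Bs.Inv g (Y.map (e.symm : V' →ₗ[F] V)) := by
  have := Inv.tr (e := e.symm) h
  rwa [tr_symm_tr] at this

theorem map_ne_bot {e : V ≃ₗ[F] V'} {Y : Submodule F V} (h : Y ≠ ⊥) : Y.map (e : V →ₗ[F] V') ≠ ⊥ := by
  intro h1
  apply h
  rw [← map_map_symm e Y, h1, Submodule.map_bot]

theorem Irr.tr {e : V ≃ₗ[F] V'} {g : V ≃ₗ[F] V} {X : Submodule F V} (h : Irr g X) :
    Irr (Cfsg.Agent.H440.Bs.tr e g) (X.map (e : V →ₗ[F] V')) := by
  refine ⟨Inv.tr h.inv, map_ne_bot h.ne_bot, fun Y hY hYi => ?_⟩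
  have h1 : Y.map (e.symm : V' →ₗ[F] V) ≤ X := by
    rw [← map_map_symm e X]
    exact Submodule.map_mono hY
  rcases h.min _ h1 (Inv.tr' hYi) with h2 | h2
  · left; rw [← map_symm_map e Y, h2, Submodule.map_bot]
  · right; rw [← map_symm_map e Y, h2]

theorem Irr.tr' {e : V ≃ₗ[F] V'} {g : V ≃ₗ[F] V} {X : Submodule F V'} (h : Irr (Cfsg.Agent.H440.Bs.tr e g) X) :
    Irr g (X.map (e.symm : V' →ₗ[F] V)) := by
  have := Irr.tr (e := e.symm) h
  rwa [tr_symm_tr] at this

theorem NdOn.tr {e : V ≃ₗ[F] V'} (h : IsoTo Φ Φ' e) {X : Submodule F V} (hX : Φ.NdOn X) :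
    Φ'.NdOn (X.map (e : V →ₗ[F] V')) := by
  rintro _ ⟨v, hv, rfl⟩ h1
  have : v = 0 := hX v hv fun w hw => by
    rw [← h.B]
    exact h1 _ (Submodule.mem_map_of_mem (f := (e : V →ₗ[F] V')) hw)
  rw [this, map_zero]

theorem tr_mem_SS {e : V ≃ₗ[F] V'} (h : IsoTo Φ Φ' e) {K d : ℕ} {g : V ≃ₗ[F] V} (hg : g ∈ Φ.SS K d) :
    tr e g ∈ Φ'.SS K d := by
  obtain ⟨h1, h2, h3⟩ := hg
  have h4 : ∀ Y : Submodule F V', finrank F (Y.map (e.symm : V' →ₗ[F] V)) = finrank F Y :=
    fun Y => LinearEquiv.finrank_map_eq e.symm Y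
  refine ⟨tr_mem_iso h h1, fun Y hY hY0 => ?_, fun X hX => ?_⟩
  · rw [← h4]
    exact h2 _ (Inv.tr' hY) (map_ne_bot hY0)
  · have h5 := h3 _ (Irr.tr' hX)
    rw [h4] at h5
    refine ⟨h5.1, fun h6 => ?_⟩
    rw [← map_symm_map e X]
    exact NdOn.tr h (h5.2 h6)

theorem tr_mem_SS_iff {e : V ≃ₗ[F] V'} (h : IsoTo Φ Φ' e) {K d : ℕ} {g : V ≃ₗ[F] V} :
    tr e g ∈ Φ'.SS K d ↔ g ∈ Φ.SS K d := by
  refine ⟨fun h1 => ?_, tr_mem_SS h⟩
  have := tr_mem_SS h.symm h1
  rwa [tr_symm_tr] at this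

theorem card_iso {e : V ≃ₗ[F] V'} (h : IsoTo Φ Φ' e) : Nat.card Φ.Iso = Nat.card Φ'.Iso :=
  Nat.card_congr ((tr e).toEquiv.subtypeEquiv fun _ => (tr_mem_iso_iff h).symm)

theorem card_SS {e : V ≃ₗ[F] V'} (h : IsoTo Φ Φ' e) (K d : ℕ) : Nat.card (Φ.SS K d) = Nat.card (Φ'.SS K d) :=
  Nat.card_congr ((tr e).toEquiv.subtypeEquiv fun _ => (tr_mem_SS_iff h).symm)

/-- the determinant is invariant -/
theorem det_tr (e : V ≃ₗ[F] V') (g : V ≃ₗ[F] V) :
    LinearMap.det ((tr e g : V' ≃ₗ[F] V') : V' →ₗ[F] V') = LinearMap.det (g : V →ₗ[F] V) := by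
  have : ((tr e g : V' ≃ₗ[F] V') : V' →ₗ[F] V') = (e : V →ₗ[F] V') ∘ₗ (g : V →ₗ[F] V) ∘ₗ (e.symm : V' →ₗ[F] V) := by
    ext v; rfl
  rw [this, LinearMap.det_conj]

/-! ### the trivial cases -/

theorem subsingleton_of_finrank_zero [FiniteDimensional F V] (h : finrank F V = 0) : Subsingleton V :=
  Module.finrank_zero_iff.1 h

theorem SS_of_finrank_zero [FiniteDimensional F V] (h : finrank F V = 0) (K d : ℕ) (y : V ≃ₗ[F] V) :
    y ∈ Φ.SS K d := by
  have := subsingleton_of_finrank_zero h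
  refine ⟨⟨fun v w => ?_, fun v => ?_⟩, fun Y _ hY => absurd (Subsingleton.elim Y ⊥) hY,
    fun X hX => absurd (Subsingleton.elim X ⊥) hX.ne_bot⟩
  · rw [Subsingleton.elim (y v) v, Subsingleton.elim (y w) w]
  · rw [Subsingleton.elim (y v) v]

/-- spaces of dimension zero -/
theorem card_SS_zero [FiniteDimensional F V] (h : finrank F V = 0) (K d : ℕ) : Nat.card (Φ.SS K d) = 1 := by
  have := subsingleton_of_finrank_zero h
  have h1 : Subsingleton (Φ.SS K d) := ⟨fun a b => Subtype.ext (LinearEquiv.ext fun v => Subsingleton.elim _ _)⟩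
  have h2 : Nonempty (Φ.SS K d) := ⟨⟨1, SS_of_finrank_zero h K d 1⟩⟩
  exact Nat.card_eq_one_iff_unique.2 ⟨h1, h2⟩

theorem card_iso_zero [FiniteDimensional F V] (h : finrank F V = 0) : Nat.card Φ.Iso = 1 := by
  have := subsingleton_of_finrank_zero h
  have h1 : Subsingleton Φ.Iso := ⟨fun a b => Subtype.ext (LinearEquiv.ext fun v => Subsingleton.elim _ _)⟩
  exact Nat.card_eq_one_iff_unique.2 ⟨h1, ⟨1⟩⟩

end Cfsg.Agent.H440.Bs
end

-- part: H765/Bs/Split
section
prune_inst 0x30007104254002000018051062201c62b6000422004b8400252003820ec14ce2e0c22e21abb0051d4a261cc528350048138800200000000000200000011d018000001006a1480100220098000000000000000000310000000000000000000000000000000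
set_option linter.all false
open scoped Cfsg.Agent.FastGrp

-- part: H765/Bs/Ti
section
/-!
# S5733, BS23: the trivial intersection property (helper765)

`ti` : if `g` conjugates `J (a, b, c)` into `J (a', b', c')`, where `b` is of type plus and `c'` has no small invariant
subspaces, then `g` is block diagonal.
-/

set_option autoImplicit false
set_option linter.unusedSectionVars false

namespace Cfsg.Agent.H765.Bs

open QuadraticMap Cfsg.Agent.LieClassical.OrthCore Cfsg.Agent.H847.Bs Module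

variable {F V W D U : Type*} [Field F] [AddCommGroup V] [Module F V] [AddCommGroup W] [Module F W]
  [AddCommGroup D] [Module F D] [AddCommGroup U] [Module F U]
  {e : (W × D × U) ≃ₗ[F] V} {Q : QuadraticForm F V} {QW : QuadraticForm F W} {QD : QuadraticForm F D}
  {QU : QuadraticForm F U}

section maps

variable (e)

def iW : W →ₗ[F] V := (e : (W × D × U) →ₗ[F] V) ∘ₗ LinearMap.inl F W (D × U)
def iD : D →ₗ[F] V := (e : (W × D × U) →ₗ[F] V) ∘ₗ LinearMap.inr F W (D × U) ∘ₗ LinearMap.inl F D U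
def iU : U →ₗ[F] V := (e : (W × D × U) →ₗ[F] V) ∘ₗ LinearMap.inr F W (D × U) ∘ₗ LinearMap.inr F D U
def pW : V →ₗ[F] W := LinearMap.fst F W (D × U) ∘ₗ (e.symm : V →ₗ[F] (W × D × U))
def pD : V →ₗ[F] D := LinearMap.fst F D U ∘ₗ LinearMap.snd F W (D × U) ∘ₗ (e.symm : V →ₗ[F] (W × D × U))
def pU : V →ₗ[F] U := LinearMap.snd F D U ∘ₗ LinearMap.snd F W (D × U) ∘ₗ (e.symm : V →ₗ[F] (W × D × U))

variable {e}

theorem iW_apply (w : W) : iW e w = e (w, 0, 0) := rfl
theorem iD_apply (d : D) : iD e d = e (0, d, 0) := rfl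
theorem iU_apply (u : U) : iU e u = e (0, 0, u) := rfl

theorem e_eq (w : W) (d : D) (u : U) : e (w, d, u) = iW e w + iD e d + iU e u := by
  rw [iW_apply, iD_apply, iU_apply, ← map_add, ← map_add]
  simp

theorem e_p (v : V) : e (pW e v, pD e v, pU e v) = v := by
  change e (e.symm v) = v
  rw [LinearEquiv.apply_symm_apply]

theorem p_e (w : W) (d : D) (u : U) : pW e (e (w, d, u)) = w ∧ pD e (e (w, d, u)) = d ∧ pU e (e (w, d, u)) = u := by
  refine ⟨?_, ?_, ?_⟩ <;> simp [pW, pD, pU]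

theorem p_J (a : W ≃ₗ[F] W) (b : D ≃ₗ[F] D) (c : U ≃ₗ[F] U) (v : V) :
    pW e (J e (a, b, c) v) = a (pW e v) ∧ pD e (J e (a, b, c) v) = b (pD e v) ∧ pU e (J e (a, b, c) v) = c (pU e v) := by
  obtain ⟨⟨w, d, u⟩, rfl⟩ := e.surjective v
  rw [J_apply]
  obtain ⟨h1, h2, h3⟩ := p_e (e := e) w d u
  obtain ⟨h4, h5, h6⟩ := p_e (e := e) (a w) (b d) (c u)
  rw [h1, h2, h3, h4, h5, h6]
  exact ⟨rfl, rfl, rfl⟩

end maps

variable [FiniteDimensional F W] [FiniteDimensional F D] [FiniteDimensional F U]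

/-- the image of a small module in a module without small submodules -/
theorem zero_of_small {X : Type*} [AddCommGroup X] [Module F X] {K : ℕ} {c' : U ≃ₗ[F] U}
    (hc' : ∀ Y : Submodule F U, Inv c' Y → Y ≠ ⊥ → K < finrank F Y) (A : Submodule F X) [FiniteDimensional F A]
    (hA : finrank F A ≤ K) (f : X →ₗ[F] U) (hf : ∀ y ∈ A, ∃ y' ∈ A, c' (f y) = f y') : ∀ y ∈ A, f y = 0 := by
  by_contra hcon
  push Not at hcon
  obtain ⟨y, hy, hne⟩ := hcon
  have h1 : A.map f ≠ ⊥ := by
    intro h0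
    have : f y ∈ A.map f := Submodule.mem_map_of_mem hy
    rw [h0, Submodule.mem_bot] at this
    exact hne this
  have h2 := hc' (A.map f) (by
    rintro _ ⟨y, hy, rfl⟩
    obtain ⟨y', hy', h⟩ := hf y hy
    rw [h]
    exact Submodule.mem_map_of_mem hy') h1
  have h3 := Submodule.finrank_map_le f A
  omega

theorem ti [FiniteDimensional F V] (he : Iso3 Q QW QD QU e) (hQ : Nondeg Q) {j K : ℕ} (hW : finrank F W < j) (hK : j ≤ K)
    (hD : finrank F D = 2 * j) {a a' : W ≃ₗ[F] W} {b b' : D ≃ₗ[F] D} {c c' : U ≃ₗ[F] U}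
    (hb : b ∈ (frmQ QD).Bp) (hc' : ∀ Y : Submodule F U, Inv c' Y → Y ≠ ⊥ → K < finrank F Y) {g : V ≃ₗ[F] V}
    (hg : g ∈ O Q) (h : g * J e (a, b, c) * g⁻¹ = J e (a', b', c')) : ∃ x, g = J e x := by
  obtain ⟨-, A, A', hAA, -, -, hA, hA', hdim, -⟩ := hb
  have hgx : ∀ v, g (J e (a, b, c) v) = J e (a', b', c') (g v) := by
    intro v
    have h1 : g * J e (a, b, c) = J e (a', b', c') * g := by rw [← h]; group
    exact congrArg (fun f : V ≃ₗ[F] V => f v) h1
  have hsum := Submodule.finrank_add_eq_of_isCompl hAA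
  have hxD : ∀ y : D, g (iD e (b y)) = J e (a', b', c') (g (iD e y)) := by
    intro y
    rw [← hgx, iD_apply, iD_apply, J_apply, map_zero, map_zero]
  have hxW : ∀ y : W, g (iW e (a y)) = J e (a', b', c') (g (iW e y)) := by
    intro y
    rw [← hgx, iW_apply, iW_apply, J_apply, map_zero, map_zero]
  -- the image of an irreducible part of `D`
  have part : ∀ B : Submodule F D, Irr b B → finrank F B = j → ∀ y ∈ B, pW e (g (iD e y)) = 0 ∧ pU e (g (iD e y)) = 0 := by
    intro B hB hBj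
    have h1 : ∀ y ∈ B, pU e (g (iD e y)) = 0 := by
      refine zero_of_small hc' B (by omega) (pU e ∘ₗ (g : V →ₗ[F] V) ∘ₗ iD e) ?_
      intro y hy
      refine ⟨b y, hB.inv y hy, ?_⟩
      change c' (pU e (g (iD e y))) = pU e (g (iD e (b y)))
      rw [hxD, (p_J _ _ _ _).2.2]
    let φ : D →ₗ[F] W := pW e ∘ₗ (g : V →ₗ[F] V) ∘ₗ iD e
    have hφ : ∀ y, φ (b y) = a' (φ y) := by
      intro y
      change pW e (g (iD e (b y))) = a' (pW e (g (iD e y)))
      rw [hxD, (p_J _ _ _ _).1]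
    have h2 := hB.min (B ⊓ LinearMap.ker φ) inf_le_left (by
      rintro y ⟨hy1, hy2⟩
      refine ⟨hB.inv y hy1, ?_⟩
      have hy3 : φ y = 0 := hy2
      change φ (b y) = 0
      rw [hφ, hy3, map_zero])
    have h3 : B ⊓ LinearMap.ker φ = B := by
      refine h2.resolve_left ?_
      intro h0
      have h4 : Function.Injective (φ.domRestrict B) := by
        rw [← LinearMap.ker_eq_bot, eq_bot_iff]
        intro y hy
        have h5 : (y : D) ∈ B ⊓ LinearMap.ker φ := ⟨y.2, hy⟩
        rw [h0, Submodule.mem_bot] at h5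
        rw [Submodule.mem_bot]
        exact Subtype.ext h5
      have h5 := LinearMap.finrank_le_finrank_of_injective h4
      omega
    intro y hy
    refine ⟨?_, h1 y hy⟩
    rw [← h3] at hy
    exact hy.2
  have hDall : ∀ y : D, pW e (g (iD e y)) = 0 ∧ pU e (g (iD e y)) = 0 := by
    intro y
    have hy : y ∈ A ⊔ A' := by rw [hAA.sup_eq_top]; trivial
    obtain ⟨y1, hy1, y2, hy2, rfl⟩ := Submodule.mem_sup.1 hy
    obtain ⟨h1, h2⟩ := part A hA (by omega) y1 hy1
    obtain ⟨h3, h4⟩ := part A' hA' (by omega) y2 hy2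
    rw [map_add, map_add, map_add, map_add, h1, h2, h3, h4]
    simp
  have inj : ∀ v : V, pW e v = 0 → pD e v = 0 → pU e v = 0 → v = 0 := by
    intro v h1 h2 h3
    rw [← e_p (e := e) v, h1, h2, h3]
    exact map_zero e
  -- the block `D`
  let b0 : D →ₗ[F] D := pD e ∘ₗ (g : V →ₗ[F] V) ∘ₗ iD e
  have hgD : ∀ y, g (iD e y) = iD e (b0 y) := by
    intro y
    rw [← e_p (e := e) (g (iD e y)), (hDall y).1, (hDall y).2]
    rfl
  have hiD : Function.Injective (iD e) := fun x y hxy => by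
    have := e.injective hxy
    exact congrArg (fun t => t.2.1) this
  have hiW : Function.Injective (iW e) := fun x y hxy => by
    have := e.injective hxy
    exact congrArg (fun t => t.1) this
  have hiU : Function.Injective (iU e) := fun x y hxy => by
    have := e.injective hxy
    exact congrArg (fun t => t.2.2) this
  have hb0 : Function.Injective b0 := by
    intro x y hxy
    apply hiD
    apply g.injective
    rw [hgD, hgD, hxy]
  have hb0s : Function.Surjective b0 := (LinearMap.injective_iff_surjective).1 hb0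
  have perpD : ∀ v : V, (∀ y : D, polar Q v (iD e y) = 0) → pD e (g v) = 0 := by
    intro v hv
    apply he.nondegD hQ
    intro y'
    obtain ⟨y, rfl⟩ := hb0s y'
    have h1 := hv y
    rw [← polar_map hg, hgD, ← e_p (e := e) (g v), iD_apply, he.polar] at h1
    simpa only [QuadraticMap.polar, _root_.QuadraticMap.polar, _root_.add_zero, _root_.sub_self, _root_.map_zero, _root_.zero_add] using h1
  -- the block `W`
  have hWU : ∀ w : W, pU e (g (iW e w)) = 0 := by
    intro w
    refine zero_of_small hc' (⊤ : Submodule F W) (by rw [finrank_top]; omega) (pU e ∘ₗ (g : V →ₗ[F] V) ∘ₗ iW e) ?_ w trivial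
    intro y _
    refine ⟨a y, trivial, ?_⟩
    change c' (pU e (g (iW e y))) = pU e (g (iW e (a y)))
    rw [hxW, (p_J _ _ _ _).2.2]
  have hWD : ∀ w : W, pD e (g (iW e w)) = 0 := by
    intro w
    apply perpD
    intro y
    rw [iW_apply, iD_apply, he.polar]
    simp [QuadraticMap.polar]
  let a0 : W →ₗ[F] W := pW e ∘ₗ (g : V →ₗ[F] V) ∘ₗ iW e
  have hgW : ∀ y, g (iW e y) = iW e (a0 y) := by
    intro y
    rw [← e_p (e := e) (g (iW e y)), hWD, hWU]
    rfl
  have ha0 : Function.Injective a0 := by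
    intro x y hxy
    apply hiW
    apply g.injective
    rw [hgW, hgW, hxy]
  have ha0s : Function.Surjective a0 := (LinearMap.injective_iff_surjective).1 ha0
  -- the block `U`
  have hUD : ∀ u : U, pD e (g (iU e u)) = 0 := by
    intro u
    apply perpD
    intro y
    rw [iU_apply, iD_apply, he.polar]
    simp [QuadraticMap.polar]
  have hUW : ∀ u : U, pW e (g (iU e u)) = 0 := by
    intro u
    apply he.nondegW hQ
    intro y'
    obtain ⟨y, rfl⟩ := ha0s y'
    have h1 : polar Q (iU e u) (iW e y) = 0 := by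
      rw [iU_apply, iW_apply, he.polar]
      simp [QuadraticMap.polar]
    rw [← polar_map hg, hgW, ← e_p (e := e) (g (iU e u)), iW_apply, he.polar] at h1
    simpa only [QuadraticMap.polar, _root_.QuadraticMap.polar, _root_.add_zero, _root_.sub_self, _root_.map_zero] using h1
  let c0 : U →ₗ[F] U := pU e ∘ₗ (g : V →ₗ[F] V) ∘ₗ iU e
  have hgU : ∀ y, g (iU e y) = iU e (c0 y) := by
    intro y
    rw [← e_p (e := e) (g (iU e y)), hUD, hUW]
    rfl
  have hc0 : Function.Injective c0 := by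
    intro x y hxy
    apply hiU
    apply g.injective
    rw [hgU, hgU, hxy]
  refine ⟨(LinearEquiv.ofInjectiveEndo a0 ha0, LinearEquiv.ofInjectiveEndo b0 hb0, LinearEquiv.ofInjectiveEndo c0 hc0), ?_⟩
  apply eq_of_apply e
  intro w d u
  rw [J_apply]
  simp only [LinearEquiv.coe_ofInjectiveEndo]
  rw [e_eq, e_eq, map_add, map_add, hgW, hgD, hgU]

end Cfsg.Agent.H765.Bs
end

-- part: H765/Bs/Split
section
/-!
# S5733, BS23: existence of the decomposition `V = W ⟂ D ⟂ U` (helper765)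

`split_hyp` : a hyperbolic plane splits off; `split` : `m` hyperbolic planes; `exists_dec`.
-/

set_option autoImplicit false
set_option linter.unusedSectionVars false

namespace Cfsg.Agent.H765.Bs

open QuadraticMap Cfsg.Agent.LieClassical.OrthCore Cfsg.Agent.LieClassical.OrthTrans
  Cfsg.Agent.LieClassical.OrthFinite Cfsg.Agent.H847.Bs Module

variable {F V : Type} [Field F] [AddCommGroup V] [Module F V] {Q : QuadraticForm F V}

/-- the orthogonal space of a hyperbolic pair -/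
def hperp (Q : QuadraticForm F V) (x y : V) : Submodule F V where
  carrier := {v | polar Q x v = 0 ∧ polar Q y v = 0}
  add_mem' := by
    rintro a b ⟨h1, h2⟩ ⟨h3, h4⟩
    exact ⟨by rw [polar_add_right, h1, h3, add_zero], by rw [polar_add_right, h2, h4, add_zero]⟩
  zero_mem' := ⟨polar_zero_right Q x, polar_zero_right Q y⟩
  smul_mem' := by
    rintro c a ⟨h1, h2⟩
    exact ⟨by rw [polar_smul_right, h1, smul_zero], by rw [polar_smul_right, h2, smul_zero]⟩

/-- splitting off a hyperbolic plane -/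
noncomputable def hypE {x y : V} (h : Hyp Q x y) : ((F × F) × hperp Q x y) ≃ₗ[F] V where
  toFun t := t.1.1 • x + t.1.2 • y + t.2
  invFun v := ((polar Q y v, polar Q x v), ⟨LieClassical.OrthTrans.proj Q x y v, polar_proj_left h v, polar_proj_right h v⟩)
  map_add' s t := by
    simp only [Prod.fst_add, Prod.snd_add, Submodule.coe_add]
    module
  map_smul' c t := by
    simp only [Prod.smul_fst, Prod.smul_snd, Submodule.coe_smul, smul_eq_mul, RingHom.id_apply]
    module
  left_inv t := by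
    obtain ⟨⟨s, t⟩, ⟨v, hv1, hv2⟩⟩ := t
    have h1 : polar Q y (s • x + t • y + v) = s := by
      rw [polar_add_right, polar_add_right, polar_smul_right, polar_smul_right, h.pair', h.polar_right, hv2]
      simp
    have h2 : polar Q x (s • x + t • y + v) = t := by
      rw [polar_add_right, polar_add_right, polar_smul_right, polar_smul_right, h.pair, h.polar_left, hv1]
      simp
    refine Prod.ext (Prod.ext h1 h2) (Subtype.ext ?_)
    simp only [LieClassical.OrthTrans.proj, h1, h2]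
    module
  right_inv v := by
    simp only [LieClassical.OrthTrans.proj]
    module

theorem hypE_Q {x y : V} (h : Hyp Q x y) (s t : F) (v : hperp Q x y) :
    Q (hypE h ((s, t), v)) = s * t + Q v := by
  change Q (s • x + t • y + (v : V)) = _
  have h1 : polar Q (s • x + t • y) v = 0 := by
    rw [polar_add_left, polar_smul_left, polar_smul_left, v.2.1, v.2.2]
    simp
  rw [Q_add, Q_add, h1, QuadraticMap.map_smul, QuadraticMap.map_smul, h.left, h.right, polar_smul_left,
    polar_smul_right, h.pair]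
  simp

theorem nondeg_hperp {x y : V} (hQ : Nondeg Q) (h : Hyp Q x y) : Nondeg (Q.comp (hperp Q x y).subtype) := by
  rintro ⟨v, hv1, hv2⟩ hv
  apply Subtype.ext
  apply hQ
  intro w
  have h1 := hv ⟨LieClassical.OrthTrans.proj Q x y w, polar_proj_left h w, polar_proj_right h w⟩
  have h2 : polar Q v (LieClassical.OrthTrans.proj Q x y w) = 0 := h1
  rwa [polar_proj_of_perp hv1 hv2] at h2

/-- **`m` hyperbolic planes split off** -/
theorem split [Finite F] (m : ℕ) : ∀ (V : Type) [AddCommGroup V] [Module F V] [FiniteDimensional F V] (Q : QuadraticForm F V),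
    Nondeg Q → 2 * m + 1 ≤ finrank F V → ∃ (V' : Type) (_ : AddCommGroup V') (_ : Module F V')
      (_ : FiniteDimensional F V') (Q' : QuadraticForm F V'), Nondeg Q' ∧ finrank F V' + 2 * m = finrank F V ∧
      ∃ e : ((Fin m → F × F) × V') ≃ₗ[F] V, ∀ x v, Q (e (x, v)) = (∑ i, (x i).1 * (x i).2) + Q' v := by
  induction m with
  | zero =>
    intro V _ _ _ Q hQ hd
    refine ⟨V, inferInstance, inferInstance, inferInstance, Q, hQ, by simp, LinearEquiv.uniqueProd, ?_⟩
    intro x v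
    simp
  | succ m ih =>
    intro V _ _ _ Q hQ hd
    obtain ⟨x, -, hx0, hx⟩ := exists_sing_mem (Q := Q) (⊤ : Submodule F V) (by rw [finrank_top]; omega)
    obtain ⟨y, h⟩ := exists_hyp hQ hx hx0
    have h1 : finrank F ((F × F) × hperp Q x y) = finrank F V := (hypE h).finrank_eq
    rw [finrank_prod, finrank_prod, finrank_self] at h1
    obtain ⟨V', i1, i2, i3, Q', hQ', hd', e, he⟩ := ih (hperp Q x y) (Q.comp (hperp Q x y).subtype)
      (nondeg_hperp hQ h) (by omega)
    refine ⟨V', i1, i2, i3, Q', hQ', by omega, ?_, ?_⟩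
    · exact ((Fin.consLinearEquiv F (fun _ : Fin (m + 1) => F × F)).symm.prodCongr (LinearEquiv.refl F V')) ≪≫ₗ
        (LinearEquiv.prodAssoc F (F × F) (Fin m → F × F) V') ≪≫ₗ ((LinearEquiv.refl F (F × F)).prodCongr e) ≪≫ₗ hypE h
    · intro x' v
      have e1 : ∀ (a : F × F) (b : Fin m → F × F), Q (hypE h (a, e (b, v))) = a.1 * a.2 + ((∑ i, (b i).1 * (b i).2) + Q' v) := by
        rintro ⟨s, t⟩ b
        rw [hypE_Q, ← he]
        rfl
      have e2 := e1 (x' 0) (fun i => x' i.succ)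
      rw [Fin.sum_univ_succ, add_assoc]
      exact e2

/-- a nondegenerate form of odd dimension: odd characteristic -/
theorem two_ne_of_odd [Finite F] [FiniteDimensional F V] (hQ : Nondeg Q) {m : ℕ} (hm : finrank F V = 2 * m + 1) :
    (2 : F) ≠ 0 := by
  intro h2
  obtain ⟨V', i1, i2, i3, Q', hQ', hd, -⟩ := split m V Q hQ (by omega)
  have h1 : finrank F V' = 1 := by omega
  obtain ⟨v, hv0, hv⟩ := finrank_eq_one_iff'.1 h1
  apply hv0
  apply hQ'
  intro y
  obtain ⟨c, rfl⟩ := hv y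
  rw [polar_smul_right, polar_self', h2, zero_mul, smul_zero]

/-- the orthogonal space of a vector -/
def vperp (Q : QuadraticForm F V) (x : V) : Submodule F V where
  carrier := {v | polar Q x v = 0}
  add_mem' := by
    intro a b h1 h3
    have h1' : polar Q x a = 0 := h1
    have h3' : polar Q x b = 0 := h3
    change polar Q x (a + b) = 0
    rw [polar_add_right, h1', h3', add_zero]
  zero_mem' := polar_zero_right Q x
  smul_mem' := by
    intro c a h1
    have h1' : polar Q x a = 0 := h1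
    change polar Q x (c • a) = 0
    rw [polar_smul_right, h1', smul_zero]

/-- splitting off a line -/
theorem split_line [FiniteDimensional F V] (h2 : (2 : F) ≠ 0) (hQ : Nondeg Q) (hd : 0 < finrank F V) :
    ∃ (V' : Type) (_ : AddCommGroup V') (_ : Module F V') (_ : FiniteDimensional F V') (Q' : QuadraticForm F V'),
      Nondeg Q' ∧ finrank F V' + 1 = finrank F V ∧ ∃ (a : F) (e : (F × V') ≃ₗ[F] V),
      ∀ t v, Q (e (t, v)) = a * (t * t) + Q' v := by
  obtain ⟨x, hx⟩ : ∃ x : V, Q x ≠ 0 := by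
    by_contra hcon
    push Not at hcon
    have : Nontrivial V := Module.finrank_pos_iff.1 hd
    obtain ⟨v, hv⟩ := exists_ne (0 : V)
    apply hv
    apply hQ
    intro y
    rw [QuadraticMap.polar, hcon, hcon, hcon]
    ring
  have hxx : polar Q x x ≠ 0 := by
    rw [polar_self']
    exact mul_ne_zero h2 hx
  let e : (F × vperp Q x) ≃ₗ[F] V :=
    { toFun := fun t => t.1 • x + t.2
      invFun := fun v => ((polar Q x x)⁻¹ * polar Q x v, ⟨v - ((polar Q x x)⁻¹ * polar Q x v) • x, by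
        change polar Q x _ = 0
        rw [polar_sub_right, polar_smul_right, smul_eq_mul, mul_right_comm, inv_mul_cancel₀ hxx, one_mul, sub_self]⟩)
      map_add' := by
        intro s t
        simp only [Prod.fst_add, Prod.snd_add, Submodule.coe_add]
        module
      map_smul' := by
        intro c t
        simp only [Prod.smul_fst, Prod.smul_snd, Submodule.coe_smul, smul_eq_mul, RingHom.id_apply]
        module
      left_inv := by
        rintro ⟨t, ⟨v, hv⟩⟩
        have hv' : polar Q x v = 0 := hv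
        have h1 : (polar Q x x)⁻¹ * polar Q x (t • x + v) = t := by
          rw [polar_add_right, polar_smul_right, hv', add_zero, smul_eq_mul, mul_comm t, ← mul_assoc,
            inv_mul_cancel₀ hxx, one_mul]
        refine Prod.ext h1 (Subtype.ext ?_)
        change t • x + v - ((polar Q x x)⁻¹ * polar Q x (t • x + v)) • x = v
        rw [h1]
        abel
      right_inv := by
        intro v
        change ((polar Q x x)⁻¹ * polar Q x v) • x + (v - ((polar Q x x)⁻¹ * polar Q x v) • x) = v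
        abel }
  have hfd := e.finrank_eq
  rw [finrank_prod, finrank_self] at hfd
  refine ⟨vperp Q x, inferInstance, inferInstance, inferInstance, Q.comp (vperp Q x).subtype, ?_, by omega, Q x, e, ?_⟩
  · rintro ⟨v, hv⟩ hv1
    have hv' : polar Q x v = 0 := hv
    apply Subtype.ext
    apply hQ
    intro w
    obtain ⟨⟨t, u⟩, rfl⟩ := e.surjective w
    change polar Q v (t • x + u) = 0
    have h3 : polar Q v u = 0 := hv1 u
    rw [polar_add_right, polar_smul_right, polar_comm Q v x, hv', h3, smul_zero, add_zero]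
  · rintro t ⟨v, hv⟩
    have hv' : polar Q x v = 0 := hv
    change Q (t • x + v) = _
    rw [Q_add, QuadraticMap.map_smul, polar_smul_left, hv', smul_zero, add_zero, smul_eq_mul]
    change _ = Q x * (t * t) + Q v
    ring

/-- the orthogonal sum of `m` hyperbolic planes -/
noncomputable def qH (F : Type) [Field F] (m : ℕ) : QuadraticForm F (Fin m → F × F) :=
  ∑ i, QuadraticMap.linMulLin ((LinearMap.fst F F F) ∘ₗ (LinearMap.proj i)) ((LinearMap.snd F F F) ∘ₗ (LinearMap.proj i))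

theorem qH_apply (m : ℕ) (x : Fin m → F × F) : qH F m x = ∑ i, (x i).1 * (x i).2 := by
  simp only [qH, _root_.Cfsg.Agent.H765.Bs.qH, _root_.sum_apply, _root_.QuadraticMap.linMulLin_apply, _root_.LinearMap.coe_comp, _root_.LinearMap.coe_fst, _root_.LinearMap.coe_proj, _root_.Function.comp_apply, _root_.Function.eval, _root_.LinearMap.coe_snd]

theorem plusT_qH (m : ℕ) : PlusT (qH F m) := by
  let i : (Fin m → F) →ₗ[F] (Fin m → F × F) :=
    LinearMap.pi fun k => (LinearMap.inl F F F) ∘ₗ (LinearMap.proj k)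
  have hi : ∀ x k, i x k = (x k, 0) := fun x k => rfl
  have hinj : Function.Injective i := by
    intro x y hxy
    funext k
    have := congrFun hxy k
    rw [hi, hi] at this
    exact congrArg Prod.fst this
  have hQ0 : ∀ x, qH F m (i x) = 0 := by
    intro x
    rw [qH_apply]
    refine Finset.sum_eq_zero fun k _ => ?_
    rw [hi]
    simp
  refine ⟨LinearMap.range i, ⟨?_, ?_⟩, ?_⟩
  · rintro _ ⟨x, rfl⟩ _ ⟨y, rfl⟩
    change polar (qH F m) (i x) (i y) = 0
    rw [QuadraticMap.polar, ← map_add, hQ0, hQ0, hQ0]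
    ring
  · rintro _ ⟨x, rfl⟩
    exact hQ0 x
  · rw [LinearMap.finrank_range_of_inj hinj]
    simp [Module.finrank_pi_fintype, Module.finrank_prod]
    ring

theorem finrank_H (m : ℕ) : finrank F (Fin m → F × F) = 2 * m := by
  simp only [Module.finrank_pi_fintype, Module.finrank_prod, _root_.Module.finrank_pi_fintype, _root_.Module.finrank_prod, _root_.Module.finrank_self, _root_.Nat.reduceAdd, _root_.Finset.sum_const, _root_.Finset.card_univ, _root_.Fintype.card_fin, _root_.smul_eq_mul]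
  ring

/-- **the decomposition** -/
theorem exists_dec [Finite F] [FiniteDimensional F V] (hQ : Nondeg Q) (j : ℕ) (hd : 2 * (4 + j) + 3 ≤ finrank F V) :
    ∃ (W D U : Type) (_ : AddCommGroup W) (_ : Module F W) (_ : FiniteDimensional F W) (_ : AddCommGroup D)
      (_ : Module F D) (_ : FiniteDimensional F D) (_ : AddCommGroup U) (_ : Module F U) (_ : FiniteDimensional F U)
      (QW : QuadraticForm F W) (QD : QuadraticForm F D) (QU : QuadraticForm F U) (e : (W × D × U) ≃ₗ[F] V),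
      Iso3 Q QW QD QU e ∧ (finrank F W = 8 ∨ finrank F W = 9) ∧ finrank F D = 2 * j ∧ PlusT QD ∧
      (∃ m, finrank F U = 2 * m) ∧ finrank F V = finrank F W + finrank F D + finrank F U := by
  obtain ⟨V1, i1, i2, i3, Q1, hQ1, hd1, e1, he1⟩ := split 4 V Q hQ (by omega)
  obtain ⟨V2, j1, j2, j3, Q2, hQ2, hd2, e2, he2⟩ := split j V1 Q1 hQ1 (by omega)
  rcases Nat.even_or_odd' (finrank F V2) with ⟨m, hm | hm⟩
  · refine ⟨Fin 4 → F × F, Fin j → F × F, V2, inferInstance, inferInstance, inferInstance, inferInstance, inferInstance,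
      inferInstance, j1, j2, j3, qH F 4, qH F j, Q2, ((LinearEquiv.refl F (Fin 4 → F × F)).prodCongr e2) ≪≫ₗ e1, ?_, ?_,
      finrank_H j, plusT_qH j, ⟨m, hm⟩, ?_⟩
    · intro w d u
      change Q (e1 (w, e2 (d, u))) = _
      rw [he1, he2, qH_apply, qH_apply]
      ring
    · left; rw [finrank_H]
    · rw [finrank_H, finrank_H]; omega
  · have h2 := two_ne_of_odd hQ2 hm
    obtain ⟨V3, k1, k2, k3, Q3, hQ3, hd3, a, e3, he3⟩ := split_line h2 hQ2 (by omega)
    let s : (((Fin 4 → F × F) × F) × (Fin j → F × F) × V3) ≃ₗ[F] ((Fin 4 → F × F) × ((Fin j → F × F) × (F × V3))) :=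
      { toFun := fun x => (x.1.1, (x.2.1, (x.1.2, x.2.2)))
        invFun := fun x => ((x.1, x.2.2.1), (x.2.1, x.2.2.2))
        map_add' := fun _ _ => rfl
        map_smul' := fun _ _ => rfl
        left_inv := fun _ => rfl
        right_inv := fun _ => rfl }
    let QW : QuadraticForm F ((Fin 4 → F × F) × F) :=
      (qH F 4).comp (LinearMap.fst F (Fin 4 → F × F) F) +
        a • QuadraticMap.linMulLin (LinearMap.snd F (Fin 4 → F × F) F) (LinearMap.snd F (Fin 4 → F × F) F)
    refine ⟨(Fin 4 → F × F) × F, Fin j → F × F, V3, inferInstance, inferInstance, inferInstance, inferInstance,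
      inferInstance, inferInstance, k1, k2, k3, QW, qH F j, Q3,
      s ≪≫ₗ ((LinearEquiv.refl F (Fin 4 → F × F)).prodCongr ((LinearEquiv.refl F (Fin j → F × F)).prodCongr e3)) ≪≫ₗ
        ((LinearEquiv.refl F (Fin 4 → F × F)).prodCongr e2) ≪≫ₗ e1, ?_, ?_, finrank_H j, plusT_qH j, ⟨m, by omega⟩, ?_⟩
    · rintro ⟨w, t⟩ d u
      change Q (e1 (w, e2 (d, e3 (t, u)))) = _
      rw [he1, he2, he3, qH_apply]
      have e5 : QW (w, t) = (∑ i, (w i).1 * (w i).2) + a * (t * t) := by
        simp [QW, qH_apply]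
      rw [e5]
      ring
    · right; rw [finrank_prod, finrank_H, finrank_self]
    · rw [finrank_prod, finrank_H, finrank_H, finrank_self]; omega

end Cfsg.Agent.H765.Bs
end

private theorem dce_d3314c3f402c : _root_.True := by
  try have : _root_.True := by simp only [_root_.LinearEquiv.ofInjectiveEndo.congr_simp]
  try have : _root_.True := by simp only [_root_.Cfsg.Agent.H765.Bs.pD.eq_1]
  try have : _root_.True := by simp only [_root_.Cfsg.Agent.H765.Bs.pU.eq_1]
  try have : _root_.True := by simp only [_root_.Cfsg.Agent.H765.Bs.qH.eq_1]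
  try have : _root_.True := by simp only [_root_.Cfsg.Agent.H765.Bs.pW.eq_1]
  exact _root_.True.intro
end

-- part: H59/Bs/OType
section
prune_inst 0x30007104254000000018001062201c66f2000422004884006c6003c20e81cce2a0c22861bfb0051d4aa28c45783d0048128800b00000000000200400011f018000850204b158a200080096000000000000000000310000000000000000000000000000000
set_option linter.all false
open scoped Cfsg.Agent.FastGrp

/-!
# S5733, BS12: the two types of quadratic forms (helper59)

* `plus_hyp_iff` : `V = H ⟂ V'` is of type plus if and only if `V'` is;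
* `plus_hypk_iff` : the same for `k` hyperbolic planes;
* `exists_iso_of_plus` : spaces of type plus are sums of hyperbolic planes;
* `plus_iff_of_plus` : `V = D ⟂ U`, `U` of type plus: `V` and `D` have the same type;
* `exists_aniso_plane` : nondegenerate spaces of dimension at least four contain anisotropic nondegenerate planes.
-/

set_option autoImplicit false
set_option linter.unusedSectionVars false

namespace Cfsg.Agent.H59.Bs

open QuadraticMap Cfsg.Agent.LieClassical.OrthCore Cfsg.Agent.LieClassical.OrthTrans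
  Cfsg.Agent.LieClassical.OrthFinite Cfsg.Agent.H847.Bs Module Cfsg.Agent.H765.Bs

section

variable {F V V' : Type*} [Field F] [AddCommGroup V] [Module F V] [AddCommGroup V'] [Module F V']
  {Q : QuadraticForm F V} {Q' : QuadraticForm F V'}

/-- `TI` for quadratic forms -/
theorem ti_iff {A : Submodule F V} : (frmQ Q).TI A ↔ ∀ x ∈ A, Q x = 0 := by
  refine ⟨fun h => h.2, fun h => ⟨fun x hx y hy => ?_, h⟩⟩
  change polar Q x y = 0
  rw [QuadraticMap.polar, h _ (A.add_mem hx hy), h x hx, h y hy]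
  ring

theorem plusT_iff : PlusT Q ↔ ∃ A : Submodule F V, (∀ x ∈ A, Q x = 0) ∧ 2 * finrank F A = finrank F V := by
  unfold PlusT
  simp_rw [ti_iff]

theorem exists_le_finrank [FiniteDimensional F V] (A : Submodule F V) {n : ℕ} (h : n ≤ finrank F A) :
    ∃ B ≤ A, finrank F B = n := by
  obtain ⟨s, hs, hli⟩ := exists_finset_linearIndependent_of_le_finrank h
  refine ⟨(Submodule.span F (s : Set A)).map A.subtype, Submodule.map_subtype_le _ _, ?_⟩
  rw [Submodule.finrank_map_subtype_eq, finrank_span_finset_eq_card hli, hs]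

/-- a totally singular subspace of dimension at least one half is enough -/
theorem plusT_of_le [FiniteDimensional F V] {A : Submodule F V} (h : ∀ x ∈ A, Q x = 0) {n : ℕ}
    (hn : finrank F V = 2 * n) (hA : n ≤ finrank F A) : PlusT Q := by
  rw [plusT_iff]
  obtain ⟨b, hb, hb'⟩ := exists_le_finrank A hA
  exact ⟨b, fun x hx => h x (hb hx), by omega⟩

theorem plusT_equiv (e : V ≃ₗ[F] V') (he : ∀ v, Q' (e v) = Q v) : PlusT Q' ↔ PlusT Q := by
  rw [plusT_iff, plusT_iff]
  constructor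
  · rintro ⟨A, hA, hd⟩
    refine ⟨A.comap (e : V →ₗ[F] V'), fun x hx => ?_, ?_⟩
    · rw [← he]; exact hA _ hx
    · rw [e.finrank_eq, ← hd, Submodule.comap_equiv_eq_map_symm, LinearEquiv.finrank_map_eq]
  · rintro ⟨A, hA, hd⟩
    refine ⟨A.map (e : V →ₗ[F] V'), ?_, ?_⟩
    · rintro _ ⟨x, hx, rfl⟩
      exact (he x).trans (hA x hx)
    · rw [LinearEquiv.finrank_map_eq, hd, e.finrank_eq]

/-- a hyperbolic plane does not change the type -/
theorem plus_hyp_iff [FiniteDimensional F V] [FiniteDimensional F V'] (e : ((F × F) × V') ≃ₗ[F] V)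
    (he : ∀ s t v, Q (e ((s, t), v)) = s * t + Q' v) {n : ℕ} (hn : finrank F V' = 2 * n) : PlusT Q ↔ PlusT Q' := by
  have hd : finrank F V = 2 + finrank F V' := by
    rw [← e.finrank_eq, finrank_prod, finrank_prod, finrank_self]
  constructor
  · intro h
    rw [plusT_iff] at h
    obtain ⟨A, hA, hAd⟩ := h
    set τ : V →ₗ[F] F := LinearMap.snd F F F ∘ₗ LinearMap.fst F (F × F) V' ∘ₗ (e.symm : V →ₗ[F] ((F × F) × V')) with hτ
    set ν : V →ₗ[F] V' := LinearMap.snd F (F × F) V' ∘ₗ (e.symm : V →ₗ[F] ((F × F) × V')) with hν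
    have hτe : ∀ s t v, τ (e ((s, t), v)) = t := fun s t v => by simp [hτ]
    have hνe : ∀ s t v, ν (e ((s, t), v)) = v := fun s t v => by simp [hν]
    set x : V := e ((1, 0), 0) with hx
    have hxs : ∀ s, e ((s, 0), 0) = s • x := fun s => by rw [hx, ← map_smul]; simp
    have hpol : ∀ s t v, polar Q x (e ((s, t), v)) = t := by
      intro s t v
      rw [hx, QuadraticMap.polar, ← map_add, he]
      simp only [Prod.mk_add_mk, zero_add]
      rw [he, he, map_zero]
      ring
    set K := A ⊓ LinearMap.ker τ with hK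
    have hrn := LinearMap.finrank_range_add_finrank_ker (ν.domRestrict K)
    have hr : LinearMap.range (ν.domRestrict K) = K.map ν := LinearMap.range_domRestrict _ _
    rw [hr] at hrn
    have hsing : ∀ v ∈ K.map ν, Q' v = 0 := by
      rintro _ ⟨w, ⟨hw, hw'⟩, rfl⟩
      obtain ⟨⟨⟨s, t⟩, v⟩, rfl⟩ := e.surjective w
      have h1 : t = 0 := by rw [← hτe s t v]; exact hw'
      have h2 := hA _ hw
      rw [he, h1, mul_zero, zero_add] at h2
      rw [hνe]; exact h2
    have hker : ∀ w : LinearMap.ker (ν.domRestrict K), ∃ s : F, s • x = ((w : K) : V) := by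
      rintro ⟨⟨w, hw, hw'⟩, hw''⟩
      obtain ⟨⟨⟨s, t⟩, v⟩, rfl⟩ := e.surjective w
      have h1 : t = 0 := by rw [← hτe s t v]; exact hw'
      have h2 : v = 0 := by rw [← hνe s t v]; exact hw''
      refine ⟨s, ?_⟩
      subst h1 h2
      exact (hxs s).symm
    refine plusT_of_le hsing hn ?_
    by_cases hxA : x ∈ A
    · have hKA : K = A := by
        refine inf_eq_left.2 fun a ha => ?_
        obtain ⟨⟨⟨s, t⟩, v⟩, rfl⟩ := e.surjective a
        rw [LinearMap.mem_ker, hτe, ← hpol s t v, QuadraticMap.polar, hA _ (A.add_mem hxA ha), hA _ hxA, hA _ ha]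
        ring
      have hxK : x ∈ K := hKA ▸ hxA
      have h1 : finrank F (LinearMap.ker (ν.domRestrict K)) ≤ 1 := by
        refine finrank_le_one ⟨⟨x, hxK⟩, ?_⟩ fun w => ?_
        · show ν x = 0
          rw [hx, hνe]
        · obtain ⟨s, hs⟩ := hker w
          exact ⟨s, Subtype.ext (Subtype.ext hs)⟩
      rw [hKA] at hrn h1 ⊢
      omega
    · have h1 : LinearMap.ker (ν.domRestrict K) = ⊥ := by
        rw [eq_bot_iff]
        intro w hw
        obtain ⟨s, hs⟩ := hker ⟨w, hw⟩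
        rw [Submodule.mem_bot]
        apply Subtype.ext
        have h2 : s • x ∈ A := hs ▸ w.2.1
        have h3 : s = 0 := by
          by_contra hs0
          exact hxA ((A.smul_mem_iff hs0).1 h2)
        have h4 : (w : V) = s • x := hs.symm
        rw [h4, h3, zero_smul]
        rfl
      rw [h1, finrank_bot, add_zero] at hrn
      have h2 := Submodule.finrank_sup_add_finrank_inf_eq A (LinearMap.ker τ)
      have h3 := Submodule.finrank_le (A ⊔ LinearMap.ker τ)
      have h4 := LinearMap.finrank_range_add_finrank_ker τ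
      have h5 : finrank F (LinearMap.range τ) ≤ 1 := by
        have := Submodule.finrank_le (LinearMap.range τ)
        rwa [finrank_self] at this
      rw [← hK] at h2
      omega
  · intro h
    rw [plusT_iff] at h
    obtain ⟨A, hA, hAd⟩ := h
    let i : (F × A) →ₗ[F] V := (e : ((F × F) × V') →ₗ[F] V) ∘ₗ (LinearMap.inl F F F).prodMap A.subtype
    have hi : ∀ s a, i (s, a) = e ((s, 0), (a : V')) := fun s a => rfl
    have hinj : Function.Injective i := by
      rintro ⟨s, a⟩ ⟨s', a'⟩ h1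
      rw [hi, hi] at h1
      have h2 := e.injective h1
      simp only [Prod.mk.injEq] at h2
      exact Prod.ext h2.1.1 (Subtype.ext h2.2)
    rw [plusT_iff]
    refine ⟨LinearMap.range i, ?_, ?_⟩
    · rintro _ ⟨⟨s, a⟩, rfl⟩
      rw [hi, he, mul_zero, zero_add]
      exact hA _ a.2
    · rw [LinearMap.finrank_range_of_inj hinj, finrank_prod, finrank_self]
      omega

end

section

variable {F : Type} [Field F]

theorem plus_hypk_iff (k : ℕ) : ∀ {V V' : Type} [AddCommGroup V] [Module F V] [AddCommGroup V'] [Module F V']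
    [FiniteDimensional F V] [FiniteDimensional F V'] {Q : QuadraticForm F V} {Q' : QuadraticForm F V'}
    (e : ((Fin k → F × F) × V') ≃ₗ[F] V) (_ : ∀ x v, Q (e (x, v)) = (∑ i, (x i).1 * (x i).2) + Q' v) {n : ℕ}
    (_ : finrank F V' = 2 * n), PlusT Q ↔ PlusT Q' := by
  induction k with
  | zero =>
    intro V V' _ _ _ _ _ _ Q Q' e he n hn
    refine plusT_equiv ((LinearEquiv.uniqueProd (R := F) (M := V') (M₂ := Fin 0 → F × F)).symm ≪≫ₗ e) fun v => ?_
    have h1 := he default v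
    rw [Finset.univ_eq_empty, Finset.sum_empty, zero_add] at h1
    exact h1
  | succ k ih =>
    intro V V' _ _ _ _ _ _ Q Q' e he n hn
    let Q'' : QuadraticForm F ((Fin k → F × F) × V') :=
      (qH F k).comp (LinearMap.fst F (Fin k → F × F) V') + Q'.comp (LinearMap.snd F (Fin k → F × F) V')
    have hQ'' : ∀ x v, Q'' (x, v) = (∑ i, (x i).1 * (x i).2) + Q' v := by
      intro x v
      rw [← qH_apply]
      rfl
    let c : ((F × F) × ((Fin k → F × F) × V')) ≃ₗ[F] V :=
      (LinearEquiv.prodAssoc F (F × F) (Fin k → F × F) V').symm ≪≫ₗ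
        ((Fin.consLinearEquiv F (fun _ : Fin (k + 1) => F × F)).prodCongr (LinearEquiv.refl F V')) ≪≫ₗ e
    have hc : ∀ s t v, Q (c ((s, t), v)) = s * t + Q'' v := by
      rintro s t ⟨x, v⟩
      have h1 : c ((s, t), (x, v)) = e (Fin.cons (s, t) x, v) := rfl
      rw [h1, he, hQ'', Fin.sum_univ_succ, add_assoc]
      simp
    rw [plus_hyp_iff c hc (n := k + n) (by rw [finrank_prod, finrank_H]; omega)]
    exact ih (LinearEquiv.refl F _) (fun x v => hQ'' x v) hn

/-- spaces of type plus are sums of hyperbolic planes -/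
theorem exists_iso_of_plus (k : ℕ) : ∀ {V : Type} [AddCommGroup V] [Module F V] [FiniteDimensional F V]
    {Q : QuadraticForm F V} (_ : Nondeg Q) (_ : PlusT Q) (_ : finrank F V = 2 * k),
    ∃ e : (Fin k → F × F) ≃ₗ[F] V, ∀ x, Q (e x) = ∑ i, (x i).1 * (x i).2 := by
  induction k with
  | zero =>
    intro V _ _ _ Q hQ hP hd
    have h1 : Subsingleton V := Module.finrank_zero_iff.1 (by omega)
    refine ⟨LinearEquiv.ofFinrankEq _ _ (by rw [hd, finrank_H]), fun x => ?_⟩
    rw [Subsingleton.elim (LinearEquiv.ofFinrankEq _ _ _ x) (0 : V), map_zero]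
    simp
  | succ k ih =>
    intro V _ _ _ Q hQ hP hd
    obtain ⟨A, hA, hAd⟩ := plusT_iff.1 hP
    have hA0 : A ≠ ⊥ := by
      rintro rfl
      rw [finrank_bot] at hAd
      omega
    obtain ⟨x, hx, hx0⟩ := Submodule.exists_mem_ne_zero_of_ne_bot hA0
    obtain ⟨y, h⟩ := exists_hyp hQ (hA x hx) hx0
    have h1 : finrank F ((F × F) × hperp Q x y) = finrank F V := (hypE h).finrank_eq
    rw [finrank_prod, finrank_prod, finrank_self] at h1
    have h2 : finrank F (hperp Q x y) = 2 * k := by omega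
    have h3 : PlusT (Q.comp (hperp Q x y).subtype) := (plus_hyp_iff (hypE h) (fun s t v => hypE_Q h s t v) h2).1 hP
    obtain ⟨e, he⟩ := ih (nondeg_hperp hQ h) h3 h2
    refine ⟨(Fin.consLinearEquiv F (fun _ : Fin (k + 1) => F × F)).symm ≪≫ₗ
      ((LinearEquiv.refl F (F × F)).prodCongr e) ≪≫ₗ hypE h, fun x' => ?_⟩
    have e1 : ∀ (a : F × F) (b : Fin k → F × F), Q (hypE h (a, e b)) = a.1 * a.2 + ∑ i, (b i).1 * (b i).2 := by
      rintro ⟨s, t⟩ b
      rw [hypE_Q, ← he]
      rfl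
    have e2 := e1 (x' 0) (fun i => x' i.succ)
    rw [Fin.sum_univ_succ]
    exact e2

/-- `V = D ⟂ U`, `U` of type plus -/
theorem plus_iff_of_plus {V D U : Type} [AddCommGroup V] [Module F V] [FiniteDimensional F V] [AddCommGroup D]
    [Module F D] [FiniteDimensional F D] [AddCommGroup U] [Module F U] [FiniteDimensional F U]
    {Q : QuadraticForm F V} {QD : QuadraticForm F D} {QU : QuadraticForm F U} (e : (D × U) ≃ₗ[F] V)
    (he : ∀ d u, Q (e (d, u)) = QD d + QU u) (hU : Nondeg QU) (hp : PlusT QU) {a b : ℕ} (ha : finrank F D = 2 * a)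
    (hb : finrank F U = 2 * b) : PlusT Q ↔ PlusT QD := by
  obtain ⟨i, hi⟩ := exists_iso_of_plus b hU hp hb
  refine plus_hypk_iff b (LinearEquiv.prodComm F _ _ ≪≫ₗ ((LinearEquiv.refl F D).prodCongr i) ≪≫ₗ e) ?_ ha
  intro x v
  have h1 : (LinearEquiv.prodComm F _ _ ≪≫ₗ ((LinearEquiv.refl F D).prodCongr i) ≪≫ₗ e) (x, v) = e (v, i x) := rfl
  rw [h1, he, hi, add_comm]

/-- an anisotropic binary form with given last coefficient -/
theorem exists_irr [Finite F] {b : F} (hb : b ≠ 0) : ∃ a : F, ∀ t : F, t * t + a * t + b ≠ 0 := by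
  classical
  by_contra hcon
  push Not at hcon
  have : Fintype F := Fintype.ofFinite F
  choose t ht using hcon
  have ht0 : ∀ a, t a ≠ 0 := by
    intro a h
    have := ht a
    rw [h] at this
    apply hb
    linear_combination this
  have hinj : Function.Injective t := by
    intro a a' h
    have h1 := ht a
    have h2 := ht a'
    rw [← h] at h2
    have h3 : (a - a') * t a = 0 := by linear_combination h1 - h2
    exact sub_eq_zero.1 ((mul_eq_zero.1 h3).resolve_right (ht0 a))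
  obtain ⟨a, ha⟩ := (Finite.injective_iff_surjective.1 hinj) 0
  exact ht0 a ha

theorem disc_ne [Finite F] {a b : F} (h : ∀ t : F, t * t + a * t + b ≠ 0) : 4 * b - a * a ≠ 0 := by
  intro h1
  by_cases h2 : (2 : F) = 0
  · have h4 : (4 : F) = 0 := by linear_combination 2 * h2
    have ha : a = 0 := by
      rw [h4, zero_mul, zero_sub, neg_eq_zero] at h1
      exact mul_self_eq_zero.1 h1
    have hc : ringChar F = 2 := by
      have h3 : ringChar F ∣ 2 := (ringChar.spec F 2).1 (by exact_mod_cast h2)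
      rcases (Nat.dvd_prime Nat.prime_two).1 h3 with h5 | h5
      · exact absurd h5 (CharP.ringChar_ne_one)
      · exact h5
    have : Fintype F := Fintype.ofFinite F
    obtain ⟨c, hcb⟩ := FiniteField.isSquare_of_char_two hc b
    apply h c
    rw [ha, ← hcb]
    linear_combination b * h2
  · apply h (-(a / 2))
    field_simp
    linear_combination h1

/-- nondegenerate spaces of dimension at least four contain anisotropic planes -/
theorem exists_aniso_plane [Finite F] {V : Type} [AddCommGroup V] [Module F V] [FiniteDimensional F V]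
    {Q : QuadraticForm F V} (hQ : Nondeg Q) (hd : 4 ≤ finrank F V) :
    ∃ P : Submodule F V, finrank F P = 2 ∧ (frmQ Q).NdOn P ∧ ¬ PlusT (Q.comp P.subtype) := by
  obtain ⟨x, -, hx0, hx⟩ := exists_sing_mem (Q := Q) (⊤ : Submodule F V) (by rw [finrank_top]; omega)
  obtain ⟨y, h⟩ := exists_hyp hQ hx hx0
  have h1 : finrank F ((F × F) × hperp Q x y) = finrank F V := (hypE h).finrank_eq
  rw [finrank_prod, finrank_prod, finrank_self] at h1
  obtain ⟨⟨w, hw1, hw2⟩, hw⟩ : ∃ w : hperp Q x y, Q w ≠ 0 := by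
    by_contra hcon
    push Not at hcon
    have h2 : Nontrivial (hperp Q x y) := Module.finrank_pos_iff.1 (show 0 < finrank F (hperp Q x y) by omega)
    obtain ⟨v, hv⟩ := exists_ne (0 : hperp Q x y)
    apply hv
    apply nondeg_hperp hQ h
    intro z
    rw [QuadraticMap.polar, QuadraticMap.comp_apply, QuadraticMap.comp_apply, QuadraticMap.comp_apply]
    simp only [Submodule.subtype_apply]
    rw [hcon, hcon, hcon]
    ring
  obtain ⟨a, ha⟩ := exists_irr hw
  have hform : ∀ s t : F, Q (s • (x + y) + t • (a • y + w)) = s * s + a * (s * t) + Q w * (t * t) := by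
    intro s t
    have e1 : s • (x + y) + t • (a • y + w) = s • x + (s + t * a) • y + t • w := by module
    have e2 : polar Q (s • x + (s + t * a) • y) (t • w) = 0 := by
      rw [polar_add_left, polar_smul_left, polar_smul_left, polar_smul_right, polar_smul_right, hw1, hw2]
      simp
    rw [e1, Q_add, e2, Q_add, QuadraticMap.map_smul, QuadraticMap.map_smul, QuadraticMap.map_smul, h.left, h.right,
      polar_smul_left, polar_smul_right, h.pair]
    simp only [smul_eq_mul]
    ring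
  have han : ∀ s t : F, Q (s • (x + y) + t • (a • y + w)) = 0 → s = 0 ∧ t = 0 := by
    intro s t hst
    rw [hform] at hst
    have ht : t = 0 := by
      by_contra ht
      apply ha (s / t)
      field_simp
      linear_combination hst
    refine ⟨?_, ht⟩
    rw [ht] at hst
    have : s * s = 0 := by linear_combination hst
    exact mul_self_eq_zero.1 this
  have hmem : ∀ z ∈ Submodule.span F ({x + y, a • y + w} : Set V), ∃ s t : F, z = s • (x + y) + t • (a • y + w) := by
    intro z hz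
    obtain ⟨s, t, h2⟩ := Submodule.mem_span_pair.1 hz
    exact ⟨s, t, h2.symm⟩
  have hpolar : ∀ s t s' t' : F, polar Q (s • (x + y) + t • (a • y + w)) (s' • (x + y) + t' • (a • y + w)) =
      2 * s * s' + a * (s * t' + s' * t) + 2 * Q w * (t * t') := by
    intro s t s' t'
    have e1 : s • (x + y) + t • (a • y + w) + (s' • (x + y) + t' • (a • y + w)) =
      (s + s') • (x + y) + (t + t') • (a • y + w) := by module
    rw [QuadraticMap.polar, e1, hform, hform, hform]
    ring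
  have hfin : finrank F (Submodule.span F ({x + y, a • y + w} : Set V)) = 2 := by
    have hli : LinearIndependent F ![x + y, a • y + w] := by
      rw [LinearIndependent.pair_iff]
      intro s t hst
      apply han
      rw [hst, QuadraticMap.map_zero]
    have hrange : ({x + y, a • y + w} : Set V) = Set.range ![x + y, a • y + w] := by
      rw [Matrix.range_cons, Matrix.range_cons, Matrix.range_empty, Set.union_empty]
      rfl
    rw [hrange, finrank_span_eq_card hli, Fintype.card_fin]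
  refine ⟨Submodule.span F {x + y, a • y + w}, hfin, ?_, ?_⟩
  · intro z hz hz'
    obtain ⟨s, t, rfl⟩ := hmem z hz
    have h2 := hz' (x + y) (Submodule.subset_span (by simp))
    have h3 := hz' (a • y + w) (Submodule.subset_span (by simp))
    change polar Q _ _ = 0 at h2
    change polar Q _ _ = 0 at h3
    have h4 := hpolar s t 1 0
    have h5 := hpolar s t 0 1
    rw [one_smul, zero_smul, add_zero, h2] at h4
    rw [one_smul, zero_smul, zero_add, h3] at h5
    have hdisc := disc_ne ha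
    have h6 : (4 * Q w - a * a) * t = 0 := by linear_combination a * h4 - 2 * h5
    have h7 : (4 * Q w - a * a) * s = 0 := by linear_combination a * h5 - 2 * Q w * h4
    rw [(mul_eq_zero.1 h6).resolve_left hdisc, (mul_eq_zero.1 h7).resolve_left hdisc]
    simp
  · intro hP
    obtain ⟨A, hA, hAd⟩ := plusT_iff.1 hP
    have hA0 : A ≠ ⊥ := by
      rintro rfl
      rw [finrank_bot, hfin] at hAd
      omega
    obtain ⟨z, hz, hz0⟩ := Submodule.exists_mem_ne_zero_of_ne_bot hA0
    obtain ⟨s, t, h2⟩ := hmem z z.2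
    have h3 := hA z hz
    rw [QuadraticMap.comp_apply, Submodule.subtype_apply, h2] at h3
    obtain ⟨rfl, rfl⟩ := han s t h3
    apply hz0
    apply Subtype.ext
    rw [h2]
    simp

/-- from external to internal decompositions -/
theorem int_dec {V D' U' : Type} [AddCommGroup V] [Module F V] [AddCommGroup D']
    [Module F D'] [AddCommGroup U'] [Module F U']
    {Q : QuadraticForm F V} {QD : QuadraticForm F D'} {QU : QuadraticForm F U'} (e : (D' × U') ≃ₗ[F] V)
    (he : ∀ d u, Q (e (d, u)) = QD d + QU u) :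
    ∃ D U : Submodule F V, (frmQ Q).Dec D U ∧ finrank F D = finrank F D' ∧ finrank F U = finrank F U' ∧
      (PlusT (Q.comp D.subtype) ↔ PlusT QD) ∧ (PlusT (Q.comp U.subtype) ↔ PlusT QU) := by
  let i : D' →ₗ[F] V := (e : (D' × U') →ₗ[F] V) ∘ₗ LinearMap.inl F D' U'
  let j : U' →ₗ[F] V := (e : (D' × U') →ₗ[F] V) ∘ₗ LinearMap.inr F D' U'
  have hi : ∀ d, i d = e (d, 0) := fun d => rfl
  have hj : ∀ u, j u = e (0, u) := fun u => rfl
  have hi' : Function.Injective i := e.injective.comp LinearMap.inl_injective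
  have hj' : Function.Injective j := e.injective.comp LinearMap.inr_injective
  refine ⟨LinearMap.range i, LinearMap.range j, ⟨⟨?_, ?_⟩, ?_⟩, LinearMap.finrank_range_of_inj hi',
    LinearMap.finrank_range_of_inj hj', ?_, ?_⟩
  · rw [Submodule.disjoint_def]
    rintro _ ⟨d, rfl⟩ ⟨u, hu⟩
    rw [hi, hj] at hu
    have h1 := e.injective hu
    simp only [Prod.mk.injEq] at h1
    rw [hi, ← h1.1]
    exact map_zero e
  · rw [codisjoint_iff, eq_top_iff]
    intro v _
    obtain ⟨⟨d, u⟩, rfl⟩ := e.surjective v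
    have h1 : e (d, u) = i d + j u := by rw [hi, hj, ← map_add]; simp
    rw [h1]
    exact Submodule.add_mem_sup ⟨d, rfl⟩ ⟨u, rfl⟩
  · rintro _ ⟨d, rfl⟩ _ ⟨u, rfl⟩
    change polar Q _ _ = 0
    have h1 : i d + j u = e (d, u) := by rw [hi, hj, ← map_add]; simp
    rw [QuadraticMap.polar, h1, hi, hj, he, he, he, QuadraticMap.map_zero, QuadraticMap.map_zero]
    ring
  · refine plusT_equiv (LinearEquiv.ofInjective i hi') fun v => ?_
    change Q (i v) = QD v
    rw [hi, he, map_zero, add_zero]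
  · refine plusT_equiv (LinearEquiv.ofInjective j hj') fun v => ?_
    change Q (j v) = QU v
    rw [hj, he, map_zero, zero_add]

end

end Cfsg.Agent.H59.Bs
end

-- part: H984/Bs/OmegaGen
section
prune_inst 0x31403144254000000018001460201c66f2000522004b84002c20018204c1cee2e0862e61aba0251d4a220c45083500481288003000600000042000000118018000001006a1480000020090000000000000000000310000000000000000000000000000000
set_option linter.all false
open scoped Cfsg.Agent.FastGrp

-- part: H984/Bs/Clifford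
section
/-!
# S5733, BS33, preliminaries (helper984)

* `exists_compl` : (Clifford) if `H` is irreducible and normalises `R` then every `R`-invariant subspace has an
  `R`-invariant complement;
* `ex_sing`, `sep`, `ex_line` : existence of singular vectors in nondegenerate subspaces.
-/

set_option autoImplicit false

namespace Cfsg.Agent.H984.Bs

open QuadraticMap Cfsg.Agent.LieClassical.OrthCore Cfsg.Agent.LieClassical.OrthTrans
  Cfsg.Agent.LieClassical.OrthFinite Cfsg.Agent.H883.Root Cfsg.Agent.H883.Sub Cfsg.Agent.H847.Bs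

section clifford

variable {F V : Type*} [Field F] [AddCommGroup V] [Module F V]

theorem Inv.sup' {x : V ≃ₗ[F] V} {Y Z : Submodule F V} (h : _root_.Cfsg.Agent.H847.Bs.Inv x Y) (h' : _root_.Cfsg.Agent.H847.Bs.Inv x Z) : _root_.Cfsg.Agent.H847.Bs.Inv x (Y ⊔ Z) := by
  intro v hv
  obtain ⟨y, hy, z, hz, rfl⟩ := Submodule.mem_sup.1 hv
  rw [map_add]
  exact Submodule.add_mem_sup (h y hy) (h' z hz)

theorem Inv.inf' {x : V ≃ₗ[F] V} {Y Z : Submodule F V} (h : _root_.Cfsg.Agent.H847.Bs.Inv x Y) (h' : _root_.Cfsg.Agent.H847.Bs.Inv x Z) : _root_.Cfsg.Agent.H847.Bs.Inv x (Y ⊓ Z) :=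
  fun v hv => ⟨h v hv.1, h' v hv.2⟩

theorem exists_compl [FiniteDimensional F V] {H R : Subgroup (V ≃ₗ[F] V)} (hR : ∀ h ∈ H, ∀ r ∈ R, h⁻¹ * r * h ∈ R)
    (hirr : IrrG H) {P : Submodule F V} (hP : ∀ r ∈ R, _root_.Cfsg.Agent.H847.Bs.Inv r P) :
    ∃ C : Submodule F V, (∀ r ∈ R, _root_.Cfsg.Agent.H847.Bs.Inv r C) ∧ IsCompl P C := by
  have wf : WellFounded ((· > ·) : Submodule F V → Submodule F V → Prop) := wellFounded_gt
  obtain ⟨C, ⟨hC1, hC2⟩, hmax⟩ := wf.has_min {C : Submodule F V | (∀ r ∈ R, _root_.Cfsg.Agent.H847.Bs.Inv r C) ∧ Disjoint P C}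
    ⟨⊥, fun r _ v hv => by rw [Submodule.mem_bot] at hv; rw [hv, map_zero]; exact Submodule.zero_mem _, disjoint_bot_right⟩
  refine ⟨C, hC1, hC2, ?_⟩
  rw [codisjoint_iff]
  by_contra htop
  -- a minimal invariant subspace
  have wf' : WellFounded ((· < ·) : Submodule F V → Submodule F V → Prop) := wellFounded_lt
  have hne : (⊤ : Submodule F V) ≠ ⊥ := by
    intro h
    apply htop
    rw [h, eq_bot_iff, ← h]
    exact le_top
  obtain ⟨S, ⟨hS1, hS2⟩, hmin⟩ := wf'.has_min {S : Submodule F V | (∀ r ∈ R, _root_.Cfsg.Agent.H847.Bs.Inv r S) ∧ S ≠ ⊥}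
    ⟨⊤, fun r _ v _ => Submodule.mem_top, hne⟩
  have hsum : (⨆ h : H, S.map ((h : V ≃ₗ[F] V) : V →ₗ[F] V)) = ⊤ := by
    refine (hirr _ ?_).resolve_left ?_
    · intro g hg v hv
      refine Submodule.iSup_induction (fun h : H => S.map ((h : V ≃ₗ[F] V) : V →ₗ[F] V))
        (motive := fun v => g v ∈ ⨆ h : H, S.map ((h : V ≃ₗ[F] V) : V →ₗ[F] V)) hv ?_ ?_ ?_
      · rintro h _ ⟨w, hw, rfl⟩
        exact Submodule.mem_iSup_of_mem (⟨g, hg⟩ * h) ⟨w, hw, rfl⟩
      · rw [map_zero]; exact Submodule.zero_mem _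
      · intro x y hx hy
        rw [map_add]
        exact Submodule.add_mem _ hx hy
    · intro h
      apply hS2
      rw [eq_bot_iff, ← h]
      intro v hv
      exact Submodule.mem_iSup_of_mem 1 ⟨v, hv, rfl⟩
  obtain ⟨h, hh⟩ : ∃ h : H, ¬ S.map ((h : V ≃ₗ[F] V) : V →ₗ[F] V) ≤ P ⊔ C := by
    by_contra hcon
    push Not at hcon
    apply htop
    rw [eq_top_iff, ← hsum]
    exact iSup_le hcon
  set S' := S.map ((h : V ≃ₗ[F] V) : V →ₗ[F] V) with hS'
  have hinv' : ∀ r ∈ R, _root_.Cfsg.Agent.H847.Bs.Inv r S' := by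
    rintro r hr _ ⟨w, hw, rfl⟩
    refine ⟨((h : V ≃ₗ[F] V)⁻¹ * r * (h : V ≃ₗ[F] V)) w, hS1 _ (hR _ h.2 r hr) w hw, ?_⟩
    show (h : V ≃ₗ[F] V) ((h : V ≃ₗ[F] V)⁻¹ (r ((h : V ≃ₗ[F] V) w))) = r ((h : V ≃ₗ[F] V) w)
    exact (h : V ≃ₗ[F] V).apply_symm_apply _
  -- `S'` is minimal
  have hmin' : Disjoint (P ⊔ C) S' := by
    rw [disjoint_iff]
    by_contra hb
    set T := ((P ⊔ C) ⊓ S').comap ((h : V ≃ₗ[F] V) : V →ₗ[F] V) with hT
    have hTS : T ≤ S := by
      intro v hv
      obtain ⟨w, hw, e⟩ := (Submodule.mem_comap.1 hv).2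
      have : w = v := (h : V ≃ₗ[F] V).injective e
      rwa [← this]
    have hTi : ∀ r ∈ R, _root_.Cfsg.Agent.H847.Bs.Inv r T := by
      intro r hr v hv
      have h1 : ((h : V ≃ₗ[F] V) * r * (h : V ≃ₗ[F] V)⁻¹) ∈ R := by
        have := hR _ (H.inv_mem h.2) r hr
        rwa [inv_inv] at this
      have h2 : _root_.Cfsg.Agent.H847.Bs.Inv ((h : V ≃ₗ[F] V) * r * (h : V ≃ₗ[F] V)⁻¹) ((P ⊔ C) ⊓ S') :=
        Inv.inf' (Inv.sup' (hP _ h1) (hC1 _ h1)) (hinv' _ h1)
      have h3 : ((h : V ≃ₗ[F] V) * r * (h : V ≃ₗ[F] V)⁻¹) ((h : V ≃ₗ[F] V) v) ∈ (P ⊔ C) ⊓ S' :=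
        h2 _ (Submodule.mem_comap.1 hv)
      have h4 : ((h : V ≃ₗ[F] V) * r * (h : V ≃ₗ[F] V)⁻¹) ((h : V ≃ₗ[F] V) v) = (h : V ≃ₗ[F] V) (r v) := by
        show (h : V ≃ₗ[F] V) (r ((h : V ≃ₗ[F] V)⁻¹ ((h : V ≃ₗ[F] V) v))) = _
        congr 2
        exact (h : V ≃ₗ[F] V).symm_apply_apply v
      rw [h4] at h3
      exact h3
    have hT0 : T ≠ ⊥ := by
      intro h0
      apply hb
      rw [eq_bot_iff]
      intro v hv
      obtain ⟨w, hw, e⟩ := hv.2
      have h1 : w ∈ T := by
        rw [hT, Submodule.mem_comap]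
        have e' : ((h : V ≃ₗ[F] V) : V →ₗ[F] V) w = v := e
        rw [e']
        exact hv
      rw [h0, Submodule.mem_bot] at h1
      rw [Submodule.mem_bot, ← e, h1, map_zero]
    have hTeq : T = S := by
      by_contra hne'
      exact hmin T ⟨hTi, hT0⟩ (lt_of_le_of_ne hTS hne')
    apply hh
    intro v hv
    obtain ⟨w, hw, rfl⟩ := hv
    have h1 : w ∈ T := by rw [hTeq]; exact hw
    exact (Submodule.mem_comap.1 h1).1
  have hd : Disjoint P (C ⊔ S') := hC2.disjoint_sup_right_of_disjoint_sup_left hmin'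
  refine hmax (C ⊔ S') ⟨fun r hr => Inv.sup' (hC1 r hr) (hinv' r hr), hd⟩ ?_
  refine lt_of_le_of_ne le_sup_left fun h => hh ?_
  calc S' ≤ C ⊔ S' := le_sup_right
    _ = C := h.symm
    _ ≤ P ⊔ C := le_sup_right

end clifford

section sing

variable {F V : Type*} [Field F] [AddCommGroup V] [Module F V] [FiniteDimensional F V] {Q : QuadraticForm F V}

theorem finrank_inf_perp (hQ : Nondeg Q) (W T : Submodule F V) :
    Module.finrank F W ≤ Module.finrank F (W ⊓ perp Q T : Submodule F V) + Module.finrank F T := by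
  have h1 := finrank_perp hQ T
  have h2 := Submodule.finrank_sup_add_finrank_inf_eq W (perp Q T)
  have h3 : Module.finrank F (W ⊔ perp Q T : Submodule F V) ≤ Module.finrank F V := Submodule.finrank_le _
  omega

omit [FiniteDimensional F V] in
/-- avoiding a subspace -/
theorem sing_avoid [Finite F] [FiniteDimensional F V] (S T : Submodule F V)
    (h : Module.finrank F T + 3 ≤ Module.finrank F S) : ∃ w ∈ S, w ∉ T ∧ Q w = 0 := by
  obtain ⟨C, hC⟩ := Submodule.exists_isCompl (T.comap S.subtype)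
  have h1 : Module.finrank F (T.comap S.subtype) ≤ Module.finrank F T := by
    have h2 : Module.finrank F (T.comap S.subtype) = Module.finrank F ((T.comap S.subtype).map S.subtype) :=
      (Submodule.finrank_map_subtype_eq S _).symm
    rw [h2]
    exact Submodule.finrank_mono (Submodule.map_comap_le _ _)
  have h2 := Submodule.finrank_add_eq_of_isCompl hC
  have h3 : Module.finrank F (C.map S.subtype) = Module.finrank F C := Submodule.finrank_map_subtype_eq S C
  obtain ⟨w, hw, hw0, hQw⟩ := exists_sing_mem (Q := Q) (C.map S.subtype) (by omega)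
  obtain ⟨c, hc, rfl⟩ := hw
  refine ⟨c, c.2, fun hcT => hw0 ?_, hQw⟩
  have h4 : c ∈ T.comap S.subtype ⊓ C := ⟨hcT, hc⟩
  rw [hC.inf_eq_bot, Submodule.mem_bot] at h4
  rw [h4]
  rfl

/-- singular vectors orthogonal to `T` and outside `T'` -/
theorem ex_sing [Finite F] (hQ : Nondeg Q) (W T T' : Submodule F V)
    (h : Module.finrank F T + Module.finrank F T' + 3 ≤ Module.finrank F W) :
    ∃ w ∈ W, (∀ t ∈ T, polar Q t w = 0) ∧ w ∉ T' ∧ Q w = 0 := by
  have h1 := finrank_inf_perp hQ W T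
  obtain ⟨w, hw, hw', hQw⟩ := sing_avoid (Q := Q) (W ⊓ perp Q T) T' (by omega)
  exact ⟨w, hw.1, fun t ht => mem_perp.1 hw.2 t ht, hw', hQw⟩

/-- separation inside a nondegenerate subspace -/
theorem sep (hQ : Nondeg Q) {W T : Submodule F V} (hW : NondegOn Q W) (hTW : T ≤ W) {x : V} (hx : x ∈ W) (hxT : x ∉ T) :
    ∃ n ∈ W, (∀ t ∈ T, polar Q t n = 0) ∧ polar Q x n ≠ 0 := by
  have h1 : x ∉ perp Q (perp Q T) := by rwa [perp_perp hQ]
  rw [mem_perp] at h1
  push Not at h1
  obtain ⟨n, hn, hnx⟩ := h1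
  obtain ⟨w, hw, w', hw', rfl⟩ := hW.exists_decomp n
  refine ⟨w, hw, fun t ht => ?_, fun h0 => hnx ?_⟩
  · have h2 := mem_perp.1 hn t ht
    rw [polar_add_right, mem_perp.1 hw' t (hTW ht), add_zero] at h2
    exact h2
  · rw [polar_add_left, polar_comm Q w x, h0, mem_perp'.1 hw' x hx, add_zero]

omit [FiniteDimensional F V] in
theorem finrank_span_pair_le (a c : V) : Module.finrank F (Submodule.span F {a, c}) ≤ 2 := by
  classical
  have h := finrank_span_finset_le_card (R := F) ({a, c} : Finset V)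
  rw [Finset.coe_insert, Finset.coe_singleton] at h
  exact h.trans Finset.card_le_two

omit [FiniteDimensional F V] in
theorem finrank_span_single_le (a : V) : Module.finrank F (Submodule.span F {a}) ≤ 1 := by
  have h := finrank_span_le_card (R := F) ({a} : Set V)
  refine h.trans ?_
  simp

/-- a singular vector orthogonal to `a` and not to `c` -/
theorem ex_move [Finite F] (hQ : Nondeg Q) {W : Submodule F V} (hW : NondegOn Q W) (hd : 8 ≤ Module.finrank F W)
    {a c : V} (ha : a ∈ W) (hc : c ∈ W) (hac : c ∉ Submodule.span F {a}) :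
    ∃ x ∈ W, Q x = 0 ∧ polar Q a x = 0 ∧ polar Q c x ≠ 0 := by
  have hT : Submodule.span F {a, c} ≤ W := by
    rw [Submodule.span_le]
    rintro z (rfl | hz)
    · exact ha
    · rw [Set.mem_singleton_iff] at hz
      rw [hz]; exact hc
  have haT : a ∈ Submodule.span F {a, c} := Submodule.subset_span (by simp)
  have hcT : c ∈ Submodule.span F {a, c} := Submodule.subset_span (by simp)
  have hf := finrank_span_pair_le (F := F) a c
  obtain ⟨x0, hx0W, hx0, hx0T, hQx0⟩ := ex_sing hQ W (Submodule.span F {a, c}) (Submodule.span F {a, c}) (by omega)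
  obtain ⟨n, hnW, hn, hnx⟩ := sep hQ hW hT hx0W hx0T
  obtain ⟨z, hzW, hz, hzc⟩ := sep hQ hW (T := Submodule.span F {a})
    (by rw [Submodule.span_le, Set.singleton_subset_iff]; exact ha) hc hac
  obtain ⟨z', hz'W, hz'a, hz'c, hz'x⟩ : ∃ z' ∈ W, polar Q a z' = 0 ∧ polar Q c z' ≠ 0 ∧ polar Q x0 z' ≠ 0 := by
    by_cases h : polar Q x0 z = 0
    · refine ⟨z + n, W.add_mem hzW hnW, ?_, ?_, ?_⟩
      · rw [polar_add_right, hz a (Submodule.mem_span_singleton_self a), hn a haT, add_zero]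
      · rw [polar_add_right, hn c hcT, add_zero]; exact hzc
      · rw [polar_add_right, h, zero_add]; exact hnx
    · exact ⟨z, hzW, hz a (Submodule.mem_span_singleton_self a), hzc, h⟩
  have e1 : polar Q z' x0 ≠ 0 := by rwa [polar_comm]
  refine ⟨z' + (-(Q z' * (polar Q z' x0)⁻¹)) • x0, W.add_mem hz'W (W.smul_mem _ hx0W), ?_, ?_, ?_⟩
  · rw [Q_add, QuadraticMap.map_smul, hQx0, polar_smul_right, smul_eq_mul, smul_eq_mul]
    field_simp
    ring
  · rw [polar_add_right, hz'a, polar_smul_right, hx0 a haT, smul_zero, add_zero]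
  · rw [polar_add_right, polar_smul_right, hx0 c hcT, smul_zero, add_zero]
    exact hz'c

/-- a totally singular line orthogonal to `a` and not to `c` -/
theorem ex_line [Finite F] (hQ : Nondeg Q) {W : Submodule F V} (hW : NondegOn Q W) (hd : 8 ≤ Module.finrank F W)
    {a c : V} (ha : a ∈ W) (hc : c ∈ W) (hac : c ∉ Submodule.span F {a}) :
    ∃ x ∈ W, ∃ y ∈ W, Q x = 0 ∧ Q y = 0 ∧ polar Q x y = 0 ∧ y ∉ Submodule.span F {x} ∧ polar Q a x = 0 ∧
      polar Q a y = 0 ∧ polar Q c x ≠ 0 := by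
  obtain ⟨x, hxW, hQx, hax, hcx⟩ := ex_move hQ hW hd ha hc hac
  have h1 := finrank_span_pair_le (F := F) a x
  have h2 := finrank_span_single_le (F := F) x
  obtain ⟨y, hyW, hy, hyx, hQy⟩ := ex_sing hQ W (Submodule.span F {a, x}) (Submodule.span F {x}) (by omega)
  exact ⟨x, hxW, y, hyW, hQx, hQy, hy x (Submodule.subset_span (by simp)), hyx, hax,
    hy a (Submodule.subset_span (by simp)), hcx⟩

end sing

end Cfsg.Agent.H984.Bs
end

-- part: H984/Bs/OmegaGen
section
/-!
# S5733, BS33: irreducible subgroups of orthogonal groups containing `Ω` of a nondegenerate subspace (helper984)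

`gen_omega`: `H ≤ O(V)` irreducible, `H` contains all Siegel transformations of a nondegenerate subspace `W₀` of
dimension at least 8.  Then `H ≥ Ω(V)` or `H` has a nondegenerate block of dimension at least 8.
-/

set_option autoImplicit false

namespace Cfsg.Agent.H984.Bs

open QuadraticMap Cfsg.Agent.LieClassical.OrthCore Cfsg.Agent.LieClassical.OrthTrans
  Cfsg.Agent.LieClassical.OrthFinite Cfsg.Agent.H883.Root Cfsg.Agent.H883.Sub Cfsg.Agent.H847.Bs

variable {F V : Type*} [Field F] [AddCommGroup V] [Module F V] {Q : QuadraticForm F V} {H : Subgroup (V ≃ₗ[F] V)}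

/-! ### lines -/

/-- the root group of the totally singular line `⟨s, t⟩` is contained in `H` -/
def Lr (Q : QuadraticForm F V) (H : Subgroup (V ≃ₗ[F] V)) (s t : V) : Prop :=
  Q s = 0 ∧ Q t = 0 ∧ polar Q s t = 0 ∧ ∀ c : F, Has Q H s (c • t)

theorem Lr.swap {s t : V} (h : Lr Q H s t) : Lr Q H t s := by
  refine ⟨h.2.1, h.1, by rw [polar_comm]; exact h.2.2.1, fun c => ?_⟩
  have h1 := (h.2.2.2 (-c)).swap (by rw [QuadraticMap.map_smul, h.2.1, smul_zero])
  have h2 := Has.smul_right h1 h.2.1 (by rw [polar_neg_right, polar_comm, h.2.2.1, neg_zero])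
  exact h2.congr rfl (by module)

theorem Lr.map {s t : V} (h : Lr Q H s t) {g : V ≃ₗ[F] V} (hgO : g ∈ O Q) (hg : g ∈ H) : Lr Q H (g s) (g t) := by
  refine ⟨by rw [hgO]; exact h.1, by rw [hgO]; exact h.2.1, by rw [polar_map hgO]; exact h.2.2.1, fun c => ?_⟩
  have := (h.2.2.2 c).map hgO hg
  rwa [map_smul] at this

theorem Lr.sub {s t t' : V} (h : Lr Q H s t) (h' : Lr Q H s t') (hQ : Q (t - t') = 0) : Lr Q H s (t - t') := by
  refine ⟨h.1, hQ, ?_, fun c => ?_⟩
  · rw [polar_sub_right, h.2.2.1, h'.2.2.1, sub_zero]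
  · rw [smul_sub]
    exact (h.2.2.2 c).sub (h'.2.2.2 c)

/-- change of the basis of the line -/
theorem Lr.sub_self {s t : V} (h : Lr Q H s t) (k : F) : Lr Q H s (t - k • s) := by
  have h1 : Q (t - k • s) = 0 := by
    rw [sub_eq_add_neg, Q_add, QuadraticMap.map_neg, QuadraticMap.map_smul, h.1, h.2.1, polar_neg_right, polar_smul_right,
      polar_comm Q t s, h.2.2.1]
    simp
  refine ⟨h.1, h1, ?_, fun c => ?_⟩
  · rw [polar_sub_right, polar_smul_right, h.2.2.1, polar_self_of_sing h.1, smul_zero, sub_zero]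
  · rw [smul_sub, smul_smul]
    exact (h.2.2.2 c).sub (has_self h.1 _)

/-- `H` contains all Siegel transformations of `W` -/
def HasW (Q : QuadraticForm F V) (H : Subgroup (V ≃ₗ[F] V)) (W : Submodule F V) : Prop :=
  ∀ u ∈ W, ∀ w ∈ W, Q u = 0 → polar Q u w = 0 → Has Q H u w

theorem HasW.lr {W : Submodule F V} (h : HasW Q H W) {s t : V} (hs : s ∈ W) (ht : t ∈ W) (hQs : Q s = 0)
    (hQt : Q t = 0) (hst : polar Q s t = 0) : Lr Q H s t :=
  ⟨hQs, hQt, hst, fun c => h s hs _ (W.smul_mem c ht) hQs (by rw [polar_smul_right, hst, smul_zero])⟩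

/-- the vectors `p` orthogonal to `W` such that `H` contains all `siegel x (c p)`, `x ∈ W` singular -/
def PP (Q : QuadraticForm F V) (H : Subgroup (V ≃ₗ[F] V)) (W : Submodule F V) : Submodule F V where
  carrier := {p | p ∈ perp Q W ∧ ∀ x ∈ W, Q x = 0 → ∀ c : F, Has Q H x (c • p)}
  add_mem' := by
    rintro a b ⟨ha, ha'⟩ ⟨hb, hb'⟩
    exact ⟨Submodule.add_mem _ ha hb, fun x hx hQx c => by rw [smul_add]; exact (ha' x hx hQx c).add (hb' x hx hQx c)⟩
  zero_mem' := ⟨Submodule.zero_mem _, fun x hx hQx c => by rw [smul_zero]; exact has_zero hQx⟩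
  smul_mem' := by
    rintro a p ⟨hp, hp'⟩
    exact ⟨Submodule.smul_mem _ _ hp, fun x hx hQx c => by rw [smul_smul]; exact hp' x hx hQx _⟩

theorem mem_PP {W : Submodule F V} {p : V} :
    p ∈ PP Q H W ↔ p ∈ perp Q W ∧ ∀ x ∈ W, Q x = 0 → ∀ c : F, Has Q H x (c • p) := Iff.rfl

section fin

variable [Finite F] [FiniteDimensional F V] {W : Submodule F V}

omit [FiniteDimensional F V] in
theorem mem_PP_of_one (hH : H ≤ O Q) (hW : NondegOn Q W) (hd : 5 ≤ Module.finrank F W) (hasW : HasW Q H W) {x : V}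
    (hx : x ∈ W) (hQx : Q x = 0) (hx0 : x ≠ 0) {p : V} (hp : p ∈ perp Q W) (h : ∀ c : F, Has Q H x (c • p)) :
    p ∈ PP Q H W := by
  refine ⟨hp, fun x' hx' hQx' c => ?_⟩
  by_cases hx'0 : x' = 0
  · rw [hx'0]; exact has_zero_left _
  obtain ⟨g, hg, e⟩ := EY_trans_sing (good_res hW hd) hx hx' hQx hQx' hx0 hx'0
  have hgH : g ∈ H := EY_le_iff.2 hasW hg
  have h1 := (h c).map (hH hgH) hgH
  rw [e, EY_fix hg (v := c • p) (fun y hy => by rw [polar_smul_right, mem_perp.1 hp y hy, smul_zero])] at h1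
  exact h1

omit [FiniteDimensional F V] in
theorem comp_PP (hH : H ≤ O Q) (hW : NondegOn Q W) (hd : 5 ≤ Module.finrank F W) (hasW : HasW Q H W) {x : V}
    (hx : x ∈ W) (hQx : Q x = 0) (hx0 : x ≠ 0) {a b : V} (ha : a ∈ W) (hb : b ∈ perp Q W)
    (h : ∀ c : F, Has Q H x (c • (a + b))) : b ∈ PP Q H W := by
  refine mem_PP_of_one hH hW hd hasW hx hQx hx0 hb fun c => ?_
  have h1 := (h 1).perp
  rw [one_smul, polar_add_right, mem_perp.1 hb x hx, add_zero] at h1
  have h2 := h c
  rw [smul_add] at h2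
  exact h2.of_add_left (hasW x hx _ (W.smul_mem _ ha) hQx (by rw [polar_smul_right, h1, smul_zero]))

/-- (4) -/
theorem four (hQ : Nondeg Q) (hH : H ≤ O Q) (hW : NondegOn Q W) (hd8 : 8 ≤ Module.finrank F W) (hasW : HasW Q H W)
    {a b c d : V} (ha : a ∈ W) (hb : b ∈ perp Q W) (hc : c ∈ W) (hd : d ∈ perp Q W) (h : Lr Q H (a + b) (c + d))
    (hac : c ∉ Submodule.span F {a}) : b ∈ PP Q H W := by
  obtain ⟨x, hx, y, hy, hQx, hQy, hxy, hyx, hax, hay, hcx⟩ := ex_line hQ hW hd8 ha hc hac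
  have hHas := hasW x hx y hy hQx hxy
  have hgH := hHas.mem hQx hxy
  have hax' : polar Q x a = 0 := by rwa [polar_comm]
  have hay' : polar Q y a = 0 := by rwa [polar_comm]
  have hbx : polar Q x b = 0 := mem_perp.1 hb x hx
  have hby : polar Q y b = 0 := mem_perp.1 hb y hy
  have hdx : polar Q x d = 0 := mem_perp.1 hd x hx
  have hdy : polar Q y d = 0 := mem_perp.1 hd y hy
  have hcx' : polar Q x c ≠ 0 := by rwa [polar_comm]
  set x' : V := polar Q x c • y - polar Q y c • x with hx'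
  have e1 : siegel Q x y hQx hxy (a + b) = a + b := by
    rw [siegel_apply, polar_add_right, polar_add_right, hax', hay', hbx, hby]
    simp
  have e2 : siegel Q x y hQx hxy (c + d) = (c + d) + x' := by
    rw [siegel_apply, polar_add_right, polar_add_right, hdx, hdy, hQy, hx']
    simp only [add_zero, zero_mul, zero_smul, sub_zero]
    abel
  have hQx' : Q x' = 0 := by
    rw [hx', sub_eq_add_neg, Q_add, QuadraticMap.map_neg, QuadraticMap.map_smul, QuadraticMap.map_smul, hQx, hQy,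
      polar_neg_right, polar_smul_left, polar_smul_right, polar_comm Q y x, hxy]
    simp
  have hx'W : x' ∈ W := W.sub_mem (W.smul_mem _ hy) (W.smul_mem _ hx)
  have hx'0 : x' ≠ 0 := by
    intro h0
    apply hyx
    rw [Submodule.mem_span_singleton]
    refine ⟨(polar Q x c)⁻¹ * polar Q y c, ?_⟩
    rw [hx', sub_eq_zero] at h0
    rw [mul_smul, ← h0, smul_smul, inv_mul_cancel₀ hcx', one_smul]
  have h1 := h.map (hH hgH) hgH
  rw [e1, e2] at h1
  have h2 := h1.sub h (by rw [add_sub_cancel_left]; exact hQx')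
  rw [add_sub_cancel_left] at h2
  exact comp_PP hH hW (by omega) hasW hx'W hQx' hx'0 ha hb h2.swap.2.2.2

/-- (5) -/
theorem five (hQ : Nondeg Q) (hH : H ≤ O Q) (hW : NondegOn Q W) (hd8 : 8 ≤ Module.finrank F W) (hasW : HasW Q H W)
    (hiso : ∀ p ∈ PP Q H W, ∀ p' ∈ PP Q H W, polar Q p p' = 0) {p s t : V} (hp : p ∈ PP Q H W) (h : Lr Q H s t)
    (hs : polar Q s p ≠ 0) (ht : polar Q t p = 0) : t ∈ PP Q H W := by
  obtain ⟨a, ha, b, hb, rfl⟩ := hW.exists_decomp s
  obtain ⟨c, hc, d, hd, rfl⟩ := hW.exists_decomp t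
  have hap : polar Q a p = 0 := mem_perp.1 hp.1 a ha
  have hcp : polar Q c p = 0 := mem_perp.1 hp.1 c hc
  -- the transformations `siegel x p`
  have key : ∀ x ∈ W, Q x = 0 → polar Q x a = 0 → polar Q x c = 0 →
      Lr Q H ((a - polar Q (a + b) p • x) + b) (c + d) := by
    intro x hx hQx hxa hxc
    have hHas := hp.2 x hx hQx 1
    rw [one_smul] at hHas
    have hxp := hHas.perp
    have hgH := hHas.mem hQx hxp
    have h1 := h.map (hH hgH) hgH
    have e1 : siegel Q x p hQx hxp (a + b) = (a - polar Q (a + b) p • x) + b := by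
      rw [siegel_apply, polar_add_right Q x a b, hxa, mem_perp.1 hb x hx, polar_comm Q p (a + b)]
      simp only [add_zero, zero_smul, mul_zero, sub_zero]
      abel
    have e2 : siegel Q x p hQx hxp (c + d) = c + d := by
      rw [siegel_apply, polar_add_right Q x c d, hxc, mem_perp.1 hd x hx, polar_comm Q p (c + d), ht]
      simp
    rwa [e1, e2] at h1
  have hc0 : c = 0 := by
    by_contra hc0
    have hf := finrank_span_pair_le (F := F) a c
    obtain ⟨x, hx, hxo, hxn, hQx⟩ := ex_sing hQ W (Submodule.span F {a, c}) (Submodule.span F {a, c}) (by omega)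
    have h1 := key x hx hQx (by rw [polar_comm]; exact hxo a (Submodule.subset_span (by simp)))
      (by rw [polar_comm]; exact hxo c (Submodule.subset_span (by simp)))
    have h2 : b ∈ PP Q H W := by
      refine four hQ hH hW hd8 hasW (W.sub_mem ha (W.smul_mem _ hx)) hb hc hd h1 ?_
      intro hmem
      obtain ⟨k, hk⟩ := Submodule.mem_span_singleton.1 hmem
      by_cases hk0 : k = 0
      · rw [hk0, zero_smul] at hk
        exact hc0 hk.symm
      · apply hxn
        rw [Submodule.mem_span_pair]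
        refine ⟨(polar Q (a + b) p)⁻¹, -((polar Q (a + b) p)⁻¹ * k⁻¹), ?_⟩
        have h3 : polar Q (a + b) p • x = a - k⁻¹ • c := by
          rw [← hk, smul_smul, inv_mul_cancel₀ hk0, one_smul]
          abel
        have h4 : x = (polar Q (a + b) p)⁻¹ • (polar Q (a + b) p • x) := by
          rw [smul_smul, inv_mul_cancel₀ hs, one_smul]
        rw [h4, h3]
        module
    have h3 := hiso b h2 p hp
    rw [polar_add_left, hap, h3, add_zero] at hs
    exact hs rfl
  subst hc0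
  -- a vector with nonzero first component
  obtain ⟨a', ha', hn, hLr⟩ : ∃ a' ∈ W, a' ≠ 0 ∧ Lr Q H (a' + b) (0 + d) := by
    by_cases ha0 : a = 0
    · obtain ⟨x, hx, -, hxn, hQx⟩ := ex_sing hQ W ⊥ ⊥ (by rw [finrank_bot]; omega)
      have h1 := key x hx hQx (by rw [ha0, polar_zero_right]) (polar_zero_right Q x)
      refine ⟨_, W.sub_mem ha (W.smul_mem _ hx), ?_, h1⟩
      rw [ha0, zero_sub, neg_ne_zero]
      rw [ha0] at hs
      exact smul_ne_zero hs (fun h0 => hxn (by rw [h0]; exact Submodule.zero_mem _))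
    · exact ⟨a, ha, ha0, h⟩
  rw [zero_add]
  refine four hQ hH hW hd8 hasW W.zero_mem hd ha' hb hLr.swap ?_
  rw [Submodule.span_zero_singleton, Submodule.mem_bot]
  exact hn

/-- (5') -/
theorem five' (hQ : Nondeg Q) (hH : H ≤ O Q) (hW : NondegOn Q W) (hd8 : 8 ≤ Module.finrank F W) (hasW : HasW Q H W)
    (hiso : ∀ p ∈ PP Q H W, ∀ p' ∈ PP Q H W, polar Q p p' = 0) {p s t : V} (hp : p ∈ PP Q H W) (h : Lr Q H s t) :
    polar Q s p • t - polar Q t p • s ∈ PP Q H W := by
  have key : ∀ s t : V, Lr Q H s t → polar Q s p ≠ 0 → polar Q s p • t - polar Q t p • s ∈ PP Q H W := by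
    intro s t h hs
    have h1 := five hQ hH hW hd8 hasW hiso hp (h.sub_self (polar Q t p * (polar Q s p)⁻¹)) hs (by
      rw [polar_sub_left, polar_smul_left, smul_eq_mul, mul_assoc, inv_mul_cancel₀ hs, mul_one, sub_self])
    have h2 := (PP Q H W).smul_mem (polar Q s p) h1
    rw [smul_sub, smul_smul, mul_comm (polar Q t p), ← mul_assoc, mul_inv_cancel₀ hs, one_mul] at h2
    exact h2
  by_cases hs : polar Q s p = 0
  · by_cases ht : polar Q t p = 0
    · rw [hs, ht, zero_smul, zero_smul, sub_zero]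
      exact Submodule.zero_mem _
    · have h1 := (PP Q H W).neg_mem (key t s h.swap ht)
      rwa [neg_sub] at h1
  · exact key s t h hs

/-! ### (3) -/

/-- the restriction of `H` to `Y` -/
def resG (Q : QuadraticForm F V) (H : Subgroup (V ≃ₗ[F] V)) (Y : Submodule F V) : Subgroup (Y ≃ₗ[F] Y) where
  carrier := {g | ∃ h ∈ H, (∀ y : Y, h (y : V) = (g y : V)) ∧ ∀ z ∈ perp Q Y, h z = z}
  mul_mem' := by
    rintro g g' ⟨h, hh, h1, h2⟩ ⟨h', hh', h1', h2'⟩
    refine ⟨h * h', H.mul_mem hh hh', fun y => ?_, fun z hz => ?_⟩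
    · show h (h' y) = _
      rw [h1', h1]; rfl
    · show h (h' z) = z
      rw [h2' z hz, h2 z hz]
  one_mem' := ⟨1, H.one_mem, fun _ => rfl, fun _ _ => rfl⟩
  inv_mem' := by
    rintro g ⟨h, hh, h1, h2⟩
    refine ⟨h⁻¹, H.inv_mem hh, fun y => ?_, fun z hz => ?_⟩
    · show h.symm (y : V) = _
      rw [LinearEquiv.symm_apply_eq, h1]
      congr 1
      exact (LinearEquiv.apply_symm_apply g y).symm
    · show h.symm z = z
      rw [LinearEquiv.symm_apply_eq, h2 z hz]

omit [Finite F] [FiniteDimensional F V] in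
theorem has_resG {Y : Submodule F V} {u w : Y} (h : Has Q H (u : V) (w : V)) : Has (res Q Y) (resG Q H Y) u w := by
  have hu : (res Q Y) u = 0 := h.1
  have hw : polar (res Q Y) u w = 0 := h.2.1
  refine ⟨hu, hw, siegel Q (u : V) (w : V) h.1 h.2.1, h.2.2, fun y => ?_, fun z hz => ?_⟩
  · rw [siegel_apply h.1 h.2.1, siegel_apply hu hw]
    rfl
  · exact siegel_fix h.1 h.2.1 (mem_perp.1 hz u u.2) (mem_perp.1 hz w w.2)

omit [Finite F] in
theorem has_of_resG {Y : Submodule F V} (hY : NondegOn Q Y) {u w : Y} (h : Has (res Q Y) (resG Q H Y) u w) :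
    Has Q H (u : V) (w : V) := by
  obtain ⟨hu, hw, g, hg, h1, h2⟩ := h
  have hu' : Q (u : V) = 0 := hu
  have hw' : polar Q (u : V) (w : V) = 0 := hw
  refine ⟨hu', hw', ?_⟩
  have e : siegel Q (u : V) (w : V) hu' hw' = g := by
    ext v
    obtain ⟨y, hy, z, hz, rfl⟩ := hY.exists_decomp v
    rw [map_add, map_add, h2 z hz, siegel_fix hu' hw' (mem_perp.1 hz u u.2) (mem_perp.1 hz w w.2)]
    have h3 := h1 ⟨y, hy⟩
    have h4 : g y = siegel Q (u : V) (w : V) hu' hw' y := by
      rw [siegel_apply]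
      rw [siegel_apply] at h3
      exact h3
    rw [h4]
  rw [e]
  exact hg

theorem hasW_sup (hW : NondegOn Q W) (hd : 5 ≤ Module.finrank F W) (hasW : HasW Q H W) {P : Submodule F V}
    (hP : P ≤ PP Q H W) (hPn : NondegOn Q P) : NondegOn Q (W ⊔ P) ∧ HasW Q H (W ⊔ P) := by
  have hPW : ∀ x ∈ W, ∀ p ∈ P, polar Q x p = 0 := fun x hx p hp => mem_perp.1 (hP hp).1 x hx
  have hN : NondegOn Q (W ⊔ P) := by
    intro y hy hy'
    obtain ⟨a, ha, b, hb, rfl⟩ := Submodule.mem_sup.1 hy
    have ha0 : a = 0 := by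
      refine hW a ha fun z hz => ?_
      have h1 := hy' z (Submodule.mem_sup_left hz)
      rw [polar_add_left, polar_comm Q b z, hPW z hz b hb, add_zero] at h1
      exact h1
    have hb0 : b = 0 := by
      refine hPn b hb fun z hz => ?_
      have h1 := hy' z (Submodule.mem_sup_right hz)
      rw [polar_add_left, hPW a ha z hz, zero_add] at h1
      exact h1
    rw [ha0, hb0, add_zero]
  refine ⟨hN, ?_⟩
  have hle : Module.finrank F W ≤ Module.finrank F (W ⊔ P : Submodule F V) := Submodule.finrank_mono le_sup_left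
  have hG : Good (res Q (W ⊔ P)) := good_res hN (by omega)
  have hfull : ∀ x (hx : x ∈ W), Q x = 0 → Full (res Q (W ⊔ P)) (resG Q H (W ⊔ P)) ⟨x, Submodule.mem_sup_left hx⟩ := by
    intro x hx hQx
    refine ⟨hQx, fun w hw => has_resG ?_⟩
    obtain ⟨a, ha, b, hb, e⟩ := Submodule.mem_sup.1 w.2
    have hw' : polar Q x (w : V) = 0 := hw
    show Has Q H x (w : V)
    rw [← e] at hw' ⊢
    rw [polar_add_right, hPW x hx b hb, add_zero] at hw'
    refine (hasW x hx a ha hQx hw').add ?_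
    have := (hP hb).2 x hx hQx 1
    rwa [one_smul] at this
  obtain ⟨x, y, hxy⟩ := (good_res hW hd).exists_hyp
  have hpol : polar Q (x : V) (y : V) = 1 := hxy.pair
  have hE := E_le_of_full_pair hG (hfull x x.2 hxy.left) (hfull y y.2 hxy.right) (by
    show polar Q (x : V) (y : V) ≠ 0
    rw [hpol]; exact one_ne_zero)
  intro u hu w hw hQu huw
  have h1 : Has (res Q (W ⊔ P)) (E (res Q (W ⊔ P))) ⟨u, hu⟩ ⟨w, hw⟩ := has_E hQu huw
  exact has_of_resG hN (h1.mono hE)

omit [Finite F] [FiniteDimensional F V] in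
/-- a space without nondegenerate subspaces is totally isotropic for the polar form -/
theorem isotropic_of {P : Submodule F V} (h : ∀ P' ≤ P, NondegOn Q P' → P' = ⊥) :
    ∀ p ∈ P, ∀ p' ∈ P, polar Q p p' = 0 := by
  have h1 : ∀ p ∈ P, polar Q p p = 0 := by
    intro p hp
    by_contra hne
    have h2 := h (Submodule.span F {p}) (by rw [Submodule.span_le, Set.singleton_subset_iff]; exact hp) (by
      intro y hy hy'
      obtain ⟨k, rfl⟩ := Submodule.mem_span_singleton.1 hy
      have h3 := hy' p (Submodule.mem_span_singleton_self p)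
      rw [polar_smul_left, smul_eq_mul] at h3
      rw [(mul_eq_zero.1 h3).resolve_right hne, zero_smul])
    rw [Submodule.span_singleton_eq_bot] at h2
    rw [h2, polar_zero_left] at hne
    exact hne rfl
  intro p hp p' hp'
  by_contra hne
  have h2 := h (Submodule.span F {p, p'}) (by
    rw [Submodule.span_le]
    rintro z (rfl | hz)
    · exact hp
    · rw [Set.mem_singleton_iff] at hz
      rw [hz]; exact hp') (by
    intro y hy hy'
    obtain ⟨k, l, rfl⟩ := Submodule.mem_span_pair.1 hy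
    have h3 := hy' p (Submodule.subset_span (by simp))
    have h4 := hy' p' (Submodule.subset_span (by simp))
    rw [polar_add_left, polar_smul_left, polar_smul_left, h1 p hp, polar_comm Q p' p, smul_zero, zero_add,
      smul_eq_mul] at h3
    rw [polar_add_left, polar_smul_left, polar_smul_left, h1 p' hp', smul_zero, add_zero, smul_eq_mul] at h4
    rw [(mul_eq_zero.1 h3).resolve_right hne, (mul_eq_zero.1 h4).resolve_right hne]
    simp)
  have h3 : p ∈ Submodule.span F {p, p'} := Submodule.subset_span (by simp)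
  rw [h2, Submodule.mem_bot] at h3
  rw [h3, polar_zero_left] at hne
  exact hne rfl

/-- for maximal `W` the space `PP` is isotropic -/
theorem iso_of_max (hW : NondegOn Q W) (hd : 5 ≤ Module.finrank F W) (hasW : HasW Q H W)
    (hmax : ∀ W' : Submodule F V, NondegOn Q W' → HasW Q H W' → W ≤ W' → W' = W) :
    ∀ p ∈ PP Q H W, ∀ p' ∈ PP Q H W, polar Q p p' = 0 := by
  refine isotropic_of fun P' hP' hn => ?_
  obtain ⟨h1, h2⟩ := hasW_sup hW hd hasW hP' hn
  have h3 := hmax _ h1 h2 le_sup_left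
  rw [eq_bot_iff]
  intro p hp
  have h4 : p ∈ W := by rw [← h3]; exact Submodule.mem_sup_right hp
  rw [Submodule.mem_bot]
  exact hW p h4 fun z hz => by rw [polar_comm]; exact mem_perp.1 (hP' hp).1 z hz

/-! ### (6): `PP = 0` -/

/-- the group generated by the root groups of the lines -/
def RR (Q : QuadraticForm F V) (H : Subgroup (V ≃ₗ[F] V)) : Subgroup (V ≃ₗ[F] V) :=
  Subgroup.closure {g | ∃ (s t : V) (hs : Q s = 0) (ht : polar Q s t = 0), Lr Q H s t ∧ g = siegel Q s t hs ht}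

omit [Finite F] [FiniteDimensional F V] in
theorem mem_RR {s t : V} (h : Lr Q H s t) : siegel Q s t h.1 h.2.2.1 ∈ RR Q H :=
  Subgroup.subset_closure ⟨s, t, h.1, h.2.2.1, h, rfl⟩

omit [Finite F] [FiniteDimensional F V] in
theorem RR_conj (hH : H ≤ O Q) {h r : V ≃ₗ[F] V} (hh : h ∈ H) (hr : r ∈ RR Q H) : h * r * h⁻¹ ∈ RR Q H := by
  induction hr using Subgroup.closure_induction with
  | mem x hx =>
    obtain ⟨s, t, hs, ht, hL, rfl⟩ := hx
    have h1 := hL.map (hH hh) hh
    have h2 : h * siegel Q s t hs ht * h⁻¹ = siegel Q (h s) (h t) h1.1 h1.2.2.1 :=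
      siegel_conj (hH hh) hs ht h1.1 h1.2.2.1
    rw [h2]
    exact mem_RR h1
  | one => rw [mul_one, mul_inv_cancel]; exact Subgroup.one_mem _
  | mul x y _ _ hx hy =>
    have e : h * (x * y) * h⁻¹ = (h * x * h⁻¹) * (h * y * h⁻¹) := by group
    rw [e]; exact Subgroup.mul_mem _ hx hy
  | inv x _ hx =>
    have e : h * x⁻¹ * h⁻¹ = (h * x * h⁻¹)⁻¹ := by group
    rw [e]; exact Subgroup.inv_mem _ hx

theorem RR_inv_PP (hQ : Nondeg Q) (hH : H ≤ O Q) (hW : NondegOn Q W) (hd8 : 8 ≤ Module.finrank F W) (hasW : HasW Q H W)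
    (hiso : ∀ p ∈ PP Q H W, ∀ p' ∈ PP Q H W, polar Q p p' = 0) : ∀ r ∈ RR Q H, _root_.Cfsg.Agent.H847.Bs.Inv r (PP Q H W) := by
  have key : RR Q H ≤ Cfsg.Agent.H883.Bridge.stab (PP Q H W) := by
    rw [RR, Subgroup.closure_le]
    rintro _ ⟨s, t, hs, ht, hL, rfl⟩
    refine Cfsg.Agent.H883.Bridge.mem_stab_of_le fun p hp => ?_
    have h1 := five' hQ hH hW hd8 hasW hiso hp hL
    rw [siegel_apply, hL.2.1, zero_mul, zero_smul, sub_zero, add_sub_assoc]
    exact Submodule.add_mem _ hp h1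
  intro r hr v hv
  exact (Cfsg.Agent.H883.Bridge.mem_stab.1 (key hr) v).1 hv

theorem PP_eq_bot (hQ : Nondeg Q) (hH : H ≤ O Q) (hirr : IrrG H) (hW : NondegOn Q W) (hd8 : 8 ≤ Module.finrank F W)
    (hasW : HasW Q H W) (hiso : ∀ p ∈ PP Q H W, ∀ p' ∈ PP Q H W, polar Q p p' = 0) : PP Q H W = ⊥ := by
  obtain ⟨C, hC, hcomp⟩ := exists_compl (H := H) (R := RR Q H) (fun h hh r hr => by
    have := RR_conj hH (H.inv_mem hh) hr
    rwa [inv_inv] at this) hirr (RR_inv_PP hQ hH hW hd8 hasW hiso)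
  -- singular vectors of `W` are in `C`
  have hsing : ∀ x ∈ W, Q x = 0 → x ∈ C := by
    intro x hx hQx
    by_cases hx0 : x = 0
    · rw [hx0]; exact C.zero_mem
    have h1 := finrank_span_single_le (F := F) x
    obtain ⟨y, hy, hyo, hyn, hQy⟩ := ex_sing hQ W (Submodule.span F {x}) (Submodule.span F {x}) (by omega)
    have hxy := hyo x (Submodule.mem_span_singleton_self x)
    obtain ⟨v, hxv, hyv⟩ := exists_sep hQ (x := y) (z := x) (by
      intro c hc
      apply hyn
      rw [hc]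
      exact Submodule.smul_mem _ _ (Submodule.mem_span_singleton_self x))
    have hL := hasW.lr hx hy hQx hQy hxy
    obtain ⟨p, hp, c, hc, e⟩ : ∃ p ∈ PP Q H W, ∃ c ∈ C, p + c = v := by
      have : v ∈ PP Q H W ⊔ C := by rw [hcomp.sup_eq_top]; exact Submodule.mem_top
      exact Submodule.mem_sup.1 this
    have hgv : siegel Q x y hL.1 hL.2.2.1 v = v - x := by
      rw [siegel_apply, hxv, hyv, hQy]
      simp
    have hgp : siegel Q x y hL.1 hL.2.2.1 p = p :=
      siegel_fix _ _ (mem_perp.1 hp.1 x hx) (mem_perp.1 hp.1 y hy)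
    have hgc := hC _ (mem_RR hL) c hc
    rw [← e, map_add, hgp] at hgv
    have h2 : x = c - siegel Q x y hL.1 hL.2.2.1 c := by
      have h3 : siegel Q x y hL.1 hL.2.2.1 c = c - x := by
        have h4 : p + siegel Q x y hL.1 hL.2.2.1 c = p + (c - x) := by rw [hgv]; abel
        exact add_left_cancel h4
      rw [h3]; abel
    rw [h2]
    exact C.sub_mem hc hgc
  have hG : Good (res Q W) := good_res hW (by omega)
  obtain ⟨x, x', hxx⟩ := hG.exists_hyp
  have hWC : W ≤ C := by
    intro v hv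
    exact sing_induction hxx (P := fun v : W => (v : V) ∈ C) (fun a c ha hc => C.add_mem ha hc)
      (fun a ha => hsing a a.2 ha) ⟨v, hv⟩
  obtain ⟨z, w, hzw, hxz, hxw, hx'z, hx'w⟩ := hG.exists_hyp2 hxx
  rw [eq_bot_iff]
  intro p hp
  -- `y = p + (z - Q p w)` is singular and orthogonal to `x`
  have hzw1 : polar Q (z : V) (w : V) = 1 := hzw.pair
  have hQz : Q (z : V) = 0 := hzw.left
  have hQw : Q (w : V) = 0 := hzw.right
  have hxx1 : polar Q (x : V) (x' : V) = 1 := hxx.pair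
  have hQx : Q (x : V) = 0 := hxx.left
  have hxz' : polar Q (x : V) (z : V) = 0 := hxz
  have hxw' : polar Q (x : V) (w : V) = 0 := hxw
  have hx'z' : polar Q (x' : V) (z : V) = 0 := hx'z
  have hx'w' : polar Q (x' : V) (w : V) = 0 := hx'w
  set y1 : V := (z : V) - Q p • (w : V) with hy1
  have hy1W : y1 ∈ W := W.sub_mem z.2 (W.smul_mem _ w.2)
  have hQy1 : Q y1 = - Q p := by
    rw [hy1, sub_eq_add_neg, Q_add, QuadraticMap.map_neg, QuadraticMap.map_smul, hQz, hQw, polar_neg_right,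
      polar_smul_right, hzw1]
    simp
  have hxy1 : polar Q (x : V) y1 = 0 := by
    rw [hy1, polar_sub_right, polar_smul_right, hxz', hxw', smul_zero, sub_zero]
  have hxp : polar Q (x : V) p = 0 := mem_perp.1 hp.1 x x.2
  have hx'p : polar Q (x' : V) p = 0 := mem_perp.1 hp.1 x' x'.2
  have hL : Lr Q H (x : V) (p + y1) := by
    refine ⟨hQx, ?_, ?_, fun c => ?_⟩
    · rw [Q_add, hQy1, polar_comm, mem_perp.1 hp.1 y1 hy1W]
      ring
    · rw [polar_add_right, hxp, hxy1, add_zero]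
    · rw [smul_add]
      refine (hp.2 x x.2 hQx c).add (hasW x x.2 _ (W.smul_mem _ hy1W) hQx ?_)
      rw [polar_smul_right, hxy1, smul_zero]
  have h1 := hC _ (mem_RR hL) x' (hWC x'.2)
  rw [siegel_apply, hL.2.1, zero_mul, zero_smul, sub_zero, hxx1, one_smul] at h1
  have h2 : p ∈ C := by
    have h3 : p = ((x' : V) + (p + y1) - polar Q (p + y1) (x' : V) • (x : V)) - (x' : V) - y1 +
        polar Q (p + y1) (x' : V) • (x : V) := by abel
    rw [h3]
    exact C.add_mem (C.sub_mem (C.sub_mem h1 (hWC x'.2)) (hWC hy1W)) (C.smul_mem _ (hWC x.2))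
  have h3 : p ∈ PP Q H W ⊓ C := ⟨hp, h2⟩
  rwa [hcomp.inf_eq_bot] at h3

/-! ### (7) -/

theorem side (hQ : Nondeg Q) (hH : H ≤ O Q) (hW : NondegOn Q W) (hd8 : 8 ≤ Module.finrank F W) (hasW : HasW Q H W)
    (hbot : PP Q H W = ⊥) {s t : V} (h : Lr Q H s t) (hs : s ≠ 0) (hst : t ∉ Submodule.span F {s}) :
    (s ∈ W ∧ t ∈ W) ∨ (s ∈ perp Q W ∧ t ∈ perp Q W) := by
  obtain ⟨a, ha, b, hb, rfl⟩ := hW.exists_decomp s
  obtain ⟨c, hc, d, hd, rfl⟩ := hW.exists_decomp t
  have hb0 : c ∉ Submodule.span F {a} → b = 0 := by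
    intro hn
    have := four hQ hH hW hd8 hasW ha hb hc hd h hn
    rwa [hbot, Submodule.mem_bot] at this
  have hd0 : a ∉ Submodule.span F {c} → d = 0 := by
    intro hn
    have := four hQ hH hW hd8 hasW hc hd ha hb h.swap hn
    rwa [hbot, Submodule.mem_bot] at this
  by_cases h1 : c ∈ Submodule.span F {a}
  · by_cases h2 : a ∈ Submodule.span F {c}
    · by_cases ha0 : a = 0
      · right
        have hc0 : c = 0 := by
          rw [ha0, Submodule.span_zero_singleton, Submodule.mem_bot] at h1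
          exact h1
        rw [ha0, hc0, zero_add, zero_add]
        exact ⟨hb, hd⟩
      · exfalso
        obtain ⟨k, hk⟩ := Submodule.mem_span_singleton.1 h1
        have h3 := h.sub_self k
        have e : c + d - k • (a + b) = 0 + (d - k • b) := by
          rw [← hk]; module
        rw [e] at h3
        have h4 := four hQ hH hW hd8 hasW W.zero_mem (Submodule.sub_mem _ hd (Submodule.smul_mem _ k hb)) ha hb h3.swap
          (by rw [Submodule.span_zero_singleton, Submodule.mem_bot]; exact ha0)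
        rw [hbot, Submodule.mem_bot] at h4
        rw [h4, add_zero, sub_eq_zero] at e
        apply hst
        rw [e]
        exact Submodule.smul_mem _ _ (Submodule.mem_span_singleton_self _)
    · -- `a ∉ ⟨c⟩`, `c ∈ ⟨a⟩`: then `c = 0`, `d = 0`, `t = 0`
      exfalso
      have h3 := hd0 h2
      obtain ⟨k, hk⟩ := Submodule.mem_span_singleton.1 h1
      by_cases hk0 : k = 0
      · rw [hk0, zero_smul] at hk
        apply hst
        rw [← hk, h3, add_zero]
        exact Submodule.zero_mem _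
      · apply h2
        rw [Submodule.mem_span_singleton]
        exact ⟨k⁻¹, by rw [← hk, smul_smul, inv_mul_cancel₀ hk0, one_smul]⟩
  · have hb1 := hb0 h1
    by_cases h2 : a ∈ Submodule.span F {c}
    · exfalso
      obtain ⟨k, hk⟩ := Submodule.mem_span_singleton.1 h2
      by_cases hk0 : k = 0
      · rw [hk0, zero_smul] at hk
        apply hs
        rw [← hk, hb1, add_zero]
      · apply h1
        rw [Submodule.mem_span_singleton]
        exact ⟨k⁻¹, by rw [← hk, smul_smul, inv_mul_cancel₀ hk0, one_smul]⟩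
    · left
      rw [hb1, hd0 h2, add_zero, add_zero]
      exact ⟨ha, hc⟩

/-! ### (8) -/

theorem block (hQ : Nondeg Q) (hH : H ≤ O Q) (hW : NondegOn Q W) (hd8 : 8 ≤ Module.finrank F W) (hasW : HasW Q H W)
    (hbot : PP Q H W = ⊥) {h : V ≃ₗ[F] V} (hh : h ∈ H) :
    (∀ x ∈ W, h x ∈ W) ∨ (∀ x ∈ W, h x ∈ perp Q W) := by
  have hside : ∀ x ∈ W, ∀ y ∈ W, Q x = 0 → Q y = 0 → polar Q x y = 0 → x ≠ 0 → y ∉ Submodule.span F {x} →
      (h x ∈ W ∧ h y ∈ W) ∨ (h x ∈ perp Q W ∧ h y ∈ perp Q W) := by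
    intro x hx y hy hQx hQy hxy hx0 hxy'
    refine side hQ hH hW hd8 hasW hbot ((hasW.lr hx hy hQx hQy hxy).map (hH hh) hh) ?_ ?_
    · intro h0
      exact hx0 (h.injective (by rw [h0, map_zero]))
    · intro hm
      obtain ⟨k, hk⟩ := Submodule.mem_span_singleton.1 hm
      apply hxy'
      rw [Submodule.mem_span_singleton]
      exact ⟨k, h.injective (by rw [map_smul, hk])⟩
  have hnot : ∀ v : V, v ∈ W → v ∈ perp Q W → v = 0 := fun v hv hv' =>
    hW v hv fun z hz => mem_perp'.1 hv' z hz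
  have hG : Good (res Q W) := good_res hW (by omega)
  obtain ⟨x, x', hxx⟩ := hG.exists_hyp
  have hQx : Q (x : V) = 0 := hxx.left
  have hx0 : (x : V) ≠ 0 := fun h0 => hxx.left_ne (Subtype.ext h0)
  have hall : ∀ y ∈ W, Q y = 0 → (h x ∈ W → h y ∈ W) ∧ (h x ∈ perp Q W → h y ∈ perp Q W) ∧
      (h x ∈ W ∨ h x ∈ perp Q W) := by
    intro y hy hQy
    have hf := finrank_span_pair_le (F := F) (x : V) y
    obtain ⟨z, hz, hzo, hzn, hQz⟩ := ex_sing hQ W (Submodule.span F {(x : V), y}) (Submodule.span F {(x : V), y})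
      (by omega)
    have hxz := hzo x (Submodule.subset_span (by simp))
    have hyz := hzo y (Submodule.subset_span (by simp))
    have hz0 : z ≠ 0 := fun h0 => hzn (by rw [h0]; exact Submodule.zero_mem _)
    have h1 := hside x x.2 z hz hQx hQz hxz hx0 (fun hm => hzn (Submodule.span_mono (by simp) hm))
    have hhz0 : h z ≠ 0 := fun h0 => hz0 (h.injective (by rw [h0, map_zero]))
    have hhx0 : h x ≠ 0 := fun h0 => hx0 (h.injective (by rw [h0, map_zero]))
    by_cases hy0 : y = 0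
    · rw [hy0, map_zero]
      exact ⟨fun _ => W.zero_mem, fun _ => Submodule.zero_mem _, h1.imp And.left And.left⟩
    have h2 := hside y hy z hz hQy hQz hyz hy0 (fun hm => hzn (Submodule.span_mono (by simp) hm))
    refine ⟨fun hxW => ?_, fun hxW => ?_, h1.imp And.left And.left⟩
    · rcases h1 with h1 | h1
      · rcases h2 with h2 | h2
        · exact h2.1
        · exact absurd (hnot _ h1.2 h2.2) hhz0
      · exact absurd (hnot _ hxW h1.1) hhx0
    · rcases h1 with h1 | h1
      · exact absurd (hnot _ h1.1 hxW) hhx0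
      · rcases h2 with h2 | h2
        · exact absurd (hnot _ h2.2 h1.2) hhz0
        · exact h2.1
  rcases (hall 0 W.zero_mem (QuadraticMap.map_zero Q)).2.2 with hx | hx
  · left
    intro v hv
    exact sing_induction hxx (P := fun v : W => h (v : V) ∈ W)
      (fun a c ha hc => by
        show h ((a : V) + (c : V)) ∈ W
        rw [map_add]; exact W.add_mem ha hc)
      (fun a ha => (hall a a.2 ha).1 hx) ⟨v, hv⟩
  · right
    intro v hv
    exact sing_induction hxx (P := fun v : W => h (v : V) ∈ perp Q W)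
      (fun a c ha hc => by
        show h ((a : V) + (c : V)) ∈ perp Q W
        rw [map_add]; exact Submodule.add_mem _ ha hc)
      (fun a ha => (hall a a.2 ha).2.1 hx) ⟨v, hv⟩

end fin

/-- **BS33** (generation, orthogonal groups, all characteristics) -/
theorem gen_omega [Finite F] [FiniteDimensional F V] (hQ : Nondeg Q) (hH : H ≤ O Q) (hirr : IrrG H)
    {W₀ : Submodule F V} (hW₀ : (frmQ Q).NdOn W₀) (hd : 8 ≤ Module.finrank F W₀)
    (hhas : ∀ u ∈ W₀, ∀ w ∈ W₀, Q u = 0 → polar Q u w = 0 → Has Q H u w) :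
    E Q ≤ H ∨ ∃ D : Submodule F V, Blk (frmQ Q) H D ∧ 8 ≤ Module.finrank F D := by
  have wf : WellFounded ((· > ·) : Submodule F V → Submodule F V → Prop) := wellFounded_gt
  obtain ⟨W, ⟨hW, hasW, hd8⟩, hmax⟩ := wf.has_min
    {W : Submodule F V | NondegOn Q W ∧ HasW Q H W ∧ 8 ≤ Module.finrank F W} ⟨W₀, hW₀, hhas, hd⟩
  have hmax' : ∀ W' : Submodule F V, NondegOn Q W' → HasW Q H W' → W ≤ W' → W' = W := by
    intro W' h1 h2 h3
    by_contra hne
    exact hmax W' ⟨h1, h2, hd8.trans (Submodule.finrank_mono h3)⟩ (lt_of_le_of_ne h3 (Ne.symm hne))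
  have hiso := iso_of_max hW (by omega) hasW hmax'
  have hbot := PP_eq_bot hQ hH hirr hW hd8 hasW hiso
  by_cases htop : W = ⊤
  · left
    have hG : Good Q := good_of_finite hQ (by
      rw [htop, finrank_top] at hd8
      omega)
    refine E_le_of_sing hG fun u w hu _ hp => hasW u (by rw [htop]; exact Submodule.mem_top) w
      (by rw [htop]; exact Submodule.mem_top) hu hp
  · right
    refine ⟨W, ⟨htop, hW, fun h hh => ?_⟩, hd8⟩
    rcases block hQ hH hW hd8 hasW hbot hh with h1 | h1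
    · left
      refine Submodule.eq_of_le_of_finrank_eq ?_ ?_
      · rintro _ ⟨x, hx, rfl⟩
        exact h1 x hx
      · exact LinearEquiv.finrank_map_eq h W
    · right
      rintro _ ⟨x, hx, rfl⟩ y hy
      show polar Q (h x) y = 0
      rw [polar_comm]
      exact mem_perp.1 (h1 x hx) y hy

end Cfsg.Agent.H984.Bs
end

private theorem dce_e2c7d8d525cc : _root_.True := by
  try have : _root_.True := by simp only [_root_.Cfsg.Agent.H984.Bs.RR.eq_1]
  exact _root_.True.intro
end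
end
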